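import Groth.Agent.FCohLib.RealSec
import Groth.Agent.KFlatLib.AffinePull
import Groth.Agent.FComplLib.Modules

/-!
# Systems of quasi-coherent modules over an affine open
-/

set_option autoImplicit false
set_option linter.style.haveILetI false
set_option maxHeartbeats 800000

universe u

open CategoryTheory CategoryTheory.Limits AlgebraicGeometry TopologicalSpace Opposite FSch

noncomputable section

namespace FCohLib

theorem mem_ker_iff_of_isBaseChange {R S M N : Type u} [CommRing R] [CommRing S] [Algebra R S] [AddCommGroup M]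
    [Module R M] [AddCommGroup N] [Module R N] [Module S N] [IsScalarTower R S N] (l : M →ₗ[R] N)
    (hl : IsBaseChange S l) (hs : Function.Surjective (algebraMap R S)) :
    Function.Surjective l ∧ ∀ m, l m = 0 ↔ m ∈ RingHom.ker (algebraMap R S) • (⊤ : Submodule R M) := by
  refine ⟨fun y => ?_, fun m => ⟨fun hm => ?_, fun hm => ?_⟩⟩
  · refine hl.inductionOn y (fun y => ∃ m, l m = y) ⟨0, map_zero l⟩ (fun m => ⟨m, rfl⟩) ?_ ?_
    · rintro s y ⟨m, rfl⟩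
      obtain ⟨r, rfl⟩ := hs s
      exact ⟨r • m, by rw [map_smul, algebraMap_smul]⟩
    · rintro y y' ⟨m, rfl⟩ ⟨m', rfl⟩
      exact ⟨m + m', map_add _ _ _⟩
  · refine FComplLib.mem_smul_top_of_tmul_eq_zero hs (hl.equiv.injective ?_)
    rw [IsBaseChange.equiv_tmul, map_zero, one_smul, hm]
  · refine Submodule.smul_induction_on hm (fun r hr x _ => ?_) (fun a b ha hb => by rw [map_add, ha, hb, add_zero])
    rw [map_smul, ← algebraMap_smul S r (l x), RingHom.mem_ker.1 hr, zero_smul]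

variable {𝔛 : Sys.{u}} (h : 𝔛.IsFormal) (𝔐 : ModSys 𝔛)

theorem lvT_toPush (k : ℕ) (V : (𝔛.X 0).Opens) (m : Γ(𝔐.F (k + 1), 𝔛.lvU h (k + 1) V)) :
    lvT h 𝔐.F 𝔐.toPush k V m =
      (𝔐.e k).hom.app (𝔛.lvU h k V) (KFlatLib.puSecLE (𝔛.ι k) (𝔐.F (k + 1)) (𝔛.lvU_le h k V) m) := by
  have e : 𝔐.toPush k = (Scheme.Modules.pullbackPushforwardAdjunction (𝔛.ι k)).unit.app (𝔐.F (k + 1)) ≫
      (Scheme.Modules.pushforward (𝔛.ι k)).map (𝔐.e k).hom := Adjunction.homEquiv_unit _ _ _ _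
  unfold lvT
  rw [e]
  exact (PresheafOfModules.naturality_apply (𝔐.e k).hom.val (homOfLE (𝔛.lvU_le h k V)).op _).symm

/-- The ideal of a level in the next one, over an open. -/
abbrev lvK (k : ℕ) (V : (𝔛.X 0).Opens) : Ideal Γ(𝔛.X (k + 1), 𝔛.lvU h (k + 1) V) :=
  RingHom.ker ((𝔛.ι k).appLE (𝔛.lvU h (k + 1) V) (𝔛.lvU h k V) (𝔛.lvU_le h k V)).hom

theorem affine_lvT {V : (𝔛.X 0).Opens} (hV : IsAffineOpen V) (k : ℕ) [Coh.IsQCoh (𝔐.F (k + 1))] :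
    Function.Surjective (lvT h 𝔐.F 𝔐.toPush k V) ∧
      ∀ m, lvT h 𝔐.F 𝔐.toPush k V m = 0 ↔
        m ∈ lvK h k V •
          (⊤ : Submodule Γ(𝔛.X (k + 1), 𝔛.lvU h (k + 1) V) Γ(𝔐.F (k + 1), 𝔛.lvU h (k + 1) V)) := by
  let φ : Γ(𝔛.X (k + 1), 𝔛.lvU h (k + 1) V) →+* Γ(𝔛.X k, 𝔛.lvU h k V) :=
    ((𝔛.ι k).appLE _ _ (𝔛.lvU_le h k V)).hom
  letI := φ.toAlgebra
  let P := (Scheme.Modules.pullback (𝔛.ι k)).obj (𝔐.F (k + 1))
  letI : Module Γ(𝔛.X (k + 1), 𝔛.lvU h (k + 1) V) Γ(P, 𝔛.lvU h k V) := Module.compHom _ φ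
  have : IsScalarTower Γ(𝔛.X (k + 1), 𝔛.lvU h (k + 1) V) Γ(𝔛.X k, 𝔛.lvU h k V) Γ(P, 𝔛.lvU h k V) :=
    IsScalarTower.of_algebraMap_smul fun _ _ => rfl
  let ψ : Γ(𝔐.F (k + 1), 𝔛.lvU h (k + 1) V) →ₗ[Γ(𝔛.X (k + 1), 𝔛.lvU h (k + 1) V)] Γ(P, 𝔛.lvU h k V) :=
    { toFun := KFlatLib.puSecLE (𝔛.ι k) (𝔐.F (k + 1)) (𝔛.lvU_le h k V)
      map_add' := map_add _
      map_smul' := fun r m => KFlatLib.puSecLE_smul (𝔛.ι k) (𝔐.F (k + 1)) (𝔛.lvU_le h k V) r m }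
  obtain ⟨hs, hk⟩ := mem_ker_iff_of_isBaseChange ψ
    (KFlatLib.isBaseChange_puSec (𝔛.ι k) (𝔐.F (k + 1)) (FModLib.isAffineOpen_lvU h hV (k + 1))
      (FModLib.isAffineOpen_lvU h hV k) (𝔛.lvU_le h k V) (fun _ => rfl) ψ (fun _ => rfl))
    (FModLib.levelMap_surjective h V k hV)
  have hinj : ∀ y : Γ(P, 𝔛.lvU h k V), (𝔐.e k).hom.app _ y = 0 ↔ y = 0 := fun y => by
    refine ⟨fun hy => ?_, fun hy => by rw [hy, map_zero]⟩
    have h1 := congr($(congrArg (fun a : P ⟶ P => a.app (𝔛.lvU h k V)) (𝔐.e k).hom_inv_id) y)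
    exact h1.symm.trans ((congrArg ((𝔐.e k).inv.app _) hy).trans (map_zero _))
  refine ⟨fun y => ?_, fun m => ?_⟩
  · obtain ⟨m, hm⟩ := hs ((𝔐.e k).inv.app _ y)
    refine ⟨m, (lvT_toPush h 𝔐 k V m).trans ((congrArg ((𝔐.e k).hom.app _) hm).trans ?_)⟩
    exact congr($(congrArg (fun a : 𝔐.F k ⟶ 𝔐.F k => a.app (𝔛.lvU h k V)) (𝔐.e k).inv_hom_id) y)
  · rw [lvT_toPush]
    exact (hinj _).trans (hk m)

end FCohLib

end
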