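import Groth.Agent.FModLib.CompSys
import Groth.Agent.FormalCohLib.ClosedAlg
import Groth.Agent.GrSysLib.Step
import Groth.Agent.CycKSuppLib.Killed
import Groth.Agent.VBResLib.RegPush

/-!
# Systems of modules on the completion as inverse systems on the scheme
-/

set_option autoImplicit false
set_option linter.style.haveILetI false
set_option maxHeartbeats 800000

universe u

open CategoryTheory CategoryTheory.Limits AlgebraicGeometry TopologicalSpace Opposite FSch

noncomputable section

namespace FCohLib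

section Tri

variable {Z Z' X : Scheme.{u}} (ι : Z ⟶ Z') (i : Z' ⟶ X) {j : Z ⟶ X} (hc : ι ≫ i = j)

/-- The composite direct image. -/
abbrev pushTri : Scheme.Modules.pushforward ι ⋙ Scheme.Modules.pushforward i ≅ Scheme.Modules.pushforward j :=
  Scheme.Modules.pushforwardComp ι i ≪≫ Scheme.Modules.pushforwardCongr hc

/-- The composite inverse image. -/
abbrev pullTri : Scheme.Modules.pullback i ⋙ Scheme.Modules.pullback ι ≅ Scheme.Modules.pullback j :=
  Scheme.Modules.pullbackComp ι i ≪≫ Scheme.Modules.pullbackCongr hc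

theorem unit_tri (F : X.Modules) :
    (Scheme.Modules.pullbackPushforwardAdjunction i).unit.app F ≫
      (Scheme.Modules.pushforward i).map ((Scheme.Modules.pullbackPushforwardAdjunction ι).unit.app
        ((Scheme.Modules.pullback i).obj F)) ≫
        (pushTri ι i hc).hom.app ((Scheme.Modules.pullback ι).obj ((Scheme.Modules.pullback i).obj F)) =
    (Scheme.Modules.pullbackPushforwardAdjunction j).unit.app F ≫
      (Scheme.Modules.pushforward j).map ((pullTri ι i hc).inv.app F) := by
  subst hc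
  have h := unit_conjugateEquiv ((Scheme.Modules.pullbackPushforwardAdjunction i).comp
    (Scheme.Modules.pullbackPushforwardAdjunction ι)) (Scheme.Modules.pullbackPushforwardAdjunction (ι ≫ i))
    (Scheme.Modules.pullbackComp ι i).inv F
  rw [Scheme.Modules.conjugateEquiv_pullbackComp_inv, Adjunction.comp_unit_app] at h
  have e1 : (pullTri ι i rfl).inv.app F = (Scheme.Modules.pullbackComp ι i).inv.app F := by
    show (Scheme.Modules.pullbackCongr rfl).inv.app F ≫ _ = _
    simp [Scheme.Modules.pullbackCongr]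
  have e2 : ∀ N, (pushTri ι i rfl).hom.app N = (Scheme.Modules.pushforwardComp ι i).hom.app N := fun N => by
    refine Scheme.Modules.hom_ext _ _ fun U => ?_
    simp
  rw [e1, e2]
  exact (Category.assoc _ _ _).symm.trans h

/-- **The maps to a smaller closed subscheme through a bigger one.** -/
theorem unit_tri' (F : X.Modules) {N : Z'.Modules} {M : Z.Modules} (φ : (Scheme.Modules.pullback i).obj F ⟶ N)
    (e : (Scheme.Modules.pullback ι).obj N ⟶ M) :
    ((Scheme.Modules.pullbackPushforwardAdjunction i).unit.app F ≫ (Scheme.Modules.pushforward i).map φ) ≫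
      (Scheme.Modules.pushforward i).map ((Scheme.Modules.pullbackPushforwardAdjunction ι).unit.app N ≫
        (Scheme.Modules.pushforward ι).map e) ≫ (pushTri ι i hc).hom.app M =
    (Scheme.Modules.pullbackPushforwardAdjunction j).unit.app F ≫ (Scheme.Modules.pushforward j).map
      ((pullTri ι i hc).inv.app F ≫ (Scheme.Modules.pullback ι).map φ ≫ e) := by
  have hn := (Scheme.Modules.pullbackPushforwardAdjunction ι).unit.naturality φ
  have hc' := (pushTri ι i hc).hom.naturality ((Scheme.Modules.pullback ι).map φ ≫ e)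
  simp only [Functor.comp_map] at hc'
  have h := unit_tri ι i hc F
  simp only [Functor.id_map] at hn
  simp only [Functor.map_comp, Category.assoc] at hc' ⊢
  rw [← Functor.map_comp_assoc (Scheme.Modules.pushforward i) φ, hn]
  simp only [Functor.map_comp, Category.assoc, Functor.comp_map, hc']
  exact (reassoc_of% h) _

theorem push_tri_eq (N : Z'.Modules) {M : Z.Modules} (e : (Scheme.Modules.pullback ι).obj N ⟶ M) :
    (Scheme.Modules.pushforward i).map ((Scheme.Modules.pullbackPushforwardAdjunction ι).unit.app N ≫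
        (Scheme.Modules.pushforward ι).map e) ≫ (pushTri ι i hc).hom.app M =
    (Scheme.Modules.pullbackPushforwardAdjunction j).unit.app ((Scheme.Modules.pushforward i).obj N) ≫
      (Scheme.Modules.pushforward j).map ((pullTri ι i hc).inv.app ((Scheme.Modules.pushforward i).obj N) ≫
        (Scheme.Modules.pullback ι).map ((Scheme.Modules.pullbackPushforwardAdjunction i).counit.app N) ≫ e) := by
  refine Eq.trans ?_ (unit_tri' ι i hc ((Scheme.Modules.pushforward i).obj N)
    ((Scheme.Modules.pullbackPushforwardAdjunction i).counit.app N) e)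
  exact (Category.id_comp _).symm.trans (congrArg (fun q => q ≫ _)
    ((Scheme.Modules.pullbackPushforwardAdjunction i).right_triangle_components N).symm)

/-- A factorisation through the cokernel by an isomorphism. -/
theorem exists_isIso_desc {C : Type*} [Category* C] [HasZeroMorphisms C] {P F Q R T : C} {s : P ⟶ F} [HasCokernel s]
    {π : F ⟶ Q} (hπ : s ≫ π = 0) (hq : IsIso (cokernel.desc s π hπ)) {α : Q ≅ R} {u : F ⟶ R} (hα : π ≫ α.hom = u)
    {χ : R ⟶ T} [IsIso χ] {g : F ⟶ T} (hg : g = u ≫ χ) : ∃ h : s ≫ g = 0, IsIso (cokernel.desc s g h) := by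
  have h0 : s ≫ g = 0 := by rw [hg, ← hα, ← Category.assoc, ← Category.assoc, hπ, zero_comp, zero_comp]
  have h1 : cokernel.desc s g h0 = cokernel.desc s π hπ ≫ α.hom ≫ χ :=
    coequalizer.hom_ext ((cokernel.π_desc _ _ h0).trans (by
      rw [← Category.assoc, cokernel.π_desc, ← Category.assoc, hα, hg]))
  exact ⟨h0, h1 ▸ inferInstance⟩

theorem push_map_injective [IsClosedImmersion i] {N : Z'.Modules} {F : X.Modules}
    {a b : (Scheme.Modules.pullback i).obj F ⟶ N}
    (h : (Scheme.Modules.pullbackPushforwardAdjunction i).unit.app F ≫ (Scheme.Modules.pushforward i).map a =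
      (Scheme.Modules.pullbackPushforwardAdjunction i).unit.app F ≫ (Scheme.Modules.pushforward i).map b) : a = b :=
  ((Scheme.Modules.pullbackPushforwardAdjunction i).homEquiv F N).injective
    (((Scheme.Modules.pullbackPushforwardAdjunction i).homEquiv_unit _ _ _).trans
      (h.trans ((Scheme.Modules.pullbackPushforwardAdjunction i).homEquiv_unit _ _ _).symm))

end Tri

section Sys

variable {A : Type u} [CommRing A] (I : Ideal A) {X : Scheme.{u}} [X.Over (Spec (CommRingCat.of A))]
  (𝓘 : X.IdealSheafData) (h𝓘 : 𝓘 = (FSch.idealSpec A I).comap (X ↘ Spec (CommRingCat.of A)))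

instance (k : ℕ) : IsClosedImmersion (completionToX X 𝓘 k) :=
  FComplLib.isClosedImmersion_completionToX X 𝓘 k

/-- The transition of the direct images. -/
def gTr (𝔐 : ModSys (completionAlong X 𝓘)) (k : ℕ) :
    (Scheme.Modules.pushforward (completionToX X 𝓘 (k + 1))).obj (𝔐.F (k + 1)) ⟶
      (Scheme.Modules.pushforward (completionToX X 𝓘 k)).obj (𝔐.F k) :=
  (Scheme.Modules.pushforward (completionToX X 𝓘 (k + 1))).map
      ((Scheme.Modules.pullbackPushforwardAdjunction ((completionAlong X 𝓘).ι k)).unit.app (𝔐.F (k + 1)) ≫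
        (Scheme.Modules.pushforward ((completionAlong X 𝓘).ι k)).map (𝔐.e k).hom) ≫
    (pushTri ((completionAlong X 𝓘).ι k) (completionToX X 𝓘 (k + 1)) (completionToX_comm X 𝓘 k)).hom.app (𝔐.F k)

/-- A system of modules on the completion as an inverse system on the scheme. -/
def gSys (𝔐 : ModSys (completionAlong X 𝓘)) : ℕᵒᵖ ⥤ X.Modules :=
  Functor.ofOpSequence (X := fun k => (Scheme.Modules.pushforward (completionToX X 𝓘 k)).obj (𝔐.F k))
    fun k => gTr 𝓘 𝔐 k

theorem gSys_map_succ (𝔐 : ModSys (completionAlong X 𝓘)) (k : ℕ) :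
    (gSys 𝓘 𝔐).map (homOfLE (Nat.le_succ k)).op = gTr 𝓘 𝔐 k :=
  Functor.ofOpSequence_map_homOfLE_succ _ _

include h𝓘 in
theorem ker_le_rho' (k : ℕ) (W : X.affineOpens) :
    (completionToX X 𝓘 k).ker.ideal W ≤ (I ^ (k + 1)).map (FormalLib.rhoA A W.1) := by
  let sq := FModLib.isPullback_toQuot I (X ↘ Spec (CommRingCat.of A)) 𝓘 h𝓘 k
  have he : (completionToX X 𝓘 k).ker = FormalCohLib.idSheaf I ^ (k + 1) := by
    rw [← FormalCohLib.ker_thickι I (X := X) k, ← sq.isoPullback_hom_fst]
    exact Scheme.Hom.ker_comp_of_isIso _ _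
  rw [he, Scheme.IdealSheafData.ideal_pow]
  exact (Ideal.map_pow _ I (k + 1)).ge

/-- The structure of the levels over the base. -/
@[reducible] def overLevel (k : ℕ) : ((completionAlong X 𝓘).X k).Over (Spec (CommRingCat.of A)) :=
  ⟨completionToX X 𝓘 k ≫ (X ↘ Spec (CommRingCat.of A))⟩

include h𝓘 in
theorem toGlobal_zero' (k : ℕ) {b : A} (hb : b ∈ I ^ (k + 1)) :
    Coh.toGlobal (completionToX X 𝓘 k ≫ (X ↘ Spec (CommRingCat.of A))) b = 0 := by
  rw [← FModLib.toQuot_specQuot I (X ↘ Spec (CommRingCat.of A)) 𝓘 h𝓘 k]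
  show (FModLib.toQuot I _ 𝓘 h𝓘 k ≫ CohB1.specQuot I k).appTop ((Scheme.ΓSpecIso (CommRingCat.of A)).inv b) = 0
  rw [Scheme.Hom.comp_appTop]
  refine Eq.trans (congrArg (FModLib.toQuot I _ 𝓘 h𝓘 k).appTop ?_) (map_zero _)
  refine (ConcreteCategory.congr_hom (Scheme.ΓSpecIso_inv_naturality
    (CommRingCat.ofHom (Ideal.Quotient.mk (I ^ (k + 1))))) b).symm.trans ?_
  show (Scheme.ΓSpecIso (CommRingCat.of (A ⧸ I ^ (k + 1)))).inv (Ideal.Quotient.mk (I ^ (k + 1)) b) = 0
  rw [Ideal.Quotient.eq_zero_iff_mem.2 hb, map_zero]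

include h𝓘 in
/-- The reduction of a module is the direct image of its inverse image. -/
theorem exists_desc_iso (k : ℕ) (F : X.Modules) [Coh.IsQCoh F] :
    ∃ α : Formal.modPow I (k + 1) F ≅ (Scheme.Modules.pushforward (completionToX X 𝓘 k)).obj
        ((Scheme.Modules.pullback (completionToX X 𝓘 k)).obj F),
      Formal.modPowπ I (k + 1) F ≫ α.hom =
        (Scheme.Modules.pullbackPushforwardAdjunction (completionToX X 𝓘 k)).unit.app F := by
  letI := overLevel (A := A) 𝓘 k
  have := GrSysLib.isIso_desc_unit (completionToX X 𝓘 k) rfl (I ^ (k + 1))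
    (fun b hb => toGlobal_zero' I 𝓘 h𝓘 k hb) (ker_le_rho' I 𝓘 h𝓘 k) F
  exact ⟨@asIso _ _ _ _ _ this, cokernel.π_desc _ _ _⟩

include h𝓘 in
theorem exists_gTr_desc [IsLocallyNoetherian X] (𝔐 : ModSys (completionAlong X 𝓘)) (h𝔐 : 𝔐.IsCoh) (k : ℕ) :
    ∃ h : Formal.smulFamily (I ^ (k + 1))
        ((Scheme.Modules.pushforward (completionToX X 𝓘 (k + 1))).obj (𝔐.F (k + 1))) ≫ gTr 𝓘 𝔐 k = 0,
      IsIso (cokernel.desc _ _ h) := by
  have : Coh.IsQCoh ((Scheme.Modules.pushforward (completionToX X 𝓘 (k + 1))).obj (𝔐.F (k + 1))) :=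
    (VBResLib.isCoh_push_of_isClosedImmersion _ (h𝔐 (k + 1))).1
  have := CycKSuppLib.isIso_counit (completionToX X 𝓘 (k + 1)) (𝔐.F (k + 1))
  obtain ⟨α, hα⟩ := exists_desc_iso I 𝓘 h𝓘 k
    ((Scheme.Modules.pushforward (completionToX X 𝓘 (k + 1))).obj (𝔐.F (k + 1)))
  have hq : IsIso (cokernel.desc _ (Formal.modPowπ I (k + 1)
      ((Scheme.Modules.pushforward (completionToX X 𝓘 (k + 1))).obj (𝔐.F (k + 1)))) (cokernel.condition _)) := by
    rw [show cokernel.desc _ (Formal.modPowπ I (k + 1) _) _ = 𝟙 _ from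
      coequalizer.hom_ext ((cokernel.π_desc _ _ _).trans (Category.comp_id _).symm)]
    exact IsIso.id _
  refine exists_isIso_desc (cokernel.condition _) hq hα (push_tri_eq _ _ (completionToX_comm X 𝓘 k) _ _)

include h𝓘 in
/-- **The inverse system of a coherent system of modules is a coherent formal module.** -/
theorem isCohFormal_gSys [IsLocallyNoetherian X] (𝔐 : ModSys (completionAlong X 𝓘)) (h𝔐 : 𝔐.IsCoh) :
    Formal.IsCohFormal I (gSys 𝓘 𝔐) := by
  refine ⟨fun k => VBResLib.isCoh_push_of_isClosedImmersion _ (h𝔐 k), fun k b hb => ?_, fun k => ?_⟩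
  · letI := overLevel (A := A) 𝓘 k
    show Formal.smulMod A ((Scheme.Modules.pushforward (completionToX X 𝓘 k)).obj (𝔐.F k)) b = 0
    rw [← GrSysLib.push_smulMod (completionToX X 𝓘 k) rfl,
      GrSysLib.smulMod_eq_zero (I ^ (k + 1)) (fun b hb => toGlobal_zero' I 𝓘 h𝓘 k hb) _ hb, Functor.map_zero]
  · rw [gSys_map_succ]
    exact exists_gTr_desc I 𝓘 h𝓘 𝔐 h𝔐 k

end Sys

end FCohLib

end
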