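import Groth.Agent.FCohLib.CohPres
import Groth.Agent.FModLib.LocPresFP
import Groth.Agent.FModLib.LocPresPull

/-!
# Coherent systems and coherent modules on a formal scheme
-/

set_option autoImplicit false
set_option linter.style.haveILetI false
set_option maxHeartbeats 800000

universe u

open CategoryTheory CategoryTheory.Limits AlgebraicGeometry TopologicalSpace Opposite FSch
open FModLib (MSec RSec mres rres lc LocPres)

noncomputable section

namespace FCohLib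

section Generic

open Groth.Agent.ModSiteLib

variable {X : TopCat.{u}} {O : Sheaf (Opens.grothendieckTopology X) CommRingCat.{u}}

theorem app_lc {M N : ModSite.Mod O} (φ : M ⟶ N) {ι : Type u} [Fintype ι] {U V : Opens X} (hVU : V ≤ U)
    (e : ι → MSec M U) (c : ι → RSec O V) :
    φ.val.app (op V) (lc M hVU e c) = lc N hVU (fun i => φ.val.app (op U) (e i)) c := by
  refine (map_sum (φ.val.app (op V)).hom _ _).trans (Finset.sum_congr rfl fun i _ => ?_)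
  exact ((φ.val.app (op V)).hom.map_smul (c i) _).trans
    (congrArg (fun z : MSec N V => c i • z) (PresheafOfModules.naturality_apply φ.val (homOfLE hVU).op (e i)))

theorem eq_zero_of_points (M : ModSite.Mod O) {V : Opens X} (s : MSec M V)
    (h : ∀ p ∈ V, ∃ (W : Opens X) (hW : W ≤ V), p ∈ W ∧ mres M hW s = 0) : s = 0 := by
  choose W hW hpW h0 using fun p : V => h p.1 p.2
  refine TopCat.Sheaf.eq_of_locally_eq'
    ((SheafOfModules.toSheaf (ModSite.ringSh O)).obj M : TopCat.Sheaf AddCommGrpCat _)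
    W V (fun p => homOfLE (hW p)) (fun p hp => Opens.mem_iSup.mpr ⟨⟨p, hp⟩, hpW ⟨p, hp⟩⟩) s 0 fun p => ?_
  exact (h0 p).trans (map_zero _).symm

/-- A map carrying generators of one module to those of another with the same relations is an isomorphism. -/
theorem isIso_of_locPres {M N : ModSite.Mod O} (φ : M ⟶ N)
    (h : ∀ p : X, ∃ (U : Opens X) (ι κ : Type u) (_ : Fintype ι) (_ : Fintype κ) (e : ι → MSec M U)
      (r : κ → ι → RSec O U), p ∈ U ∧ LocPres M U e r ∧ LocPres N U (fun i => φ.val.app (op U) (e i)) r) :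
    IsIso φ := by
  have hinj : ∀ (V : Opens X) (s : MSec M V), φ.val.app (op V) s = 0 → s = 0 := by
    intro V s hs
    refine eq_zero_of_points M s fun p hp => ?_
    obtain ⟨U, ι, κ, _, _, e, r, hpU, hM, hN⟩ := h p
    obtain ⟨W, hW, c, hpW, hc⟩ := hM.gen (V ⊓ U) inf_le_right (mres M inf_le_left s) p ⟨hp, hpU⟩
    have hWV : W ≤ V := hW.trans inf_le_left
    have hsW : mres M hWV s = lc M (hW.trans inf_le_right) e c :=
      (FModLib.mres_mres M hW inf_le_left s).symm.trans hc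
    have h0 : lc N (hW.trans inf_le_right) (fun i => φ.val.app (op U) (e i)) c = 0 :=
      (app_lc φ _ e c).symm.trans ((congrArg (φ.val.app (op W)) hsW.symm).trans
        ((PresheafOfModules.naturality_apply φ.val (homOfLE hWV).op s).trans ((congrArg (mres N hWV) hs).trans (map_zero _))))
    obtain ⟨W', hW', d, hpW', hd⟩ := hN.ex W (hW.trans inf_le_right) c h0 p hpW
    refine ⟨W', hW'.trans hWV, hpW', ?_⟩
    refine (FModLib.mres_mres M hW' hWV s).symm.trans ((congrArg (mres M hW') hsW).trans ?_)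
    refine (FModLib.mres_lc M hW' (hW.trans inf_le_right) e c).trans ?_
    exact (congrArg (lc M _ e) (funext hd)).trans (lc_relations M _ e r hM.rel d)
  have hmono : Mono φ := by
    refine ⟨fun {P} a b e => SheafOfModules.hom_ext (PresheafOfModules.hom_ext fun V =>
      ModuleCat.hom_ext (LinearMap.ext fun x => ?_))⟩
    refine sub_eq_zero.1 (hinj V.unop _ ((map_sub (φ.val.app V).hom _ _).trans (sub_eq_zero.2 ?_)))
    exact congr($(congrArg (fun g : P ⟶ N => g.val.app V) e) x)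
  have hepi : Epi φ := by
    refine _root_.ModSiteLib.epi_of_loc_surjective φ fun V t => ?_
    let S : Sieve V :=
      ⟨fun V' => {g : V' ⟶ V | ∃ y : MSec M V', φ.val.app (op V') y = N.val.map g.op t}, fun {V' V''} g hg k => by
        obtain ⟨y, hy⟩ := hg
        refine ⟨M.val.map k.op y, (PresheafOfModules.naturality_apply φ.val k.op y).trans ?_⟩
        exact (congrArg (N.val.map k.op) hy).trans (N.val.presheaf.map_comp_apply g.op k.op t).symm⟩
    refine ⟨S, fun p hp => ?_, fun _ _ hg => hg⟩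
    obtain ⟨U, ι, κ, _, _, e, r, hpU, hM, hN⟩ := h p
    obtain ⟨W, hW, c, hpW, hc⟩ := hN.gen (V ⊓ U) inf_le_right (mres N inf_le_left t) p ⟨hp, hpU⟩
    refine ⟨W, homOfLE (hW.trans inf_le_left), ⟨lc M (hW.trans inf_le_right) e c, ?_⟩, hpW⟩
    exact (app_lc φ _ e c).trans (hc.symm.trans (FModLib.mres_mres N hW inf_le_left t))
  exact isIso_of_mono_of_epi φ

end Generic

section Pull

variable {X Y : TopCat.{u}} (g : X ⟶ Y) {OX : Sheaf (Opens.grothendieckTopology X) CommRingCat.{u}}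
  {OY : Sheaf (Opens.grothendieckTopology Y) CommRingCat.{u}}
  (s : OY ⟶ ((Opens.map g).sheafPushforwardContinuous CommRingCat.{u} _ _).obj OX)
  {U : Opens Y} {ι κ : Type u} [Fintype ι] [Fintype κ]

theorem relSec_ψOf (r : κ → ι → RSec OY U) : FModLib.relSec (FModLib.ψOf r) = r :=
  funext fun j => funext fun i => by
    refine Eq.trans ?_ (FModLib.coord_comb (FModLib.oTop U) (r j) i)
    exact congrArg ((FModLib.coord (O := OY) (U := U) i).val.app (op (FModLib.oTop U)))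
      (FModLib.ev_ιFree_freeLift _ j)

/-- Inverse images of presentations by sections, intrinsically. -/
theorem locPres_pullSec {M : ModSite.Mod OY} {e : ι → MSec M U} {r : κ → ι → RSec OY U} (hP : LocPres M U e r) :
    LocPres ((FModLib.rMor g s).pull.obj M) ((Opens.map g).obj U) (fun i => FModLib.unitSec g s M U (e i))
      (fun j i => FModLib.sharpSec g s U (r j i)) := by
  have := FModLib.epi_πOf hP
  have key := FModLib.locPres_pull g s U M (FModLib.πOf M e) (FModLib.ψOf r) (FModLib.ψOf_πOf hP) (FModLib.epi_lift hP)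
  rw [show FModLib.genSec M (FModLib.πOf M e) = e from funext fun i => FModLib.ev_πOf M e i,
    relSec_ψOf r] at key
  exact key

end Pull

variable {𝔛 : Sys.{u}} (hloc : 𝔛.IsLocNoethFormal)

theorem presLev_of_locPres (𝔉 : ModF 𝔛 hloc.1) {U : (𝔛.X 0).Opens} {ι κ : Type u} [Fintype ι] [Fintype κ]
    {e : ι → MSec 𝔉 U} {r : κ → ι → RSec (𝔛.Osh hloc.1) U} (hP : LocPres 𝔉 U e r) (k : ℕ) :
    LocPres (FModLib.lev hloc.1 𝔉 k) (𝔛.lvU hloc.1 k U) (FModLib.ek hloc.1 𝔉 k e) (FModLib.rk hloc.1 k r) :=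
  locPres_pullSec (𝔛.gInv hloc.1 k) (𝔛.OshProj hloc.1 k) hP

variable (𝔐 : ModSys 𝔛) (h𝔐 : 𝔐.IsCoh)

include h𝔐 in
/-- **The limit of a coherent system is coherent.** -/
theorem isCohF_realMod : IsCohF 𝔛 hloc.1 (𝔐.realMod hloc.1) :=
  FModLib.isFP_of_locPres fun p => by
    obtain ⟨V, hV, hpV, -⟩ := Opens.isBasis_iff_nbhd.mp (𝔛.X 0).isBasis_affineOpens (U := ⊤) (x := p) trivial
    obtain ⟨ι, κ, _, _, e, r, -, hP⟩ := exists_locPres_real hloc 𝔐 h𝔐 hV
    exact ⟨V, ι, κ, inferInstance, inferInstance, e, r, hpV, hP⟩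

/-- The adjunct of a projection. -/
abbrev projAdj (k : ℕ) : FModLib.lev hloc.1 (𝔐.realMod hloc.1) k ⟶ 𝔐.F k :=
  ((levelMor 𝔛 hloc.1 k).adj.homEquiv _ _).symm (realProj 𝔛 hloc.1 𝔐.F 𝔐.toPush k)

theorem projAdj_piSec (k : ℕ) (V : (𝔛.X 0).Opens) (x : MSec (𝔐.realMod hloc.1) V) :
    (projAdj hloc 𝔐 k).val.app (op (𝔛.lvU hloc.1 k V)) (FModLib.piSec hloc.1 (𝔐.realMod hloc.1) k V x) =
      rp hloc.1 𝔐.F 𝔐.toPush k V x := by
  have h : (levelMor 𝔛 hloc.1 k).adj.homEquiv _ _ (projAdj hloc 𝔐 k) = realProj 𝔛 hloc.1 𝔐.F 𝔐.toPush k :=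
    Equiv.apply_symm_apply _ _
  exact congr($(congrArg (fun a : 𝔐.realMod hloc.1 ⟶ _ => a.val.app (op V))
    (((levelMor 𝔛 hloc.1 k).adj.homEquiv_unit _ _ _).symm.trans h)) x)

theorem mem_lvU_exists (k : ℕ) (q : 𝔛.X k) :
    ∃ V : (𝔛.X 0).Opens, IsAffineOpen V ∧ q ∈ 𝔛.lvU hloc.1 k V := by
  obtain ⟨V, hV, hpV, -⟩ :=
    Opens.isBasis_iff_nbhd.mp (𝔛.X 0).isBasis_affineOpens (U := ⊤) (x := (𝔛.gInv hloc.1 k) q) trivial
  exact ⟨V, hV, hpV⟩

include h𝔐 in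
/-- **The levels of the limit are the given modules.** -/
theorem isIso_projAdj (k : ℕ) : IsIso (projAdj hloc 𝔐 k) := by
  refine isIso_of_locPres (projAdj hloc 𝔐 k) fun q => ?_
  obtain ⟨V, hV, hq⟩ := mem_lvU_exists hloc k q
  obtain ⟨ι, κ, _, _, e, r, hl, hP⟩ := exists_locPres_real hloc 𝔐 h𝔐 hV
  refine ⟨𝔛.lvU hloc.1 k V, ι, κ, inferInstance, inferInstance, _, _, hq, presLev_of_locPres hloc (𝔐.realMod hloc.1) hP k, ?_⟩
  rw [show (fun i => (projAdj hloc 𝔐 k).val.app (op (𝔛.lvU hloc.1 k V))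
      (FModLib.ek hloc.1 (𝔐.realMod hloc.1) k e i)) = fun i => rp hloc.1 𝔐.F 𝔐.toPush k V (e i) from
    funext fun i => projAdj_piSec hloc 𝔐 k V (e i)]
  exact hl k

/-- The system of levels of a module. -/
abbrev levSys (𝔉 : ModF 𝔛 hloc.1) : ModSys 𝔛 := ⟨FModLib.lev hloc.1 𝔉, FModLib.psi hloc.1 𝔉⟩

theorem levSys_toPush (𝔉 : ModF 𝔛 hloc.1) (k : ℕ) : (levSys hloc 𝔉).toPush k = FModLib.tMap hloc.1 𝔉 k :=
  (Adjunction.homEquiv_unit _ _ _ _).trans (FModLib.unit_psi hloc.1 𝔉 k)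

/-- The cone of units. -/
def unitCone (𝔉 : ModF 𝔛 hloc.1) :
    Cone (levelSysOf 𝔛 hloc.1 (levSys hloc 𝔉).F (levSys hloc 𝔉).toPush) where
  pt := 𝔉
  π := NatTrans.ofOpSequence (fun k => (levelMor 𝔛 hloc.1 k).adj.unit.app 𝔉) fun k => by
    show (𝟙 𝔉 : 𝔉 ⟶ 𝔉) ≫ (levelMor 𝔛 hloc.1 k).adj.unit.app 𝔉 = _
    rw [Category.id_comp, levelSysOf_map_succ, levSys_toPush]
    exact (unit_levelTrans 𝔛 hloc.1 𝔉 k).symm

/-- The comparison with the limit of the levels. -/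
def etaReal (𝔉 : ModF 𝔛 hloc.1) : 𝔉 ⟶ (levSys hloc 𝔉).realMod hloc.1 :=
  limit.lift _ (unitCone hloc 𝔉)

theorem etaReal_realProj (𝔉 : ModF 𝔛 hloc.1) (k : ℕ) :
    etaReal hloc 𝔉 ≫ realProj 𝔛 hloc.1 (levSys hloc 𝔉).F (levSys hloc 𝔉).toPush k =
      (levelMor 𝔛 hloc.1 k).adj.unit.app 𝔉 :=
  limit.lift_π _ _

theorem rp_etaReal (𝔉 : ModF 𝔛 hloc.1) (k : ℕ) (V : (𝔛.X 0).Opens) (x : MSec 𝔉 V) :
    rp hloc.1 (levSys hloc 𝔉).F (levSys hloc 𝔉).toPush k V ((etaReal hloc 𝔉).val.app (op V) x) =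
      FModLib.piSec hloc.1 𝔉 k V x :=
  congr($(congrArg (fun a : 𝔉 ⟶ _ => a.val.app (op V)) (etaReal_realProj hloc 𝔉 k)) x)

theorem isCoh_levSys {𝔉 : ModF 𝔛 hloc.1} (h𝔉 : IsCohF 𝔛 hloc.1 𝔉) : (levSys hloc 𝔉).IsCoh :=
  FModLib.isCoh_lev hloc.1 𝔉 h𝔉

/-- **A coherent module is the limit of its levels.** -/
theorem isIso_etaReal {𝔉 : ModF 𝔛 hloc.1} (h𝔉 : IsCohF 𝔛 hloc.1 𝔉) : IsIso (etaReal hloc 𝔉) := by
  refine isIso_of_locPres (etaReal hloc 𝔉) fun p => ?_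
  obtain ⟨U, ι, κ, _, _, π, ψ, _, w, hpU, hex⟩ := FModLib.exists_locPres 𝔉 h𝔉 p
  have hP := FModLib.locPres_of_exact 𝔉 π ψ w hex
  refine ⟨U, ι, κ, inferInstance, inferInstance, _, _, hpU, hP, ?_⟩
  have : ∀ k, Coh.IsQCoh ((levSys hloc 𝔉).F k) := fun k => (isCoh_levSys hloc h𝔉 k).1
  refine locPres_real hloc (levSys hloc 𝔉).F (levSys hloc 𝔉).toPush fun k => ?_
  rw [show (fun i => rp hloc.1 (levSys hloc 𝔉).F (levSys hloc 𝔉).toPush k U
      ((etaReal hloc 𝔉).val.app (op U) (FModLib.genSec 𝔉 π i))) =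
        fun i => FModLib.piSec hloc.1 𝔉 k U (FModLib.genSec 𝔉 π i) from funext fun i => rp_etaReal hloc 𝔉 k U _]
  exact presLev_of_locPres hloc 𝔉 hP k

variable (𝔑 : ModSys 𝔛)

theorem pull_realModMap_projAdj (φ : 𝔐 ⟶ 𝔑) (k : ℕ) :
    (levelMor 𝔛 hloc.1 k).pull.map (ModSys.realModMap hloc.1 φ) ≫ projAdj hloc 𝔑 k =
      projAdj hloc 𝔐 k ≫ φ.app k := by
  refine ((levelMor 𝔛 hloc.1 k).adj.homEquiv_naturality_left_symm _ _).symm.trans ?_
  refine Eq.trans ?_ ((levelMor 𝔛 hloc.1 k).adj.homEquiv_naturality_right_symm _ _)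
  exact congrArg ((levelMor 𝔛 hloc.1 k).adj.homEquiv _ _).symm (realLimMap_realProj 𝔛 hloc.1 _ _ k)

include h𝔐 in
/-- A morphism of limits comes from a unique morphism of systems. -/
theorem realModMap_bijective :
    Function.Bijective (fun φ : 𝔐 ⟶ 𝔑 => ModSys.realModMap hloc.1 φ) := by
  constructor
  · intro φ φ' h
    refine ModSys.Hom.ext (funext fun k => ?_)
    have := isIso_projAdj hloc 𝔐 h𝔐 k
    refine (cancel_epi (projAdj hloc 𝔐 k)).1 ?_
    rw [← pull_realModMap_projAdj, ← pull_realModMap_projAdj]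
    exact congrArg (fun θ => (levelMor 𝔛 hloc.1 k).pull.map θ ≫ projAdj hloc 𝔑 k) h
  · intro θ
    have hc := isIso_projAdj hloc 𝔐 h𝔐
    let a : ∀ k, 𝔐.F k ⟶ 𝔑.F k := fun k =>
      (@asIso _ _ _ _ (projAdj hloc 𝔐 k) (hc k)).inv ≫ (levelMor 𝔛 hloc.1 k).pull.map θ ≫ projAdj hloc 𝔑 k
    have ha : ∀ k, realProj 𝔛 hloc.1 𝔐.F 𝔐.toPush k ≫ (levelMor 𝔛 hloc.1 k).push.map (a k) =
        θ ≫ realProj 𝔛 hloc.1 𝔑.F 𝔑.toPush k := fun k => by
      apply ((levelMor 𝔛 hloc.1 k).adj.homEquiv _ _).symm.injective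
      refine ((levelMor 𝔛 hloc.1 k).adj.homEquiv_naturality_right_symm _ _).trans
        (Eq.trans ?_ ((levelMor 𝔛 hloc.1 k).adj.homEquiv_naturality_left_symm _ _).symm)
      exact (@asIso _ _ _ _ (projAdj hloc 𝔐 k) (hc k)).hom_inv_id_assoc _
    have hpush : ∀ k, 𝔐.toPush k ≫ (Scheme.Modules.pushforward (𝔛.ι k)).map (a k) = a (k + 1) ≫ 𝔑.toPush k := by
      intro k
      have := hc (k + 1)
      refine (cancel_epi (projAdj hloc 𝔐 (k + 1))).1 ?_
      apply ((levelMor 𝔛 hloc.1 (k + 1)).adj.homEquiv _ _).injective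
      have hl : (levelMor 𝔛 hloc.1 (k + 1)).adj.homEquiv _ _ (projAdj hloc 𝔐 (k + 1)) =
          realProj 𝔛 hloc.1 𝔐.F 𝔐.toPush (k + 1) := Equiv.apply_symm_apply _ _
      refine ((levelMor 𝔛 hloc.1 (k + 1)).adj.homEquiv_naturality_right _ _).trans
        (Eq.trans ?_ ((levelMor 𝔛 hloc.1 (k + 1)).adj.homEquiv_naturality_right _ _).symm)
      refine Eq.trans (congrArg₂ (fun x y => x ≫ y) hl ((levelMor 𝔛 hloc.1 (k + 1)).push.map_comp _ _)) (Eq.trans ?_
        (congrArg₂ (fun x y => x ≫ y) hl ((levelMor 𝔛 hloc.1 (k + 1)).push.map_comp _ _)).symm)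
      have h2 : (realProj 𝔛 hloc.1 𝔐.F 𝔐.toPush (k + 1) ≫ (levelMor 𝔛 hloc.1 (k + 1)).push.map (𝔐.toPush k) ≫
          (levelMor 𝔛 hloc.1 (k + 1)).push.map ((Scheme.Modules.pushforward (𝔛.ι k)).map (a k))) ≫
            (pushCompare 𝔛 hloc.1 k).app (𝔑.F k) = θ ≫ realProj 𝔛 hloc.1 𝔑.F 𝔑.toPush k := by
        refine Eq.trans ?_ (ha k)
        rw [← realProj_map 𝔛 hloc.1 𝔐.F 𝔐.toPush k]
        simp only [Category.assoc]
        refine congrArg (fun q => realProj 𝔛 hloc.1 𝔐.F 𝔐.toPush (k + 1) ≫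
          (levelMor 𝔛 hloc.1 (k + 1)).push.map (𝔐.toPush k) ≫ q) ?_
        exact (pushCompare 𝔛 hloc.1 k).naturality (a k)
      have h3 : (realProj 𝔛 hloc.1 𝔐.F 𝔐.toPush (k + 1) ≫ (levelMor 𝔛 hloc.1 (k + 1)).push.map (a (k + 1)) ≫
          (levelMor 𝔛 hloc.1 (k + 1)).push.map (𝔑.toPush k)) ≫
            (pushCompare 𝔛 hloc.1 k).app (𝔑.F k) = θ ≫ realProj 𝔛 hloc.1 𝔑.F 𝔑.toPush k := by
        rw [← Category.assoc (realProj 𝔛 hloc.1 𝔐.F 𝔐.toPush (k + 1)), ha (k + 1)]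
        simp only [Category.assoc]
        exact (Category.assoc _ _ _).trans
          (congrArg (fun q => θ ≫ q) (realProj_map 𝔛 hloc.1 𝔑.F 𝔑.toPush k))
      have hi : IsIso ((pushCompare 𝔛 hloc.1 k).app (𝔑.F k)) :=
        ⟨(pushCompareInv 𝔛 hloc.1 k).app (𝔑.F k), pushCompare_pushCompareInv 𝔛 hloc.1 k _,
          pushCompareInv_pushCompare 𝔛 hloc.1 k _⟩
      exact (cancel_mono _).1 (h2.trans h3.symm)
    refine ⟨⟨a, fun k => ?_⟩, limit.hom_ext fun ⟨k⟩ => ?_⟩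
    · apply ((Scheme.Modules.pullbackPushforwardAdjunction (𝔛.ι k)).homEquiv _ _).injective
      rw [Adjunction.homEquiv_naturality_left, Adjunction.homEquiv_naturality_right]
      exact (hpush k).symm
    · exact (realLimMap_realProj 𝔛 hloc.1 _ _ k).trans (ha k)

end FCohLib

end
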