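import Groth.Agent.FCohLib.CohIso
import Groth.Agent.FModLib.LimTower
import Groth.Agent.QCohLib.QCoh
import Mathlib.RingTheory.Nakayama

/-!
# Surjectivity of maps of coherent modules on a formal scheme
-/

set_option autoImplicit false
set_option linter.style.haveILetI false
set_option maxHeartbeats 800000

universe u

open CategoryTheory CategoryTheory.Limits AlgebraicGeometry TopologicalSpace Opposite FSch
open FModLib (MSec RSec oK mres rres lc LocPres)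

noncomputable section

namespace FCohLib

theorem surjective_app_affine {X : Scheme.{u}} {M N : X.Modules} (φ : M ⟶ N) [Epi φ] [Coh.IsQCoh M]
    [Coh.IsQCoh N] {U : X.Opens} (hU : IsAffineOpen U) : Function.Surjective (φ.app U) := by
  let S : ShortComplex X.Modules := ShortComplex.mk (kernel.ι φ) φ (kernel.condition φ)
  have hS : S.ShortExact :=
    { exact := ShortComplex.exact_of_f_is_kernel _ (kernelIsKernel φ)
      mono_f := inferInstanceAs (Mono (kernel.ι φ))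
      epi_g := inferInstanceAs (Epi φ) }
  exact @QCohLib.app_surjective_of_affine _ S hS (QCohLib.isQCoh_kernel φ) U hU

variable {𝔛 : Sys.{u}} (hloc : 𝔛.IsLocNoethFormal)

theorem ker_oK_le_jacobson {V : (𝔛.X 0).Opens} (hV : IsAffineOpen V) :
    RingHom.ker ((𝔛.OshProj hloc.1 0).hom.app (op V)).hom ≤ (⊥ : Ideal (RSec (𝔛.Osh hloc.1) V)).jacobson := by
  obtain ⟨I, hN, hA, hI⟩ := FModLib.exists_adic_lim hloc.1 V hV hloc
  intro x hx
  refine Ideal.mem_jacobson_bot.2 fun y => ?_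
  let T := FModLib.toLim hloc.1 V hV
  have hT : T x ∈ I := by
    have : T x ∈ RingHom.ker ((FModLib.secSys hloc.1 V hV).proj 0) := hx
    rw [hI 0, zero_add, pow_one] at this
    exact this
  have h1 : IsUnit (T x * T y + 1) := Ideal.mem_jacobson_bot.1 (IsAdicComplete.le_jacobson_bot I hT) (T y)
  have h2 : IsUnit (T (x * y + 1)) := by rw [map_add, map_mul, map_one]; exact h1
  exact (isUnit_map_iff (RingEquiv.ofBijective T (FModLib.toLim_bijective hloc.1 V hV)) _).1 h2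

variable (𝔉 𝔊 : ModF 𝔛 hloc.1) (θ : 𝔉 ⟶ 𝔊)

include θ in
theorem piSec_app (k : ℕ) (V : (𝔛.X 0).Opens) (x : MSec 𝔉 V) :
    FModLib.piSec hloc.1 𝔊 k V (θ.val.app (op V) x) =
      ((levelMor 𝔛 hloc.1 k).pull.map θ).val.app (op (𝔛.lvU hloc.1 k V)) (FModLib.piSec hloc.1 𝔉 k V x) :=
  congr($(congrArg (fun a : 𝔉 ⟶ _ => a.val.app (op V)) ((levelMor 𝔛 hloc.1 k).adj.unit.naturality θ)) x)

variable {𝔊}

/-- Over a small affine open every section is a combination of the generators. -/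
theorem exists_comb (h𝔊 : IsCohF 𝔛 hloc.1 𝔊) {U V : (𝔛.X 0).Opens} {ι κ : Type u} [Fintype ι] [Fintype κ]
    (D : FModLib.PresOn hloc.1 𝔊 U ι κ) (hV : IsAffineOpen V) (hVU : V ≤ U) (s : MSec 𝔊 V) :
    ∃ b : ι → RSec (𝔛.Osh hloc.1) V, lc 𝔊 hVU D.e b = s := by
  have hq : ∀ k, Coh.IsQCoh ((levSys hloc 𝔊).F k) := fun k => (isCoh_levSys hloc h𝔊 k).1
  have hP : PresLev hloc (levSys hloc 𝔊).F (levSys hloc 𝔊).toPush
      (fun i => (etaReal hloc 𝔊).val.app (op U) (D.e i)) D.r := fun k => by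
    rw [show (fun i => rp hloc.1 (levSys hloc 𝔊).F (levSys hloc 𝔊).toPush k U
        ((etaReal hloc 𝔊).val.app (op U) (D.e i))) = fun i => FModLib.piSec hloc.1 𝔊 k U (D.e i) from
      funext fun i => rp_etaReal hloc 𝔊 k U _]
    exact D.presLev k
  obtain ⟨b, hb⟩ := exists_combReal hloc (levSys hloc 𝔊).F (levSys hloc 𝔊).toPush hV hVU hP
    ((etaReal hloc 𝔊).val.app (op V) s)
  refine ⟨b, ?_⟩
  have := isIso_etaReal hloc h𝔊
  have h1 : (etaReal hloc 𝔊).val.app (op V) (lc 𝔊 hVU D.e b) = (etaReal hloc 𝔊).val.app (op V) s :=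
    (app_lc (etaReal hloc 𝔊) hVU D.e b).trans hb
  have hc := congrArg (fun a : 𝔊 ⟶ 𝔊 => a.val.app (op V)) (IsIso.hom_inv_id (etaReal hloc 𝔊))
  exact (congr($hc (lc 𝔊 hVU D.e b))).symm.trans
    ((congrArg ((inv (etaReal hloc 𝔊)).val.app (op V)) h1).trans (congr($hc s)))

variable {𝔉}

/-- **Surjectivity can be checked on the smallest level.** -/
theorem epi_of_epi_level_zero (h𝔉 : IsCohF 𝔛 hloc.1 𝔉) (h𝔊 : IsCohF 𝔛 hloc.1 𝔊)
    (hθ : Epi ((levelMor 𝔛 hloc.1 0).pull.map θ)) : Epi θ := by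
  refine _root_.ModSiteLib.epi_of_loc_surjective θ fun W t => ?_
  let S : Sieve W :=
    ⟨fun W' => {g : W' ⟶ W | ∃ y : MSec 𝔉 W', θ.val.app (op W') y = 𝔊.val.map g.op t}, fun {W' W''} g hg k => by
      obtain ⟨y, hy⟩ := hg
      refine ⟨𝔉.val.map k.op y, (PresheafOfModules.naturality_apply θ.val k.op y).trans ?_⟩
      exact (congrArg (𝔊.val.map k.op) hy).trans (𝔊.val.presheaf.map_comp_apply g.op k.op t).symm⟩
  refine ⟨S, fun p hp => ?_, fun _ _ hg => hg⟩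
  obtain ⟨V₁, ⟨hV₁, U, ι, κ, _, _, D, hV₁U⟩, hpV₁, hV₁W⟩ :=
    Opens.isBasis_iff_nbhd.mp (FModLib.isBasis_presB hloc.1 𝔊 h𝔊) (U := W) (x := p) hp
  obtain ⟨V, ⟨hV, U', ι', κ', _, _, D', hVU'⟩, hpV, hVV₁⟩ :=
    Opens.isBasis_iff_nbhd.mp (FModLib.isBasis_presB hloc.1 𝔉 h𝔉) (U := V₁) (x := p) hpV₁
  refine ⟨V, homOfLE (hVV₁.trans hV₁W), ?_, hpV⟩
  have hVU : V ≤ U := hVV₁.trans hV₁U
  have : Coh.IsQCoh (FModLib.lev hloc.1 𝔉 0) := (FModLib.isCoh_lev hloc.1 𝔉 h𝔉 0).1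
  have : Coh.IsQCoh (FModLib.lev hloc.1 𝔊 0) := (FModLib.isCoh_lev hloc.1 𝔊 h𝔊 0).1
  let R := RSec (𝔛.Osh hloc.1) V
  let f : MSec 𝔉 V →ₗ[R] MSec 𝔊 V := (θ.val.app (op V)).hom
  let J : Ideal R := RingHom.ker ((𝔛.OshProj hloc.1 0).hom.app (op V)).hom
  let M : Submodule R (MSec 𝔊 V) := Submodule.span R (Set.range fun i => mres 𝔊 hVU (D.e i))
  have hM : ∀ (b : ι → R), lc 𝔊 hVU D.e b ∈ M := fun b =>
    Submodule.sum_mem _ fun i _ => Submodule.smul_mem _ _ (Submodule.subset_span ⟨i, rfl⟩)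
  have hle : M ≤ LinearMap.range f ⊔ J • M := by
    refine Submodule.span_le.2 ?_
    rintro _ ⟨i, rfl⟩
    have : Epi (C := (𝔛.X 0).Modules) ((levelMor 𝔛 hloc.1 0).pull.map θ) := hθ
    obtain ⟨m, hm⟩ := surjective_app_affine (X := 𝔛.X 0) ((levelMor 𝔛 hloc.1 0).pull.map θ)
      (FModLib.isAffineOpen_lvU hloc.1 hV 0) (FModLib.piSec hloc.1 𝔊 0 V (mres 𝔊 hVU (D.e i)))
    obtain ⟨b', hb'⟩ := FModLib.exists_gen hloc 𝔉 D' hV hVU' 0 m
    let x : MSec 𝔉 V := lc 𝔉 hVU' D'.e b'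
    have hx : FModLib.piSec hloc.1 𝔊 0 V (θ.val.app (op V) x) = FModLib.piSec hloc.1 𝔊 0 V (mres 𝔊 hVU (D.e i)) :=
      (piSec_app hloc 𝔉 𝔊 θ 0 V x).trans ((congrArg _ hb').trans hm)
    obtain ⟨b, hb⟩ := exists_comb hloc h𝔊 D hV hVU (mres 𝔊 hVU (D.e i) - θ.val.app (op V) x)
    have h0 : FModLib.piSec hloc.1 𝔊 0 V (lc 𝔊 hVU D.e b) = 0 :=
      (congrArg (FModLib.piSec hloc.1 𝔊 0 V) hb).trans ((map_sub _ _ _).trans (sub_eq_zero.2 hx.symm))
    obtain ⟨d, hd⟩ := FModLib.exists_ker hloc 𝔊 D hV hVU 0 b h0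
    let c : ι → R := fun j => b j - ∑ l, d l * rres (𝔛.Osh hloc.1) hVU (D.r l j)
    have hc : lc 𝔊 hVU D.e c = lc 𝔊 hVU D.e b := by
      refine Eq.trans (lc_add_relations 𝔊 hVU D.e D.r D.pres.rel c d).symm (congrArg (lc 𝔊 hVU D.e) ?_)
      exact funext fun j => sub_add_cancel _ _
    refine Submodule.mem_sup.2 ⟨θ.val.app (op V) x, ⟨x, rfl⟩, lc 𝔊 hVU D.e c, ?_, ?_⟩
    · refine Submodule.sum_mem _ fun j _ => Submodule.smul_mem_smul ?_ (Submodule.subset_span ⟨j, rfl⟩)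
      exact RingHom.mem_ker.2 ((map_sub _ _ _).trans (sub_eq_zero.2 (hd j)))
    · exact ((congrArg (fun z => θ.val.app (op V) x + z) (hc.trans hb)).trans (add_sub_cancel _ _))
  have hMN : M ≤ LinearMap.range f :=
    Submodule.le_of_le_smul_of_le_jacobson_bot (Submodule.fg_span (Set.finite_range _))
      (ker_oK_le_jacobson hloc hV) hle
  obtain ⟨b, hb⟩ := exists_comb hloc h𝔊 D hV hVU (𝔊.val.map (homOfLE (hVV₁.trans hV₁W)).op t)
  obtain ⟨y, hy⟩ := hMN (hb ▸ hM b)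
  exact ⟨y, hy⟩

end FCohLib

end
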