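import Groth.Agent.FCohLib.Closure
import Groth.Agent.FCohLib.Surj

/-!
# Injective and surjective maps of coherent modules are stable under small perturbations
-/

set_option autoImplicit false
set_option linter.style.haveILetI false
set_option maxHeartbeats 800000

universe u

open CategoryTheory CategoryTheory.Limits AlgebraicGeometry TopologicalSpace Opposite FSch
open FModLib (MSec RSec oK mres rres lc LocPres piSec)

noncomputable section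

namespace FCohLib

variable {𝔛 : Sys.{u}} (hloc : 𝔛.IsLocNoethFormal) {𝔉 𝔊 : ModF 𝔛 hloc.1}

theorem unit_eq_zero_of_le {n m : ℕ} (hmn : m ≤ n) (ψ : 𝔉 ⟶ 𝔊)
    (hψ : ψ ≫ (levelMor 𝔛 hloc.1 n).adj.unit.app 𝔊 = 0) : ψ ≫ (levelMor 𝔛 hloc.1 m).adj.unit.app 𝔊 = 0 := by
  obtain ⟨d, rfl⟩ := Nat.le.dest hmn
  induction d with
  | zero => exact hψ
  | succ d ih =>
    refine ih (Nat.le_add_right _ _) ?_
    refine (congrArg (fun a => ψ ≫ a) (unit_levelTrans 𝔛 hloc.1 𝔊 (m + d)).symm).trans ?_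
    exact (Category.assoc _ _ _).symm.trans ((congrArg (fun a => a ≫ levelTrans 𝔛 hloc.1 𝔊 (m + d)) hψ).trans zero_comp)

/-- The kernel of the projection to a level is the power of the ideal. -/
theorem piSec_eq_zero_iff (h𝔊 : IsCohF 𝔛 hloc.1 𝔊) {V : (𝔛.X 0).Opens} (hV : IsAffineOpen V) {ι κ : Type u}
    [Fintype ι] [Fintype κ] (D : FModLib.PresOn hloc.1 𝔊 V ι κ) (I : Ideal (RSec (𝔛.Osh hloc.1) V))
    (hI : ∀ k a, oK hloc.1 k V a = 0 ↔ a ∈ I ^ (k + 1)) (k : ℕ) (x : MSec 𝔊 V) :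
    piSec hloc.1 𝔊 k V x = 0 ↔
      x ∈ I ^ (k + 1) • (⊤ : Submodule (RSec (𝔛.Osh hloc.1) V) (MSec 𝔊 V)) := by
  have : Coh.IsQCoh (FModLib.lev hloc.1 𝔊 k) := (FModLib.isCoh_lev hloc.1 𝔊 h𝔊 k).1
  refine ⟨fun hx => ?_, fun hx => ?_⟩
  · obtain ⟨b, rfl⟩ := exists_comb hloc h𝔊 D hV le_rfl x
    obtain ⟨d, hd⟩ := FModLib.exists_ker hloc 𝔊 D hV le_rfl k b hx
    let c : ι → RSec (𝔛.Osh hloc.1) V := fun i => b i - ∑ j, d j * rres (𝔛.Osh hloc.1) le_rfl (D.r j i)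
    have hc : lc 𝔊 le_rfl D.e c = lc 𝔊 le_rfl D.e b :=
      (lc_add_relations 𝔊 le_rfl D.e D.r D.pres.rel c d).symm.trans
        (congrArg (lc 𝔊 _ D.e) (funext fun i => sub_add_cancel _ _))
    rw [← hc]
    refine Submodule.sum_mem _ fun i _ => Submodule.smul_mem_smul ((hI k _).1 ?_) trivial
    exact (map_sub ((𝔛.OshProj hloc.1 k).hom.app (op V)).hom _ _).trans (sub_eq_zero.2 (hd i))
  · refine Submodule.smul_induction_on hx (fun a ha y _ => ?_) fun a b ha hb => ?_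
    · refine (FModLib.piSec_smul hloc.1 𝔊 k a y).trans ?_
      exact (congrArg (fun q : RSec (𝔛.X k).sheaf (𝔛.lvU hloc.1 k V) => q • piSec hloc.1 𝔊 k V y)
        ((hI k a).2 ha)).trans (zero_smul _ _)
    · exact (map_add _ a b).trans ((congrArg₂ (fun p q => p + q) ha hb).trans (add_zero _))

theorem finite_sec (h𝔉 : IsCohF 𝔛 hloc.1 𝔉) {V : (𝔛.X 0).Opens} (hV : IsAffineOpen V) :
    Module.Finite (RSec (𝔛.Osh hloc.1) V) (MSec 𝔉 V) := by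
  obtain ⟨ι, κ, _, _, ⟨D⟩⟩ := exists_presOn hloc h𝔉 hV
  exact ⟨Submodule.fg_def.2 ⟨Set.range fun i => mres 𝔉 le_rfl (D.e i), Set.finite_range _, eq_top_iff.2 fun x _ => by
      obtain ⟨b, rfl⟩ := exists_comb hloc h𝔉 D hV le_rfl x
      exact Submodule.sum_mem _ fun i _ => Submodule.smul_mem _ _ (Submodule.subset_span ⟨i, rfl⟩)⟩⟩

/-- A map of coherent modules injective on the sections over an affine cover is injective. -/
theorem mono_of_injective_affine (h𝔉 : IsCohF 𝔛 hloc.1 𝔉) (h𝔊 : IsCohF 𝔛 hloc.1 𝔊) (θ : 𝔉 ⟶ 𝔊)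
    (h : ∀ p : 𝔛.X 0, ∃ V : (𝔛.X 0).Opens, IsAffineOpen V ∧ p ∈ V ∧ Function.Injective (θ.val.app (op V))) :
    Mono θ := by
  have hK := isCohF_kernel hloc h𝔉 h𝔊 θ
  have hz : ∀ (W : (𝔛.X 0).Opens) (x : MSec (kernel θ) W), x = 0 := by
    intro W x
    refine eq_zero_of_points _ x fun p hp => ?_
    obtain ⟨V, hV, hpV, hinj⟩ := h p
    obtain ⟨ι, κ, _, _, ⟨D⟩⟩ := exists_presOn hloc hK hV
    have he : ∀ i, D.e i = 0 := fun i => by
      refine _root_.ModSiteLib.injective_ap_of_mono (kernel.ι θ) V ?_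
      refine (hinj ?_).trans (map_zero ((kernel.ι θ).val.app (op V)).hom).symm
      refine Eq.trans ?_ (map_zero (θ.val.app (op V)).hom).symm
      exact congr($(congrArg (fun a : kernel θ ⟶ 𝔊 => a.val.app (op V)) (kernel.condition θ)) (D.e i))
    obtain ⟨W', hW', c, hpW', hc⟩ := D.pres.gen (W ⊓ V) inf_le_right (mres _ inf_le_left x) p ⟨hp, hpV⟩
    refine ⟨W', hW'.trans inf_le_left, hpW', (FModLib.mres_mres _ hW' inf_le_left x).symm.trans (hc.trans ?_)⟩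
    refine Finset.sum_eq_zero fun i _ => ?_
    exact (congrArg (fun z : MSec (kernel θ) W' => c i • z) ((congrArg (mres _ _) (he i)).trans (map_zero _))).trans
      (smul_zero _)
  refine Preadditive.mono_of_kernel_zero ?_
  refine SheafOfModules.hom_ext (PresheafOfModules.hom_ext fun W => ModuleCat.hom_ext (LinearMap.ext fun x => ?_))
  exact (congrArg ((kernel.ι θ).val.app W) (hz W.unop x)).trans (map_zero _)

/-- The stability bound on an affine open. -/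
theorem exists_bound (h𝔉 : IsCohF 𝔛 hloc.1 𝔉) (h𝔊 : IsCohF 𝔛 hloc.1 𝔊) (θ : 𝔉 ⟶ 𝔊) [Mono θ]
    {V : (𝔛.X 0).Opens} (hV : IsAffineOpen V) :
    ∃ k, ∀ n ≥ k, ∀ ψ : 𝔉 ⟶ 𝔊, ψ ≫ (levelMor 𝔛 hloc.1 n).adj.unit.app 𝔊 = 0 →
      Function.Injective ((θ + ψ).val.app (op V)) := by
  let R := RSec (𝔛.Osh hloc.1) V
  obtain ⟨I, hN, hI⟩ := exists_adic hloc hV
  obtain ⟨ι, κ, _, _, ⟨D⟩⟩ := exists_presOn hloc h𝔉 hV
  obtain ⟨μ, ν, _, _, ⟨E⟩⟩ := exists_presOn hloc h𝔊 hV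
  have := finite_sec hloc h𝔊 hV
  have := finite_sec hloc h𝔉 hV
  let f : MSec 𝔉 V →ₗ[R] MSec 𝔊 V := (θ.val.app (op V)).hom
  have hf : Function.Injective f := _root_.ModSiteLib.injective_ap_of_mono θ V
  obtain ⟨k, hk⟩ := I.exists_pow_inf_eq_pow_smul (M := MSec 𝔊 V) (LinearMap.range f)
  refine ⟨k, fun n hn ψ hψ => (injective_iff_map_eq_zero ((θ + ψ).val.app (op V)).hom).2 fun x hx => ?_⟩
  let g : MSec 𝔉 V →ₗ[R] MSec 𝔊 V := (ψ.val.app (op V)).hom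
  have hg : LinearMap.range g ≤ I ^ (n + 1) • ⊤ := by
    rintro _ ⟨y, rfl⟩
    exact (piSec_eq_zero_iff hloc h𝔊 hV E I hI n _).1
      (congr($(congrArg (fun a : 𝔉 ⟶ _ => a.val.app (op V)) hψ) y))
  have hx' : f x + g x = 0 := hx
  have key : ∀ j, x ∈ I ^ j • (⊤ : Submodule R (MSec 𝔉 V)) := by
    intro j
    induction j with
    | zero => rw [pow_zero, Ideal.one_eq_top, Submodule.top_smul]; trivial
    | succ j ih =>
      have h1 : g x ∈ I ^ (j + 1 + k) • (⊤ : Submodule R (MSec 𝔊 V)) := by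
        have h2 : g x ∈ (I ^ j • (⊤ : Submodule R (MSec 𝔉 V))).map g := ⟨x, ih, rfl⟩
        rw [Submodule.map_smul'', ← LinearMap.range_eq_map] at h2
        have h3 := Submodule.smul_mono le_rfl hg h2
        rw [← mul_smul, ← pow_add] at h3
        exact Submodule.smul_mono (Ideal.pow_le_pow_right (by omega)) le_rfl h3
      have h4 : f x ∈ (I ^ (j + 1 + k) • ⊤ ⊓ LinearMap.range f : Submodule R (MSec 𝔊 V)) :=
        ⟨by rw [eq_neg_of_add_eq_zero_left hx']; exact Submodule.neg_mem _ h1, ⟨x, rfl⟩⟩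
      rw [hk _ (Nat.le_add_left _ _), Nat.add_sub_cancel] at h4
      have h5 : f x ∈ I ^ (j + 1) • LinearMap.range f := Submodule.smul_mono le_rfl inf_le_right h4
      rw [LinearMap.range_eq_map, ← Submodule.map_smul''] at h5
      obtain ⟨x', hx'', he⟩ := h5
      exact hf he ▸ hx''
  refine rp_ext_of_piSec hloc h𝔉 hV D x fun j => ?_
  exact (piSec_eq_zero_iff hloc h𝔉 hV D I hI j x).2 (key (j + 1))
where
  rp_ext_of_piSec {𝔛 : Sys.{u}} (hloc : 𝔛.IsLocNoethFormal) {𝔉 : ModF 𝔛 hloc.1} (h𝔉 : IsCohF 𝔛 hloc.1 𝔉)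
      {V : (𝔛.X 0).Opens} (hV : IsAffineOpen V) {ι κ : Type u} [Fintype ι] [Fintype κ]
      (D : FModLib.PresOn hloc.1 𝔉 V ι κ) (x : MSec 𝔉 V) (h : ∀ j, piSec hloc.1 𝔉 j V x = 0) : x = 0 := by
    have : ∀ k, Coh.IsQCoh (FModLib.lev hloc.1 𝔉 k) := fun k => (FModLib.isCoh_lev hloc.1 𝔉 h𝔉 k).1
    obtain ⟨b, rfl⟩ := exists_comb hloc h𝔉 D hV le_rfl x
    exact FModLib.eq_zero_of_piSec hloc 𝔉 D hV le_rfl b h

/-- **Injective and surjective maps form open sets.** -/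
theorem exists_stable [CompactSpace (𝔛.X 0)] (h𝔉 : IsCohF 𝔛 hloc.1 𝔉) (h𝔊 : IsCohF 𝔛 hloc.1 𝔊) (θ : 𝔉 ⟶ 𝔊) :
    ∃ n : ℕ, ∀ ψ : 𝔉 ⟶ 𝔊, ψ ≫ (levelMor 𝔛 hloc.1 n).adj.unit.app 𝔊 = 0 →
      (Mono θ → Mono (θ + ψ)) ∧ (Epi θ → Epi (θ + ψ)) := by
  classical
  have hepi : ∀ (n : ℕ) (ψ : 𝔉 ⟶ 𝔊), ψ ≫ (levelMor 𝔛 hloc.1 n).adj.unit.app 𝔊 = 0 →
      Epi θ → Epi (θ + ψ) := fun n ψ hψ he => by
    refine epi_of_epi_level_zero hloc (θ + ψ) h𝔉 h𝔊 ?_
    let a := (levelMor 𝔛 hloc.1 0).adj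
    have := a.isLeftAdjoint
    have hadd : (levelMor 𝔛 hloc.1 0).push.Additive := ⟨fun {_ _ _ _} => rfl⟩
    have : (levelMor 𝔛 hloc.1 0).pull.Additive := @Adjunction.left_adjoint_additive _ _ _ _ _ _ _ _ a hadd
    have h0 : (levelMor 𝔛 hloc.1 0).pull.map ψ = 0 := by
      apply (a.homEquiv _ _).injective
      rw [a.homEquiv_unit, a.homEquiv_unit, Functor.map_zero, comp_zero]
      exact (a.unit.naturality ψ).symm.trans (unit_eq_zero_of_le hloc (Nat.zero_le n) ψ hψ)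
    rw [Functor.map_add, h0, add_zero]
    exact Functor.map_epi (levelMor 𝔛 hloc.1 0).pull θ
  by_cases hm : Mono θ
  · obtain ⟨t, ht⟩ := (isCompact_univ (X := 𝔛.X 0)).elim_finite_subcover
      (fun V : (𝔛.X 0).affineOpens => (V.1 : Set (𝔛.X 0))) (fun V => V.1.isOpen) fun p _ => by
        obtain ⟨V, hV, hp, -⟩ := Opens.isBasis_iff_nbhd.mp (𝔛.X 0).isBasis_affineOpens (U := ⊤) (x := p) trivial
        exact Set.mem_iUnion.2 ⟨⟨V, hV⟩, hp⟩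
    choose k hk using fun V : (𝔛.X 0).affineOpens => exists_bound hloc h𝔉 h𝔊 θ V.2
    refine ⟨t.sup k, fun ψ hψ => ⟨fun _ => mono_of_injective_affine hloc h𝔉 h𝔊 _ fun p => ?_, hepi _ ψ hψ⟩⟩
    obtain ⟨V, hV, hp⟩ := Set.mem_iUnion₂.1 (ht (Set.mem_univ p))
    exact ⟨V.1, V.2, hp, hk V _ (Finset.le_sup hV) ψ hψ⟩
  · exact ⟨0, fun ψ hψ => ⟨fun h => absurd h hm, hepi 0 ψ hψ⟩⟩

end FCohLib

end
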