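import Groth.Agent.FCohLib.CohIso
import Groth.Agent.FModLib.SchComp
import Groth.Agent.CohCmpLib.PuSec
import Groth.Agent.FComplLib.Completion
import Groth.Prelude.Def_FSch3

/-!
# The completion of a coherent module as the limit of its restrictions to the thickenings
-/

set_option autoImplicit false
set_option linter.style.haveILetI false
set_option maxHeartbeats 800000

universe u

open CategoryTheory CategoryTheory.Limits AlgebraicGeometry TopologicalSpace Opposite FSch
open FModLib (MSec RSec LocPres cmpl eta)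

noncomputable section

namespace FCohLib

theorem locPres_of_iso {X : TopCat.{u}} {O : Sheaf (Opens.grothendieckTopology X) CommRingCat.{u}}
    {M N : ModSite.Mod O} (θ : M ≅ N) {U : Opens X} {ι κ : Type u} [Fintype ι] [Fintype κ] {e : ι → MSec M U}
    {r : κ → ι → RSec O U} (hP : LocPres M U e r) : LocPres N U (fun i => θ.hom.val.app (op U) (e i)) r := by
  have h1 : ∀ (V : Opens X) (s : MSec N V), θ.hom.val.app (op V) (θ.inv.val.app (op V) s) = s := fun V s =>
    congr($(congrArg (fun a : N ⟶ N => a.val.app (op V)) θ.inv_hom_id) s)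
  have h2 : ∀ (V : Opens X) (s : MSec M V), θ.inv.val.app (op V) (θ.hom.val.app (op V) s) = s := fun V s =>
    congr($(congrArg (fun a : M ⟶ M => a.val.app (op V)) θ.hom_inv_id) s)
  refine ⟨fun j => (app_lc θ.hom le_rfl e (r j)).symm.trans ((congrArg _ (hP.rel j)).trans (map_zero _)),
    fun V hV s p hp => ?_, fun V hV c hc p hp => hP.ex V hV c ?_ p hp⟩
  · obtain ⟨W, hW, c, hpW, hc⟩ := hP.gen V hV (θ.inv.val.app (op V) s) p hp
    refine ⟨W, hW, c, hpW, ?_⟩
    refine Eq.trans ?_ ((congrArg (θ.hom.val.app (op W)) hc).trans (app_lc θ.hom _ e c))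
    exact ((congrArg (FModLib.mres N hW) (h1 V s)).symm.trans
      (PresheafOfModules.naturality_apply θ.hom.val (homOfLE hW).op _).symm)
  · exact (h2 V _).symm.trans ((congrArg (θ.inv.val.app (op V)) ((app_lc θ.hom hV e c).trans hc)).trans (map_zero _))

section Trans

variable {𝔛 : Sys.{u}} (h : 𝔛.IsFormal) {Y : Scheme.{u}} (p : ∀ n, 𝔛.X n ⟶ Y) (hp : ∀ n, 𝔛.ι n ≫ p (n + 1) = p n)

/-- The system of restrictions of a module. -/
abbrev resSys (F : Y.Modules) : ModSys 𝔛 :=
  ⟨fun k => (Scheme.Modules.pullback (p k)).obj F,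
    fun k => (Scheme.Modules.pullbackComp (𝔛.ι k) (p (k + 1)) ≪≫ Scheme.Modules.pullbackCongr (hp k)).app F⟩

theorem resSys_lvT (F : Y.Modules) (k : ℕ) {W : Y.Opens} (s : Γ(F, W)) (V : (𝔛.X 0).Opens)
    (h1 : 𝔛.lvU h (k + 1) V ≤ p (k + 1) ⁻¹ᵁ W) (h0 : 𝔛.lvU h k V ≤ p k ⁻¹ᵁ W) :
    lvT h (resSys p hp F).F (resSys p hp F).toPush k V (KFlatLib.puSecLE (p (k + 1)) F h1 s) =
      KFlatLib.puSecLE (p k) F h0 s := by
  have e1 := CohCmpLib.pullbackComp_puSecLE (𝔛.ι k) (p (k + 1)) F s h1 (𝔛.lvU_le h k V)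
  have e2 := CohCmpLib.pullbackCongr_puSec (hp k) F s ((𝔛.lvU_le h k V).trans ((𝔛.ι k).preimage_mono h1)) h0
  rw [lvT_toPush h (resSys p hp F) k V]
  exact (congrArg (((Scheme.Modules.pullbackCongr (hp k)).hom.app F).app (𝔛.lvU h k V)) e1).trans e2

theorem resSys_comp (F : Y.Modules) (k : ℕ) :
    ((Scheme.Modules.pullbackPushforwardAdjunction (p (k + 1))).unit.app F ≫
        (schPushCompare 𝔛 h p hp (k + 1)).app _) ≫
      (toSchemeMor 𝔛 h p hp).push.map ((levelMor 𝔛 h (k + 1)).push.map ((resSys p hp F).toPush k) ≫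
        (pushCompare 𝔛 h k).app ((resSys p hp F).F k)) =
      (Scheme.Modules.pullbackPushforwardAdjunction (p k)).unit.app F ≫ (schPushCompare 𝔛 h p hp k).app _ := by
  refine SheafOfModules.hom_ext (PresheafOfModules.hom_ext fun W => ModuleCat.hom_ext (LinearMap.ext fun s => ?_))
  exact resSys_lvT h p hp F k (W := W.unop) s ((Opens.map (p 0).base).obj W.unop)
    (lvU_p 𝔛 h p hp (k + 1) W.unop).ge (lvU_p 𝔛 h p hp k W.unop).ge

variable (F : Y.Modules)

/-- The component of the comparison at a level. -/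
def cmpK (k : ℕ) : F ⟶ (toSchemeMor 𝔛 h p hp).push.obj ((levelMor 𝔛 h k).push.obj ((resSys p hp F).F k)) :=
  (Scheme.Modules.pullbackPushforwardAdjunction (p k)).unit.app F ≫
    (schPushCompare 𝔛 h p hp k).app _

theorem cmpK_succ (k : ℕ) :
    cmpK h p hp F (k + 1) ≫ (toSchemeMor 𝔛 h p hp).push.map ((levelMor 𝔛 h (k + 1)).push.map ((resSys p hp F).toPush k) ≫
      (pushCompare 𝔛 h k).app ((resSys p hp F).F k)) = cmpK h p hp F k := by
  exact resSys_comp h p hp F k

/-- The cone of the comparisons. -/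
def cmpCone : Cone (levelSysOf 𝔛 h (resSys p hp F).F (resSys p hp F).toPush) where
  pt := (toSchemeMor 𝔛 h p hp).pull.obj F
  π := NatTrans.ofOpSequence (fun k => ((toSchemeMor 𝔛 h p hp).adj.homEquiv _ _).symm (cmpK h p hp F k)) fun k => by
    show (𝟙 ((toSchemeMor 𝔛 h p hp).pull.obj F) : (toSchemeMor 𝔛 h p hp).pull.obj F ⟶ _) ≫ _ = _
    rw [Category.id_comp, levelSysOf_map_succ]
    refine Eq.trans (congrArg ((toSchemeMor 𝔛 h p hp).adj.homEquiv _ _).symm (cmpK_succ h p hp F k).symm) ?_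
    exact (toSchemeMor 𝔛 h p hp).adj.homEquiv_naturality_right_symm _ _

/-- The comparison. -/
def cmpReal : (toSchemeMor 𝔛 h p hp).pull.obj F ⟶ (resSys p hp F).realMod h := limit.lift _ (cmpCone h p hp F)

theorem cmpReal_realProj (k : ℕ) :
    cmpReal h p hp F ≫ realProj 𝔛 h (resSys p hp F).F (resSys p hp F).toPush k =
      ((toSchemeMor 𝔛 h p hp).adj.homEquiv _ _).symm (cmpK h p hp F k) :=
  limit.lift_π _ _

theorem homEquiv_cmpReal (k : ℕ) :
    ((toSchemeMor 𝔛 h p hp).adj.homEquiv _ _ (cmpReal h p hp F)) ≫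
        (toSchemeMor 𝔛 h p hp).push.map (realProj 𝔛 h (resSys p hp F).F (resSys p hp F).toPush k) =
      cmpK h p hp F k :=
  ((toSchemeMor 𝔛 h p hp).adj.homEquiv_naturality_right _ _).symm.trans
    ((congrArg ((toSchemeMor 𝔛 h p hp).adj.homEquiv _ _) (cmpReal_realProj h p hp F k)).trans (Equiv.apply_symm_apply _ _))

theorem exists_level_iso (k : ℕ) :
    ∃ θ : FModLib.lev h (cmpl h p hp F) k ≅ (resSys p hp F).F k,
      cmpReal h p hp F ≫ realProj 𝔛 h (resSys p hp F).F (resSys p hp F).toPush k =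
        (levelMor 𝔛 h k).adj.unit.app _ ≫
          (levelMor 𝔛 h k).push.map θ.hom := by
  obtain ⟨θ, hθ⟩ := FModLib.eta_eq_unit h p hp F k
  refine ⟨θ.symm, ?_⟩
  rw [cmpReal_realProj, Equiv.symm_apply_eq]
  refine Eq.symm (((toSchemeMor 𝔛 h p hp).adj.homEquiv_naturality_right _ _).trans ?_)
  refine (congrArg (fun q => q ≫ (toSchemeMor 𝔛 h p hp).push.map ((levelMor 𝔛 h k).push.map θ.inv))
    (((toSchemeMor 𝔛 h p hp).adj.homEquiv_unit _ _ _).trans hθ)).trans ?_
  refine (Category.assoc _ _ _).trans (congrArg (fun q => (Scheme.Modules.pullbackPushforwardAdjunction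
    (p k)).unit.app F ≫ q) ?_)
  refine (Category.assoc _ _ _).trans ?_
  refine (congrArg (fun q => (Scheme.Modules.pushforward (p k)).map θ.hom ≫ q)
    ((schPushCompare 𝔛 h p hp k).naturality θ.inv).symm).trans ?_
  refine (Category.assoc _ _ _).symm.trans ?_
  refine (congrArg (fun q => q ≫ (schPushCompare 𝔛 h p hp k).app _)
    (((Scheme.Modules.pushforward (p k)).map_comp _ _).symm.trans
      ((congrArg (Scheme.Modules.pushforward (p k)).map θ.hom_inv_id).trans
        ((Scheme.Modules.pushforward (p k)).map_id _)))).trans ?_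
  exact Category.id_comp _

theorem isIso_cmpReal (hloc : 𝔛.IsLocNoethFormal)
    (hFP : SheafOfModules.IsFinitePresentation (R := ModSite.ringSh Y.sheaf) F) : IsIso (cmpReal h p hp F) := by
  have hcoh : IsCohF _ h ((toSchemeMor 𝔛 h p hp).pull.obj F) :=
    FModLib.isFP_pull (p 0).base
      (schSharp 𝔛 h p hp) F
  have hq : ∀ k, Coh.IsQCoh ((resSys p hp F).F k) := fun k => by
    obtain ⟨θ, -⟩ := exists_level_iso h p hp F k
    have : Coh.IsQCoh (FModLib.lev h (cmpl h p hp F) k) :=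
      (FModLib.isCoh_lev h _ hcoh k).1
    exact QCohLib.isQCoh_of_iso θ
  refine isIso_of_locPres (cmpReal h p hp F) fun q => ?_
  obtain ⟨U, ι, κ, _, _, π, ψ, _, w, hpU, hex⟩ := FModLib.exists_locPres ((toSchemeMor 𝔛 h p hp).pull.obj F) hcoh q
  have hP := FModLib.locPres_of_exact _ π ψ w hex
  refine ⟨U, ι, κ, inferInstance, inferInstance, _, _, hpU, hP, ?_⟩
  refine locPres_real hloc (resSys p hp F).F (resSys p hp F).toPush fun k => ?_
  obtain ⟨θ, hθ⟩ := exists_level_iso h p hp F k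
  have key := locPres_of_iso (M := FModLib.lev h ((toSchemeMor 𝔛 h p hp).pull.obj F) k) (N := (resSys p hp F).F k) θ
    (presLev_of_locPres hloc _ hP k)
  rw [show (fun i => rp h (resSys p hp F).F (resSys p hp F).toPush k U
      ((cmpReal h p hp F).val.app (op U) (FModLib.genSec _ π i))) =
        fun i => θ.hom.val.app (op (𝔛.lvU h k U))
          (FModLib.piSec h ((toSchemeMor 𝔛 h p hp).pull.obj F) k U (FModLib.genSec _ π i)) from
    funext fun i => congr($(congrArg (fun a : (toSchemeMor 𝔛 h p hp).pull.obj F ⟶ _ => a.val.app (op U)) hθ) _)]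
  exact key

/-- **The completion of a coherent module is the limit of its restrictions.** -/
theorem exists_cmplIso (hloc : 𝔛.IsLocNoethFormal)
    (hFP : SheafOfModules.IsFinitePresentation (R := ModSite.ringSh Y.sheaf) F) :
    ∃ e : (toSchemeMor 𝔛 h p hp).pull.obj F ≅ (resSys p hp F).realMod h,
      ∀ k, ((toSchemeMor 𝔛 h p hp).adj.homEquiv _ _ e.hom) ≫
          (toSchemeMor 𝔛 h p hp).push.map (realProj 𝔛 h (resSys p hp F).F (resSys p hp F).toPush k) =
        (Scheme.Modules.pullbackPushforwardAdjunction (p k)).unit.app F ≫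
          (schPushCompare 𝔛 h p hp k).app _ :=
  ⟨@asIso _ _ _ _ (cmpReal h p hp F) (isIso_cmpReal h p hp F hloc hFP), homEquiv_cmpReal h p hp F⟩

end Trans

end FCohLib

end
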