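import Groth.Agent.FCohLib.CohIso
import Groth.Agent.CohCmpLib.PuSec
import Groth.Agent.CohCmpLib.PullOnComp
import Groth.Agent.KFlatLib.QCohPull
import Groth.Prelude.Def_FSch6

/-!
# The inverse image of the module of a coherent system is the module of the inverse-image system
-/

set_option autoImplicit false
set_option linter.style.haveILetI false
set_option maxHeartbeats 800000

universe u

open CategoryTheory CategoryTheory.Limits AlgebraicGeometry TopologicalSpace Opposite FSch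
open FModLib (MSec RSec oK mres rres lc LocPres)

noncomputable section

namespace FCohLib

theorem locPres_res {X : TopCat.{u}} {O : Sheaf (Opens.grothendieckTopology X) CommRingCat.{u}} {M : ModSite.Mod O}
    {U U' : Opens X} (h : U' ≤ U) {ι κ : Type u} [Fintype ι] [Fintype κ] {e : ι → MSec M U} {r : κ → ι → RSec O U}
    (hP : LocPres M U e r) : LocPres M U' (fun i => mres M h (e i)) (fun j i => rres O h (r j i)) := by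
  have hlc : ∀ {V : Opens X} (hV : V ≤ U') (c : ι → RSec O V),
      lc M hV (fun i => mres M h (e i)) c = lc M (hV.trans h) e c := fun hV c =>
    Finset.sum_congr rfl fun i _ => congrArg (fun z => c i • z) (FModLib.mres_mres M hV h (e i))
  refine ⟨fun j => ?_, fun V hV s p hp => ?_, fun V hV c hc p hp => ?_⟩
  · refine (hlc le_rfl _).trans ((FModLib.mres_lc M h le_rfl e (r j)).symm.trans ?_)
    exact (congrArg (mres M h) (hP.rel j)).trans (map_zero _)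
  · obtain ⟨W, hW, c, hpW, hc⟩ := hP.gen V (hV.trans h) s p hp
    exact ⟨W, hW, c, hpW, hc.trans (hlc (hW.trans hV) c).symm⟩
  · obtain ⟨W, hW, d, hpW, hd⟩ := hP.ex V (hV.trans h) c ((hlc hV c).symm.trans hc) p hp
    exact ⟨W, hW, d, hpW, fun i => (hd i).trans
      (Finset.sum_congr rfl fun j _ => congrArg (fun z => d j * z) (FModLib.rres_rres (hW.trans hV) h _).symm)⟩

variable {𝔛 𝔜 : Sys.{u}} (f : 𝔛 ⟶ 𝔜) (h𝔛 : 𝔛.IsFormal) (h𝔜 : 𝔜.IsFormal) (𝔐 : ModSys 𝔜)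

/-- The morphism of a level. -/
abbrev fk (k : ℕ) : 𝔛.X k ⟶ 𝔜.X k := (f : Hom 𝔛 𝔜).app k

theorem lvT_pullback (k : ℕ) (V : (𝔛.X 0).Opens) (V' : (𝔜.X 0).Opens)
    (h1 : 𝔛.lvU h𝔛 (k + 1) V ≤ fk f (k + 1) ⁻¹ᵁ 𝔜.lvU h𝔜 (k + 1) V')
    (h0 : 𝔛.lvU h𝔛 k V ≤ fk f k ⁻¹ᵁ 𝔜.lvU h𝔜 k V') (m : Γ(𝔐.F (k + 1), 𝔜.lvU h𝔜 (k + 1) V')) :
    lvT h𝔛 (ModSys.pullback f 𝔐).F (ModSys.pullback f 𝔐).toPush k V
        (KFlatLib.puSecLE (fk f (k + 1)) (𝔐.F (k + 1)) h1 m) =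
      KFlatLib.puSecLE (fk f k) (𝔐.F k) h0 (lvT h𝔜 𝔐.F 𝔐.toPush k V' m) := by
  have e1 := CohCmpLib.pullbackComp_puSecLE (𝔛.ι k) (fk f (k + 1)) (𝔐.F (k + 1)) m h1 (𝔛.lvU_le h𝔛 k V)
  have e2 := CohCmpLib.pullbackCongr_puSec ((f : Hom 𝔛 𝔜).comm k).symm (𝔐.F (k + 1)) m
    ((𝔛.lvU_le h𝔛 k V).trans ((𝔛.ι k).preimage_mono h1)) (h0.trans ((fk f k).preimage_mono (𝔜.lvU_le h𝔜 k V')))
  have e3 := CohCmpLib.pullbackComp_puSecLE (fk f k) (𝔜.ι k) (𝔐.F (k + 1)) m (𝔜.lvU_le h𝔜 k V') h0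
  rw [lvT_toPush h𝔛 (ModSys.pullback f 𝔐) k V, lvT_toPush h𝔜 𝔐 k V']
  show ((Scheme.Modules.pullback (fk f k)).map (𝔐.e k).hom).app _
      (((Scheme.Modules.pullbackComp (fk f k) (𝔜.ι k)).inv.app (𝔐.F (k + 1))).app _
        (((Scheme.Modules.pullbackCongr ((f : Hom 𝔛 𝔜).comm k).symm).hom.app (𝔐.F (k + 1))).app _
          (((Scheme.Modules.pullbackComp (𝔛.ι k) (fk f (k + 1))).hom.app (𝔐.F (k + 1))).app _ _))) = _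
  refine (congrArg (fun z => ((Scheme.Modules.pullback (fk f k)).map (𝔐.e k).hom).app (𝔛.lvU h𝔛 k V)
      (((Scheme.Modules.pullbackComp (fk f k) (𝔜.ι k)).inv.app (𝔐.F (k + 1))).app (𝔛.lvU h𝔛 k V)
        (((Scheme.Modules.pullbackCongr ((f : Hom 𝔛 𝔜).comm k).symm).hom.app (𝔐.F (k + 1))).app (𝔛.lvU h𝔛 k V) z))) e1).trans ?_
  refine (congrArg (fun z => ((Scheme.Modules.pullback (fk f k)).map (𝔐.e k).hom).app (𝔛.lvU h𝔛 k V)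
      (((Scheme.Modules.pullbackComp (fk f k) (𝔜.ι k)).inv.app (𝔐.F (k + 1))).app (𝔛.lvU h𝔛 k V) z))
        (e2.trans e3.symm)).trans ?_
  refine (congrArg (((Scheme.Modules.pullback (fk f k)).map (𝔐.e k).hom).app (𝔛.lvU h𝔛 k V))
    (congr($(congrArg (fun a : (Scheme.Modules.pullback (𝔜.ι k) ⋙ Scheme.Modules.pullback (fk f k)).obj (𝔐.F (k + 1)) ⟶ _ =>
      a.app (𝔛.lvU h𝔛 k V)) ((Scheme.Modules.pullbackComp (fk f k) (𝔜.ι k)).hom_inv_id_app (𝔐.F (k + 1)))) _))).trans ?_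
  exact CohCmpLib.puSecLE_natural (fk f k) (𝔐.e k).hom h0 _

/-- The component of the comparison at a level. -/
def pcK (k : ℕ) : 𝔐.realMod h𝔜 ⟶
    (pushF f h𝔛 h𝔜).obj ((levelMor 𝔛 h𝔛 k).push.obj ((ModSys.pullback f 𝔐).F k)) :=
  realProj 𝔜 h𝔜 𝔐.F 𝔐.toPush k ≫
    (levelMor 𝔜 h𝔜 k).push.map ((ModSite.RMor.ofScheme (fk f k)).adj.unit.app (𝔐.F k)) ≫
      (lvPushSq f h𝔛 h𝔜 k).inv.app ((ModSys.pullback f 𝔐).F k)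

theorem pcK_app (k : ℕ) (W : (𝔜.X 0).Opens) (s : MSec (𝔐.realMod h𝔜) W) :
    (pcK f h𝔛 h𝔜 𝔐 k).val.app (op W) s = KFlatLib.puSecLE (fk f k) (𝔐.F k)
      (U' := 𝔛.lvU h𝔛 k ((f : Hom 𝔛 𝔜).app 0 ⁻¹ᵁ W)) (Hom.lvU_preimage f h𝔛 h𝔜 k W).ge
      (rp h𝔜 𝔐.F 𝔐.toPush k W s) := by
  rfl

theorem pcK_succ (k : ℕ) :
    pcK f h𝔛 h𝔜 𝔐 (k + 1) ≫ (pushF f h𝔛 h𝔜).map ((levelMor 𝔛 h𝔛 (k + 1)).push.map ((ModSys.pullback f 𝔐).toPush k) ≫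
      (pushCompare 𝔛 h𝔛 k).app ((ModSys.pullback f 𝔐).F k)) = pcK f h𝔛 h𝔜 𝔐 k := by
  refine SheafOfModules.hom_ext (PresheafOfModules.hom_ext fun W => ModuleCat.hom_ext (LinearMap.ext fun s => ?_))
  refine Eq.trans ?_ (pcK_app f h𝔛 h𝔜 𝔐 k W.unop s).symm
  refine Eq.trans ?_ ((lvT_pullback f h𝔛 h𝔜 𝔐 k ((f : Hom 𝔛 𝔜).app 0 ⁻¹ᵁ W.unop) W.unop
    (Hom.lvU_preimage f h𝔛 h𝔜 (k + 1) W.unop).ge (Hom.lvU_preimage f h𝔛 h𝔜 k W.unop).ge (rp h𝔜 𝔐.F 𝔐.toPush (k + 1) W.unop s)).trans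
      (congrArg (KFlatLib.puSecLE (fk f k) (𝔐.F k) _) (rp_succ h𝔜 𝔐.F 𝔐.toPush k W.unop s)))
  exact congrArg (lvT h𝔛 (ModSys.pullback f 𝔐).F (ModSys.pullback f 𝔐).toPush k ((f : Hom 𝔛 𝔜).app 0 ⁻¹ᵁ W.unop))
    (pcK_app f h𝔛 h𝔜 𝔐 (k + 1) W.unop s)

/-- The cone of the comparisons. -/
def pcCone : Cone (levelSysOf 𝔛 h𝔛 (ModSys.pullback f 𝔐).F (ModSys.pullback f 𝔐).toPush) where
  pt := (pullF f h𝔛 h𝔜).obj (𝔐.realMod h𝔜)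
  π := NatTrans.ofOpSequence (fun k => ((homMor f h𝔛 h𝔜).adj.homEquiv _ _).symm (pcK f h𝔛 h𝔜 𝔐 k)) fun k => by
    show (𝟙 ((pullF f h𝔛 h𝔜).obj (𝔐.realMod h𝔜)) : (pullF f h𝔛 h𝔜).obj (𝔐.realMod h𝔜) ⟶ _) ≫ _ = _
    rw [Category.id_comp, levelSysOf_map_succ]
    refine Eq.trans (congrArg ((homMor f h𝔛 h𝔜).adj.homEquiv _ _).symm (pcK_succ f h𝔛 h𝔜 𝔐 k).symm) ?_
    exact (homMor f h𝔛 h𝔜).adj.homEquiv_naturality_right_symm _ _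

/-- The comparison. -/
def pullReal : (pullF f h𝔛 h𝔜).obj (𝔐.realMod h𝔜) ⟶ (ModSys.pullback f 𝔐).realMod h𝔛 :=
  limit.lift _ (pcCone f h𝔛 h𝔜 𝔐)

theorem homEquiv_pullReal (k : ℕ) :
    (homMor f h𝔛 h𝔜).adj.homEquiv _ _ (pullReal f h𝔛 h𝔜 𝔐) ≫
        (pushF f h𝔛 h𝔜).map (realProj 𝔛 h𝔛 (ModSys.pullback f 𝔐).F (ModSys.pullback f 𝔐).toPush k) =
      pcK f h𝔛 h𝔜 𝔐 k := by
  refine ((homMor f h𝔛 h𝔜).adj.homEquiv_naturality_right _ _).symm.trans ?_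
  refine (congrArg ((homMor f h𝔛 h𝔜).adj.homEquiv _ _)
    (limit.lift_π (pcCone f h𝔛 h𝔜 𝔐) (op k))).trans ?_
  exact Equiv.apply_symm_apply _ _

theorem rp_pullReal (k : ℕ) (W : (𝔜.X 0).Opens) (s : MSec (𝔐.realMod h𝔜) W) :
    rp h𝔛 (ModSys.pullback f 𝔐).F (ModSys.pullback f 𝔐).toPush k ((f : Hom 𝔛 𝔜).app 0 ⁻¹ᵁ W)
        ((pullReal f h𝔛 h𝔜 𝔐).val.app (op ((f : Hom 𝔛 𝔜).app 0 ⁻¹ᵁ W))
          (FModLib.unitSec ((f : Hom 𝔛 𝔜).app 0).base (Hom.sharp f h𝔛 h𝔜) (𝔐.realMod h𝔜) W s)) =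
      KFlatLib.puSecLE (fk f k) (𝔐.F k) (Hom.lvU_preimage f h𝔛 h𝔜 k W).ge (rp h𝔜 𝔐.F 𝔐.toPush k W s) := by
  refine Eq.trans ?_ (pcK_app f h𝔛 h𝔜 𝔐 k W s)
  have h := homEquiv_pullReal f h𝔛 h𝔜 𝔐 k
  rw [Adjunction.homEquiv_unit] at h
  exact congr($(congrArg (fun a : 𝔐.realMod h𝔜 ⟶ _ => a.val.app (op W)) h) s)

theorem oK_sharp (k : ℕ) (W : (𝔜.X 0).Opens) (b : RSec (𝔜.Osh h𝔜) W) :
    oK h𝔛 k ((f : Hom 𝔛 𝔜).app 0 ⁻¹ᵁ W) (FModLib.sharpSec ((f : Hom 𝔛 𝔜).app 0).base (Hom.sharp f h𝔛 h𝔜) W b) =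
      rres (𝔛.X k).sheaf (Hom.lvU_preimage f h𝔛 h𝔜 k W).ge
        (FModLib.sharpSec (fk f k).base ⟨(fk f k).c⟩ (𝔜.lvU h𝔜 k W) (oK h𝔜 k W b)) :=
 by
  have h := Hom.sharp_proj f h𝔛 h𝔜 k
  have h2 := congrArg (fun t => t.hom.app (op W)) h
  exact congr($h2 b)

variable (hloc𝔛 : 𝔛.IsLocNoethFormal) (hloc𝔜 : 𝔜.IsLocNoethFormal)

theorem isIso_pullReal (h𝔐 : 𝔐.IsCoh) : IsIso (pullReal f hloc𝔛.1 hloc𝔜.1 𝔐) := by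
  have hq : ∀ k, Coh.IsQCoh ((ModSys.pullback f 𝔐).F k) := fun k => by
    have : Coh.IsQCoh (𝔐.F k) := (h𝔐 k).1
    exact KFlatLib.isQCoh_pullback (fk f k) (𝔐.F k)
  refine isIso_of_locPres (pullReal f hloc𝔛.1 hloc𝔜.1 𝔐) fun q => ?_
  obtain ⟨V, hV, hqV, -⟩ :=
    Opens.isBasis_iff_nbhd.mp (𝔜.X 0).isBasis_affineOpens (U := ⊤) (x := ((f : Hom 𝔛 𝔜).app 0) q) trivial
  obtain ⟨ι, κ, _, _, e, r, hl, hP⟩ := exists_locPres_real hloc𝔜 𝔐 h𝔐 hV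
  refine ⟨(f : Hom 𝔛 𝔜).app 0 ⁻¹ᵁ V, ι, κ, inferInstance, inferInstance, _, _, hqV,
    locPres_pullSec ((f : Hom 𝔛 𝔜).app 0).base (Hom.sharp f hloc𝔛.1 hloc𝔜.1) (M := 𝔐.realMod hloc𝔜.1) hP, ?_⟩
  refine locPres_real hloc𝔛 (ModSys.pullback f 𝔐).F (ModSys.pullback f 𝔐).toPush fun k => ?_
  have key := locPres_res (O := (𝔛.X k).sheaf) (Hom.lvU_preimage f hloc𝔛.1 hloc𝔜.1 k V).ge
    (locPres_pullSec (fk f k).base (OX := (𝔛.X k).sheaf) (OY := (𝔜.X k).sheaf) ⟨(fk f k).c⟩ (M := 𝔐.F k) (hl k))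
  rw [show (fun i => rp hloc𝔛.1 (ModSys.pullback f 𝔐).F (ModSys.pullback f 𝔐).toPush k ((f : Hom 𝔛 𝔜).app 0 ⁻¹ᵁ V)
      ((pullReal f hloc𝔛.1 hloc𝔜.1 𝔐).val.app (op ((f : Hom 𝔛 𝔜).app 0 ⁻¹ᵁ V))
        (FModLib.unitSec ((f : Hom 𝔛 𝔜).app 0).base (Hom.sharp f hloc𝔛.1 hloc𝔜.1) (𝔐.realMod hloc𝔜.1) V (e i)))) =
      fun i => KFlatLib.puSecLE (fk f k) (𝔐.F k) (Hom.lvU_preimage f hloc𝔛.1 hloc𝔜.1 k V).ge
        (rp hloc𝔜.1 𝔐.F 𝔐.toPush k V (e i)) from funext fun i => rp_pullReal f hloc𝔛.1 hloc𝔜.1 𝔐 k V (e i),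
    show (fun j i => oK hloc𝔛.1 k ((f : Hom 𝔛 𝔜).app 0 ⁻¹ᵁ V)
      (FModLib.sharpSec ((f : Hom 𝔛 𝔜).app 0).base (Hom.sharp f hloc𝔛.1 hloc𝔜.1) V (r j i))) = _ from
      funext fun j => funext fun i => oK_sharp f hloc𝔛.1 hloc𝔜.1 k V (r j i)]
  exact key

/-- **Inverse images of coherent systems and of their modules agree.** -/
theorem exists_pullIso (h𝔐 : 𝔐.IsCoh) :
    ∃ e : (pullF f hloc𝔛.1 hloc𝔜.1).obj (𝔐.realMod hloc𝔜.1) ≅ (ModSys.pullback f 𝔐).realMod hloc𝔛.1,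
      ∀ k : ℕ, (homMor f hloc𝔛.1 hloc𝔜.1).adj.homEquiv _ _ e.hom ≫
          (pushF f hloc𝔛.1 hloc𝔜.1).map (realProj 𝔛 hloc𝔛.1 _ _ k) ≫
          (lvPushSq f hloc𝔛.1 hloc𝔜.1 k).hom.app ((ModSys.pullback f 𝔐).F k) =
        realProj 𝔜 hloc𝔜.1 _ _ k ≫
          (levelMor 𝔜 hloc𝔜.1 k).push.map ((ModSite.RMor.ofScheme (fk f k)).adj.unit.app (𝔐.F k)) := by
  refine ⟨@asIso _ _ _ _ (pullReal f hloc𝔛.1 hloc𝔜.1 𝔐) (isIso_pullReal f 𝔐 hloc𝔛 hloc𝔜 h𝔐), fun k => ?_⟩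
  refine (Category.assoc _ _ _).symm.trans ?_
  refine (congrArg (fun a => a ≫ (lvPushSq f hloc𝔛.1 hloc𝔜.1 k).hom.app ((ModSys.pullback f 𝔐).F k))
    (homEquiv_pullReal f hloc𝔛.1 hloc𝔜.1 𝔐 k)).trans ?_
  refine (Category.assoc _ _ _).trans (congrArg (fun a => realProj 𝔜 hloc𝔜.1 𝔐.F 𝔐.toPush k ≫ a) ?_)
  refine (Category.assoc _ _ _).trans ?_
  exact (congrArg (fun a => _ ≫ a) ((lvPushSq f hloc𝔛.1 hloc𝔜.1 k).inv_hom_id_app ((ModSys.pullback f 𝔐).F k))).trans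
    (Category.comp_id _)

end FCohLib

end
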