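import Groth.Agent.FCohLib.AlgzPush
import Groth.Agent.FCohLib.CmplReal
import Groth.Agent.FCohLib.PullReal
import Groth.Agent.CohCmpLib.PullOnComp
import Groth.Agent.CohCmpLib.PullZero
import Groth.Agent.CohCmpLib.UnitFibre

/-!
# The completion of a direct image maps to the direct image of the completion
-/

set_option autoImplicit false
set_option linter.style.haveILetI false
set_option maxHeartbeats 800000

universe u

open CategoryTheory CategoryTheory.Limits AlgebraicGeometry TopologicalSpace Opposite FSch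
open FModLib (MSec RSec)
open KFlatLib (puSec puSecLE)

noncomputable section

namespace FCohLib

theorem hom_ext_puSec₃ {X₃ X₂ X₁ Y : Scheme.{u}} {f : X₃ ⟶ X₂} {g : X₂ ⟶ X₁} {h : X₁ ⟶ Y} {M : Y.Modules}
    {N : X₃.Modules}
    (a b : (Scheme.Modules.pullback f).obj ((Scheme.Modules.pullback g).obj ((Scheme.Modules.pullback h).obj M)) ⟶ N)
    (e : ∀ (U : Y.Opens) (m : Γ(M, U)), a.app (f ⁻¹ᵁ (g ⁻¹ᵁ (h ⁻¹ᵁ U))) (puSec f (puSec g (puSec h m))) =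
      b.app (f ⁻¹ᵁ (g ⁻¹ᵁ (h ⁻¹ᵁ U))) (puSec f (puSec g (puSec h m)))) : a = b := by
  apply ((Scheme.Modules.pullbackPushforwardAdjunction f).homEquiv _ _).injective
  refine CohCmpLib.hom_ext_puSec₂ _ _ fun U m => ?_
  rw [Adjunction.homEquiv_unit, Adjunction.homEquiv_unit]
  exact e U m

theorem pullTri_puSec {Z Z' X : Scheme.{u}} (ι : Z ⟶ Z') (i : Z' ⟶ X) {j : Z ⟶ X} (hc : ι ≫ i = j) (M : X.Modules)
    {U : X.Opens} (m : Γ(M, U)) {V : Z'.Opens} (hV : V ≤ i ⁻¹ᵁ U) {W : Z.Opens} (hW : W ≤ ι ⁻¹ᵁ V)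
    (hW' : W ≤ j ⁻¹ᵁ U) :
    ((pullTri ι i hc).hom.app M).app W (puSecLE ι _ hW (puSecLE i M hV m)) = puSecLE j M hW' m :=
  (congrArg (((Scheme.Modules.pullbackCongr hc).hom.app M).app W)
    (CohCmpLib.pullbackComp_puSecLE ι i M m hV hW)).trans (CohCmpLib.pullbackCongr_puSec hc M m _ hW')

section Theta

variable {Z X Z₀ X₀ : Scheme.{u}} (g : Z ⟶ X) (g₀ : Z₀ ⟶ X₀) (p : X₀ ⟶ X) (q : Z₀ ⟶ Z)
  (w : g₀ ≫ p = q ≫ g) (G : Z.Modules)

/-- The comparison of a level. -/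
def theta : (Scheme.Modules.pullback g₀).obj ((Scheme.Modules.pullback p).obj
    ((Scheme.Modules.pushforward g).obj G)) ⟶ (Scheme.Modules.pullback q).obj G :=
  ((pullTri g₀ p w).app ((Scheme.Modules.pushforward g).obj G)).hom ≫
    (Scheme.Modules.pullbackComp q g).inv.app ((Scheme.Modules.pushforward g).obj G) ≫
      (Scheme.Modules.pullback q).map ((Scheme.Modules.pullbackPushforwardAdjunction g).counit.app G)

theorem theta_puSec {U : X.Opens} (m : Γ(G, g ⁻¹ᵁ U)) {V : X₀.Opens} (hV : V ≤ p ⁻¹ᵁ U) {W : Z₀.Opens}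
    (hW : W ≤ g₀ ⁻¹ᵁ V) (hW' : W ≤ q ⁻¹ᵁ (g ⁻¹ᵁ U)) :
    (theta g g₀ p q w G).app W (puSecLE g₀ _ hW
        (puSecLE p ((Scheme.Modules.pushforward g).obj G) hV (show Γ((Scheme.Modules.pushforward g).obj G, U) from m))) =
      puSecLE q G hW' m := by
  let F := (Scheme.Modules.pushforward g).obj G
  let m' : Γ(F, U) := m
  let h1 : W ≤ (g₀ ≫ p) ⁻¹ᵁ U := hW.trans (g₀.preimage_mono hV)
  have e1 := CohCmpLib.pullbackComp_puSecLE g₀ p F m' hV hW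
  have e2 := CohCmpLib.pullbackCongr_puSec w F m' h1 hW'
  have e3 := CohCmpLib.pullbackComp_puSecLE q g F m' (V := g ⁻¹ᵁ U) le_rfl hW'
  show ((Scheme.Modules.pullback q).map ((Scheme.Modules.pullbackPushforwardAdjunction g).counit.app G)).app W
    (((Scheme.Modules.pullbackComp q g).inv.app F).app W (((Scheme.Modules.pullbackCongr w).hom.app F).app W
      (((Scheme.Modules.pullbackComp g₀ p).hom.app F).app W _))) = _
  refine (congrArg (fun z => ((Scheme.Modules.pullback q).map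
    ((Scheme.Modules.pullbackPushforwardAdjunction g).counit.app G)).app W
    (((Scheme.Modules.pullbackComp q g).inv.app F).app W (((Scheme.Modules.pullbackCongr w).hom.app F).app W z))) e1).trans ?_
  refine (congrArg (fun z => ((Scheme.Modules.pullback q).map
    ((Scheme.Modules.pullbackPushforwardAdjunction g).counit.app G)).app W
    (((Scheme.Modules.pullbackComp q g).inv.app F).app W z)) (e2.trans e3.symm)).trans ?_
  refine (congrArg (((Scheme.Modules.pullback q).map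
      ((Scheme.Modules.pullbackPushforwardAdjunction g).counit.app G)).app W)
    (congr($(congrArg (fun a : (Scheme.Modules.pullback g ⋙ Scheme.Modules.pullback q).obj F ⟶ _ => a.app W)
      ((Scheme.Modules.pullbackComp q g).hom_inv_id_app F)) _))).trans ?_
  refine (CohCmpLib.puSecLE_natural q ((Scheme.Modules.pullbackPushforwardAdjunction g).counit.app G) hW' _).trans
    (congrArg (puSecLE q G hW') ?_)
  rw [CohCmpLib.puSecLE_refl]
  exact CohCmpLib.counit_puSec g G m'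

end Theta

section Sys

variable {𝔛 𝔜 : Sys.{u}} (φ : 𝔛 ⟶ 𝔜) {X Z : Scheme.{u}} (g : Z ⟶ X) (q : ∀ n, 𝔛.X n ⟶ Z)
  (hq : ∀ n, 𝔛.ι n ≫ q (n + 1) = q n) (p : ∀ n, 𝔜.X n ⟶ X) (hp : ∀ n, 𝔜.ι n ≫ p (n + 1) = p n)
  (w : ∀ k, fk φ k ≫ p k = q k ≫ g) (G : Z.Modules)

/-- The levels of the comparison. -/
abbrev thetaK (k : ℕ) : (ModSys.pullback φ (resSys p hp ((Scheme.Modules.pushforward g).obj G))).F k ⟶
    (resSys q hq G).F k :=
  theta g (fk φ k) (p k) (q k) (w k) G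

theorem thetaK_comm (k : ℕ) :
    (Scheme.Modules.pullback (𝔛.ι k)).map (thetaK φ g q hq p hp w G (k + 1)) ≫ ((resSys q hq G).e k).hom =
      ((ModSys.pullback φ (resSys p hp ((Scheme.Modules.pushforward g).obj G))).e k).hom ≫
        thetaK φ g q hq p hp w G k := by
  let F := (Scheme.Modules.pushforward g).obj G
  let 𝔐 := resSys p hp F
  refine hom_ext_puSec₃ _ _ fun U m => ?_
  let m' : Γ(G, g ⁻¹ᵁ U) := m
  let V₁ := p (k + 1) ⁻¹ᵁ U
  let W₁ := fk φ (k + 1) ⁻¹ᵁ V₁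
  let W₀ := 𝔛.ι k ⁻¹ᵁ W₁
  have hV₀ : fk φ k ⁻¹ᵁ (𝔜.ι k ⁻¹ᵁ V₁) = W₀ := by
    show (fk φ k ≫ 𝔜.ι k) ⁻¹ᵁ V₁ = (𝔛.ι k ≫ fk φ (k + 1)) ⁻¹ᵁ V₁
    rw [(φ : Hom _ _).comm k]
  have hW' : W₁ ≤ q (k + 1) ⁻¹ᵁ (g ⁻¹ᵁ U) := by
    show (fk φ (k + 1) ≫ p (k + 1)) ⁻¹ᵁ U ≤ (q (k + 1) ≫ g) ⁻¹ᵁ U
    rw [w (k + 1)]
  have hW0 : W₀ ≤ q k ⁻¹ᵁ (g ⁻¹ᵁ U) :=
    ((𝔛.ι k).preimage_mono hW').trans (congrArg (fun t : 𝔛.X k ⟶ Z => t ⁻¹ᵁ (g ⁻¹ᵁ U)) (hq k)).le
  have hV1 : 𝔜.ι k ⁻¹ᵁ V₁ ≤ p k ⁻¹ᵁ U := (congrArg (fun t : 𝔜.X k ⟶ X => t ⁻¹ᵁ U) (hp k)).le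
  show ((resSys q hq G).e k).hom.app W₀
      (((Scheme.Modules.pullback (𝔛.ι k)).map (thetaK φ g q hq p hp w G (k + 1))).app W₀
        (puSec (𝔛.ι k) (puSec (fk φ (k + 1)) (puSec (p (k + 1)) m)))) =
    (thetaK φ g q hq p hp w G k).app W₀ (((ModSys.pullback φ 𝔐).e k).hom.app W₀
        (puSec (𝔛.ι k) (puSec (fk φ (k + 1)) (puSec (p (k + 1)) m))))
  let z₀ : Γ((Scheme.Modules.pullback (𝔛.ι k)).obj ((Scheme.Modules.pullback (fk φ (k + 1))).obj (𝔐.F (k + 1))), W₀) :=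
    puSecLE (𝔛.ι k) _ (U := W₁) le_rfl (puSecLE (fk φ (k + 1)) _ (U := V₁) le_rfl (puSecLE (p (k + 1)) F le_rfl m))
  have hz : puSec (𝔛.ι k) (puSec (fk φ (k + 1)) (puSec (p (k + 1)) m)) = z₀ := by
    show _ = puSecLE (𝔛.ι k) _ _ (puSecLE (fk φ (k + 1)) _ _ (puSecLE (p (k + 1)) F _ m))
    rw [CohCmpLib.puSecLE_refl, CohCmpLib.puSecLE_refl, CohCmpLib.puSecLE_refl]
  suffices ((resSys q hq G).e k).hom.app W₀
      (((Scheme.Modules.pullback (𝔛.ι k)).map (thetaK φ g q hq p hp w G (k + 1))).app W₀ z₀) =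
    (thetaK φ g q hq p hp w G k).app W₀ (((ModSys.pullback φ 𝔐).e k).hom.app W₀ z₀) from
    (congrArg (fun z => ((resSys q hq G).e k).hom.app W₀
      (((Scheme.Modules.pullback (𝔛.ι k)).map (thetaK φ g q hq p hp w G (k + 1))).app W₀ z)) hz).trans
      (this.trans (congrArg (fun z => (thetaK φ g q hq p hp w G k).app W₀
        (((ModSys.pullback φ 𝔐).e k).hom.app W₀ z)) hz).symm)
  refine (congrArg (((resSys q hq G).e k).hom.app W₀)
    ((CohCmpLib.puSecLE_natural (𝔛.ι k) (thetaK φ g q hq p hp w G (k + 1)) (U := W₁) (W := W₀) le_rfl _).trans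
      (congrArg (puSecLE (𝔛.ι k) ((resSys q hq G).F (k + 1)) (U := W₁) (U' := W₀) le_rfl)
        (theta_puSec g (fk φ (k + 1)) (p (k + 1)) (q (k + 1)) (w (k + 1)) G m' (V := V₁) le_rfl (W := W₁) le_rfl hW')))).trans ?_
  refine (pullTri_puSec (𝔛.ι k) (q (k + 1)) (hq k) G m' hW' (W := W₀) le_rfl hW0).trans ?_
  refine Eq.symm ?_
  have e1 := CohCmpLib.pullbackComp_puSecLE (𝔛.ι k) (fk φ (k + 1)) (𝔐.F (k + 1))
    (puSecLE (p (k + 1)) F (U' := V₁) le_rfl m) (V := W₁) le_rfl (W := W₀) le_rfl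
  have e2 := CohCmpLib.pullbackCongr_puSec ((φ : Hom _ _).comm k).symm (𝔐.F (k + 1))
    (puSecLE (p (k + 1)) F (U' := V₁) le_rfl m) (V := W₀) le_rfl hV₀.ge
  have e3 := CohCmpLib.pullbackComp_puSecLE (fk φ k) (𝔜.ι k) (𝔐.F (k + 1))
    (puSecLE (p (k + 1)) F (U' := V₁) le_rfl m) (V := 𝔜.ι k ⁻¹ᵁ V₁) le_rfl (W := W₀) hV₀.ge
  show (thetaK φ g q hq p hp w G k).app W₀ (((Scheme.Modules.pullback (fk φ k)).map (𝔐.e k).hom).app W₀
      (((Scheme.Modules.pullbackComp (fk φ k) (𝔜.ι k)).inv.app (𝔐.F (k + 1))).app W₀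
        (((Scheme.Modules.pullbackCongr ((φ : Hom _ _).comm k).symm).hom.app (𝔐.F (k + 1))).app W₀
          (((Scheme.Modules.pullbackComp (𝔛.ι k) (fk φ (k + 1))).hom.app (𝔐.F (k + 1))).app W₀ _)))) = _
  refine (congrArg (fun z => (thetaK φ g q hq p hp w G k).app W₀ (((Scheme.Modules.pullback (fk φ k)).map (𝔐.e k).hom).app W₀
      (((Scheme.Modules.pullbackComp (fk φ k) (𝔜.ι k)).inv.app (𝔐.F (k + 1))).app W₀
        (((Scheme.Modules.pullbackCongr ((φ : Hom _ _).comm k).symm).hom.app (𝔐.F (k + 1))).app W₀ z)))) e1).trans ?_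
  refine (congrArg (fun z => (thetaK φ g q hq p hp w G k).app W₀ (((Scheme.Modules.pullback (fk φ k)).map (𝔐.e k).hom).app W₀
      (((Scheme.Modules.pullbackComp (fk φ k) (𝔜.ι k)).inv.app (𝔐.F (k + 1))).app W₀ z)))
        (e2.trans e3.symm)).trans ?_
  refine (congrArg (fun z => (thetaK φ g q hq p hp w G k).app W₀ (((Scheme.Modules.pullback (fk φ k)).map (𝔐.e k).hom).app W₀ z))
    (congr($(congrArg (fun a : (Scheme.Modules.pullback (𝔜.ι k) ⋙ Scheme.Modules.pullback (fk φ k)).obj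
      (𝔐.F (k + 1)) ⟶ _ => a.app W₀)
        ((Scheme.Modules.pullbackComp (fk φ k) (𝔜.ι k)).hom_inv_id_app (𝔐.F (k + 1)))) _))).trans ?_
  refine (congrArg ((thetaK φ g q hq p hp w G k).app W₀)
    ((CohCmpLib.puSecLE_natural (fk φ k) (𝔐.e k).hom (U := 𝔜.ι k ⁻¹ᵁ V₁) (W := W₀) hV₀.ge _).trans
      (congrArg (puSecLE (fk φ k) (𝔐.F k) (U := 𝔜.ι k ⁻¹ᵁ V₁) (U' := W₀) hV₀.ge)
        (pullTri_puSec (𝔜.ι k) (p (k + 1)) (hp k) F m (V := V₁) le_rfl le_rfl hV1)))).trans ?_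
  exact theta_puSec g (fk φ k) (p k) (q k) (w k) G m' hV1 hV₀.ge hW0

/-- The comparison of systems. -/
def thetaSys : ModSys.pullback φ (resSys p hp ((Scheme.Modules.pushforward g).obj G)) ⟶ resSys q hq G :=
  ⟨thetaK φ g q hq p hp w G, thetaK_comm φ g q hq p hp w G⟩

variable (h𝔛 : 𝔛.IsFormal) (h𝔜 : 𝔜.IsFormal)

/-- The comparison with the direct image of the completion. -/
def pushCmp : (resSys p hp ((Scheme.Modules.pushforward g).obj G)).realMod h𝔜 ⟶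
    (pushF φ h𝔛 h𝔜).obj ((resSys q hq G).realMod h𝔛) :=
  (homMor φ h𝔛 h𝔜).adj.homEquiv _ _
    (pullReal φ h𝔛 h𝔜 (resSys p hp ((Scheme.Modules.pushforward g).obj G)) ≫
      ModSys.realModMap h𝔛 (thetaSys φ g q hq p hp w G))

theorem pushCmp_proj (k : ℕ) :
    pushCmp φ g q hq p hp w G h𝔛 h𝔜 ≫
        (pushF φ h𝔛 h𝔜).map (realProj _ h𝔛 (resSys q hq G).F (resSys q hq G).toPush k) =
      pcK φ h𝔛 h𝔜 (resSys p hp ((Scheme.Modules.pushforward g).obj G)) k ≫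
        (pushF φ h𝔛 h𝔜).map ((levelMor _ h𝔛 k).push.map ((thetaSys φ g q hq p hp w G).app k)) := by
  refine Eq.trans ?_ (congrArg (fun a => a ≫ (pushF φ h𝔛 h𝔜).map
    ((levelMor _ h𝔛 k).push.map ((thetaSys φ g q hq p hp w G).app k)))
    (homEquiv_pullReal φ h𝔛 h𝔜 (resSys p hp ((Scheme.Modules.pushforward g).obj G)) k))
  refine Eq.trans ?_ (Category.assoc _ _ _).symm
  refine (congrArg (fun a => a ≫ (pushF φ h𝔛 h𝔜).map (realProj _ h𝔛 _ _ k))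
    ((homMor φ h𝔛 h𝔜).adj.homEquiv_naturality_right _ _)).trans ?_
  refine (Category.assoc _ _ _).trans (congrArg (fun a => ((homMor φ h𝔛 h𝔜).adj.homEquiv _ _
    (pullReal φ h𝔛 h𝔜 (resSys p hp ((Scheme.Modules.pushforward g).obj G)))) ≫ a) ?_)
  refine ((pushF φ h𝔛 h𝔜).map_comp _ _).symm.trans ((congrArg (pushF φ h𝔛 h𝔜).map
    (realLimMap_realProj _ h𝔛 (thetaSys φ g q hq p hp w G).app
      (ModSys.Hom.toPush_comm (thetaSys φ g q hq p hp w G)) k)).trans ?_)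
  exact (pushF φ h𝔛 h𝔜).map_comp _ _

theorem rp_pushCmp (k : ℕ) (V : (𝔜.X 0).Opens)
    (s : MSec ((resSys p hp ((Scheme.Modules.pushforward g).obj G)).realMod h𝔜) V) :
    rp h𝔛 (resSys q hq G).F (resSys q hq G).toPush k (fk φ 0 ⁻¹ᵁ V)
        (show MSec ((resSys q hq G).realMod h𝔛) (fk φ 0 ⁻¹ᵁ V) from
          (pushCmp φ g q hq p hp w G h𝔛 h𝔜).val.app (op V) s) =
      (thetaK φ g q hq p hp w G k).app _ (puSecLE (fk φ k) _
        (U' := 𝔛.lvU h𝔛 k (fk φ 0 ⁻¹ᵁ V))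
        (Hom.lvU_preimage φ h𝔛 h𝔜 k V).ge (rp h𝔜 _ _ k V s)) := by
  have h := congr($(congrArg (fun a : (resSys p hp ((Scheme.Modules.pushforward g).obj G)).realMod h𝔜 ⟶ _ =>
    a.val.app (op V)) (pushCmp_proj φ g q hq p hp w G h𝔛 h𝔜 k)) s)
  refine Eq.trans h ?_
  exact congrArg ((thetaK φ g q hq p hp w G k).app _)
    (pcK_app φ h𝔛 h𝔜 (resSys p hp ((Scheme.Modules.pushforward g).obj G)) k V s)

end Sys

end FCohLib

end
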