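import Groth.Agent.FCohLib.AlgzVan
import Groth.Agent.FCohLib.PushSys
import Groth.Agent.FormalCohLib.PushPull

/-!
# The completion of a direct image is the direct image of the completion
-/

set_option autoImplicit false
set_option linter.style.haveILetI false
set_option maxHeartbeats 800000

universe u

open CategoryTheory CategoryTheory.Limits AlgebraicGeometry TopologicalSpace Opposite FSch
open FModLib (MSec RSec mres)
open KFlatLib (puSec puSecLE)

noncomputable section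

namespace FCohLib

theorem puSecLE_res {X Y : Scheme.{u}} (g : X ⟶ Y) (M : Y.Modules) {U U₁ : Y.Opens} (hU : U₁ ≤ U) {V V₁ : X.Opens}
    (hV : V ≤ g ⁻¹ᵁ U) (hV₁ : V₁ ≤ g ⁻¹ᵁ U₁) (hVV : V₁ ≤ V) (m : Γ(M, U)) :
    puSecLE g M hV₁ (M.presheaf.map (homOfLE hU).op m) =
      ((Scheme.Modules.pullback g).obj M).presheaf.map (homOfLE hVV).op (puSecLE g M hV m) := by
  let P := (Scheme.Modules.pullback g).obj M
  have h : puSec g (M.presheaf.map (homOfLE hU).op m) =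
      P.presheaf.map (homOfLE (g.preimage_mono hU)).op (puSec g m) :=
    QCohLib.app_map ((Scheme.Modules.pullbackPushforwardAdjunction g).unit.app M) (homOfLE hU) m
  rw [KFlatLib.puSecLE_apply, KFlatLib.puSecLE_apply, h]
  exact (QCohLib.map_map' P (homOfLE hV₁) (homOfLE (g.preimage_mono hU)) _).trans
    (QCohLib.map_map' P (homOfLE hVV) (homOfLE hV) _).symm

theorem desc_sec {A : Type u} [CommRing A] {X Z : Scheme.{u}} [X.Over (Spec (CommRingCat.of A))]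
    [AlgebraicGeometry.IsNoetherian X] (I : Ideal A) (n : ℕ)
    (i : Z ⟶ X) {F : X.Modules} [Coh.IsQCoh F] (α : Formal.modPow I n F ≅
      (Scheme.Modules.pushforward i).obj ((Scheme.Modules.pullback i).obj F))
    (hα : Formal.modPowπ I n F ≫ α.hom = (Scheme.Modules.pullbackPushforwardAdjunction i).unit.app F)
    (U : X.Opens) {U' : Z.Opens} (e : i ⁻¹ᵁ U = U') :
    (∀ x : Γ(F, U), puSecLE i F e.ge x = 0 ↔ (Formal.modPowπ I n F).app U x = 0) ∧
      (IsAffineOpen U → Function.Surjective (puSecLE i F e.ge)) ∧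
      ∀ z : Γ((Scheme.Modules.pullback i).obj F, U'), ∃ σ : Γ(Formal.modPow I n F, U),
        ∀ (U₁ : X.Opens) (h : U₁ ≤ U) (x : Γ(F, U₁)),
          (Formal.modPowπ I n F).app U₁ x = (Formal.modPow I n F).presheaf.map (homOfLE h).op σ →
            ∀ (V : Z.Opens) (hV : V ≤ i ⁻¹ᵁ U₁) (hVU : V ≤ U'),
              puSecLE i F hV x = ((Scheme.Modules.pullback i).obj F).presheaf.map (homOfLE hVU).op z := by
  subst e
  have key : ∀ (U₀ : X.Opens) (x : Γ(F, U₀)), puSec i x = α.hom.app U₀ ((Formal.modPowπ I n F).app U₀ x) :=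
    fun U₀ x => (congr($(congrArg (fun t : F ⟶ _ => t.app U₀) hα) x)).symm
  have hinv : ∀ (U₀ : X.Opens) (y : Γ(Formal.modPow I n F, U₀)), α.inv.app U₀ (α.hom.app U₀ y) = y := fun U₀ y =>
    congr($(congrArg (fun t : Formal.modPow I n F ⟶ _ => t.app U₀) α.hom_inv_id) y)
  have hinv' : ∀ (U₀ : X.Opens) (y : Γ((Scheme.Modules.pushforward i).obj ((Scheme.Modules.pullback i).obj F), U₀)),
      α.hom.app U₀ (α.inv.app U₀ y) = y := fun U₀ y =>
    congr($(congrArg (fun t : (Scheme.Modules.pushforward i).obj ((Scheme.Modules.pullback i).obj F) ⟶ _ =>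
      t.app U₀) α.inv_hom_id) y)
  refine ⟨fun x => ?_, fun hU => fun y => ?_, fun z => ?_⟩
  · rw [CohCmpLib.puSecLE_refl, key]
    exact ⟨fun h => ((hinv U _).symm.trans (congrArg _ h)).trans (map_zero _),
      fun h => (congrArg _ h).trans (map_zero _)⟩
  · obtain ⟨x, hx⟩ := FormalCohLib.app_modPowπ_surjective I F n hU (α.inv.app U y)
    exact ⟨x, (CohCmpLib.puSecLE_refl i F _ x).trans ((key U x).trans ((congrArg _ hx).trans (hinv' U y)))⟩
  · refine ⟨α.inv.app U (show Γ((Scheme.Modules.pushforward i).obj ((Scheme.Modules.pullback i).obj F), U) from z),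
      fun U₁ h x hx V hV hVU => ?_⟩
    have h1 : puSec i x = ((Scheme.Modules.pullback i).obj F).presheaf.map (homOfLE (i.preimage_mono h)).op z := by
      rw [key, hx]
      exact (QCohLib.app_map α.hom (homOfLE h) _).trans (congrArg
        ((((Scheme.Modules.pushforward i).obj ((Scheme.Modules.pullback i).obj F)).presheaf.map (homOfLE h).op)) (hinv' U _))
    rw [KFlatLib.puSecLE_apply, h1]
    exact QCohLib.map_map' _ (homOfLE hV) (homOfLE (i.preimage_mono h)) z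

/-- A map bijective on the sections over a basis is an isomorphism. -/
theorem isIso_of_bijective_basis {X : TopCat.{u}} {O : Sheaf (Opens.grothendieckTopology X) CommRingCat.{u}}
    {M N : ModSite.Mod O} (φ : M ⟶ N)
    (h : ∀ (U : Opens X) (p : X), p ∈ U → ∃ V, V ≤ U ∧ p ∈ V ∧ Function.Bijective (φ.val.app (op V))) : IsIso φ := by
  have hinj : ∀ (W : Opens X) (s : MSec M W), φ.val.app (op W) s = 0 → s = 0 := fun W s hs =>
    eq_zero_of_points M s fun p hp => by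
      obtain ⟨V, hV, hpV, hb⟩ := h W p hp
      refine ⟨V, hV, hpV, hb.1 (Eq.trans ?_ (map_zero _).symm)⟩
      exact (PresheafOfModules.naturality_apply φ.val (homOfLE hV).op s).trans
        ((congrArg (mres N hV) hs).trans (map_zero _))
  have : Mono φ := ⟨fun {P} a b e => SheafOfModules.hom_ext (PresheafOfModules.hom_ext fun W =>
    ModuleCat.hom_ext (LinearMap.ext fun x => sub_eq_zero.1 (hinj W.unop _ ((map_sub (φ.val.app W).hom _ _).trans
      (sub_eq_zero.2 (congr($(congrArg (fun g : P ⟶ _ => g.val.app W) e) x)))))))⟩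
  have : Epi φ := by
    refine _root_.ModSiteLib.epi_of_loc_surjective φ fun W t => ?_
    let S : Sieve W :=
      ⟨fun W' => {g : W' ⟶ W | ∃ y : MSec M W', φ.val.app (op W') y = N.val.map g.op t}, fun {W' W''} g hg k => by
        obtain ⟨y, hy⟩ := hg
        refine ⟨M.val.map k.op y, (PresheafOfModules.naturality_apply φ.val k.op y).trans ?_⟩
        exact (congrArg (N.val.map k.op) hy).trans (N.val.presheaf.map_comp_apply g.op k.op t).symm⟩
    refine ⟨S, fun p hp => ?_, fun _ _ hg => hg⟩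
    obtain ⟨V, hV, hpV, hb⟩ := h W p hp
    exact ⟨V, homOfLE hV, hb.2 _, hpV⟩
  exact isIso_of_mono_of_epi φ

variable {𝔛 : Sys.{u}} (h : 𝔛.IsFormal) {Y : Scheme.{u}} (p : ∀ n, 𝔛.X n ⟶ Y) (hp : ∀ n, 𝔛.ι n ≫ p (n + 1) = p n)
  (F : Y.Modules) {U : Y.Opens} {V : (𝔛.X 0).Opens} (e : ∀ k, p k ⁻¹ᵁ U = 𝔛.lvU h k V)

include e in
/-- A presentation at a level passes to the lower ones. -/
theorem rp_eq_down (s : MSec ((resSys p hp F).realMod h) V) {n m : ℕ} (hnm : n ≤ m) (x : Γ(F, U))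
    (hx : rp h _ _ m V s = puSecLE (p m) F (e m).ge x) : rp h _ _ n V s = puSecLE (p n) F (e n).ge x := by
  obtain ⟨d, rfl⟩ := Nat.le.dest hnm
  induction d with
  | zero => exact hx
  | succ d ih =>
    refine ih (Nat.le_add_right _ _) ((rp_succ h _ _ (n + d) V s).symm.trans ?_)
    exact (congrArg (lvT h _ _ (n + d) V) hx).trans (resSys_lvT h p hp F (n + d) x _ _ _)

end FCohLib

namespace FCohLib

variable {A : Type u} [CommRing A] (J : Ideal A) {X Z : Scheme.{u}} [X.Over (Spec (CommRingCat.of A))]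
  [Z.Over (Spec (CommRingCat.of A))] [AlgebraicGeometry.IsNoetherian X] [AlgebraicGeometry.IsNoetherian Z]
  (g : Z ⟶ X) [IsProper g] (hg : g ≫ (X ↘ Spec (CommRingCat.of A)) = Z ↘ Spec (CommRingCat.of A))

/-- The reduction of every quasi-coherent module is the direct image of its inverse image. -/
def HasDesc {W : Scheme.{u}} [W.Over (Spec (CommRingCat.of A))] {W₀ : ℕ → Scheme.{u}} (p : ∀ k, W₀ k ⟶ W) : Prop :=
  ∀ (k : ℕ) (F : W.Modules), Coh.IsQCoh F →
    ∃ α : Formal.modPow J (k + 1) F ≅ (Scheme.Modules.pushforward (p k)).obj ((Scheme.Modules.pullback (p k)).obj F),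
      Formal.modPowπ J (k + 1) F ≫ α.hom = (Scheme.Modules.pullbackPushforwardAdjunction (p k)).unit.app F

section Abstract

variable {𝔛 𝔜 : Sys.{u}} (φ : 𝔛 ⟶ 𝔜) (q : ∀ n, 𝔛.X n ⟶ Z)
  (hq : ∀ n, 𝔛.ι n ≫ q (n + 1) = q n) (p : ∀ n, 𝔜.X n ⟶ X) (hp : ∀ n, 𝔜.ι n ≫ p (n + 1) = p n)
  (w : ∀ k, fk φ k ≫ p k = q k ≫ g) (h𝔛 : 𝔛.IsFormal) (h𝔜 : 𝔜.IsFormal)
  (dp : HasDesc J p) (dq : HasDesc J q)

include hg dp dq in
theorem bijective_pushCmp {G : Z.Modules} (hG : Coh.IsCoh G) {W : X.Opens} (hW : IsAffineOpen W) :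
    Function.Bijective ((pushCmp φ g q hq p hp w G h𝔛 h𝔜).val.app (op (p 0 ⁻¹ᵁ W))) := by
  have := hG.1
  let F := (Scheme.Modules.pushforward g).obj G
  have hF : Coh.IsCoh F := FormalCohLib.isCoh_push_proper g hG
  have := hF.1
  let V := p 0 ⁻¹ᵁ W
  let V' := fk φ 0 ⁻¹ᵁ V
  have eX : ∀ k, p k ⁻¹ᵁ W = 𝔜.lvU h𝔜 k V := fun k => lvU_p 𝔜 h𝔜 p hp k W
  have e0 : q 0 ⁻¹ᵁ (g ⁻¹ᵁ W) = V' := (congrArg (fun t : 𝔛.X 0 ⟶ X => t ⁻¹ᵁ W) (w 0)).symm
  have eZ : ∀ k, q k ⁻¹ᵁ (g ⁻¹ᵁ W) = 𝔛.lvU h𝔛 k V' := fun k =>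
    (lvU_p 𝔛 h𝔛 q hq k (g ⁻¹ᵁ W)).trans (congrArg _ e0)
  choose αX hαX using fun k => dp k F hF.1
  choose αZ hαZ using fun k => dq k G hG.1
  have dX := fun k => desc_sec J (k + 1) (p k) (αX k) (hαX k) W (eX k)
  have dZ := fun k => desc_sec J (k + 1) (q k) (αZ k) (hαZ k) (g ⁻¹ᵁ W) (eZ k)
  choose mb hmb hb using fun n => FormalCohLib.exists_formal_bounds J g hg hG hW n
  have hker : ∀ n k, mb n ≤ k → ∀ x : Γ(G, g ⁻¹ᵁ W), puSecLE (q k) G (eZ k).ge x = 0 →
      puSecLE (p n) F (eX n).ge (show Γ(F, W) from x) = 0 := fun n k hk x hx => by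
    refine ((dX n).1 _).2 ((FormalCohLib.app_modPowπ_eq_zero J F (n + 1) hW _).2 ?_)
    exact (hb n k hk (Nat.succ_le_succ ((hmb n).trans hk))).2 x (((dZ k).1 x).1 hx)
  have hval : ∀ k (s : MSec ((resSys p hp F).realMod h𝔜) V) (x : Γ(F, W)),
      rp h𝔜 _ _ k V s = puSecLE (p k) F (eX k).ge x →
        rp h𝔛 (resSys q hq G).F (resSys q hq G).toPush k V' (show MSec ((resSys q hq G).realMod h𝔛) V' from
          (pushCmp φ g q hq p hp w G h𝔛 h𝔜).val.app (op V) s) = puSecLE (q k) G (eZ k).ge (show Γ(G, g ⁻¹ᵁ W) from x) := by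
    intro k s x hx
    refine (rp_pushCmp φ g q hq p hp w G h𝔛 h𝔜 k V s).trans ?_
    refine (congrArg (fun z => (thetaK φ g q hq p hp w G k).app _
      (puSecLE (fk φ k) ((resSys p hp F).F k) (Hom.lvU_preimage φ h𝔛 h𝔜 k V).ge z)) hx).trans ?_
    exact theta_puSec g (fk φ k) (p k) (q k) (w k) G (show Γ(G, g ⁻¹ᵁ W) from x) _ _ _
  constructor
  · refine (injective_iff_map_eq_zero ((pushCmp φ g q hq p hp w G h𝔛 h𝔜).val.app (op V)).hom).2 fun s hs => ?_
    refine rp_ext h𝔜 _ _ fun n => Eq.trans ?_ (map_zero _).symm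
    obtain ⟨x, hx⟩ := (dX (mb n)).2.1 hW (rp h𝔜 _ _ (mb n) V s)
    refine (rp_eq_down h𝔜 p hp F eX s (hmb n) x hx.symm).trans (hker n (mb n) le_rfl x ?_)
    exact (hval (mb n) s x hx.symm).symm.trans ((congrArg (fun t => rp h𝔛 _ _ (mb n) V' t) hs).trans (map_zero _))
  · intro t
    let t' : MSec ((resSys q hq G).realMod h𝔛) V' := t
    have hlift : ∀ n, ∃ x : Γ(G, g ⁻¹ᵁ W),
        rp h𝔛 (resSys q hq G).F (resSys q hq G).toPush n V' t' = puSecLE (q n) G (eZ n).ge x := by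
      intro n
      have hn1 : n + 1 ≤ mb n + 1 := Nat.succ_le_succ (hmb n)
      obtain ⟨σ, hσ⟩ := (dZ (mb n)).2.2 (rp h𝔛 _ _ (mb n) V' t')
      obtain ⟨x, hx⟩ := (hb n (mb n) le_rfl hn1).1 σ
      refine ⟨x, sub_eq_zero.1 (eq_zero_of_points ((resSys q hq G).F n) _ fun z hz => ?_)⟩
      obtain ⟨U₁, hU₁, hzU, hU₁W⟩ := Opens.isBasis_iff_nbhd.mp Z.isBasis_affineOpens (U := g ⁻¹ᵁ W) (x := q n z)
        ((eZ n).ge hz)
      obtain ⟨x', hx'⟩ := FormalCohLib.app_modPowπ_surjective J G (mb n + 1) hU₁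
        ((Formal.modPow J (mb n + 1) G).presheaf.map (homOfLE hU₁W).op σ)
      have e₁ : ∀ k, q k ⁻¹ᵁ U₁ = 𝔛.lvU h𝔛 k (q 0 ⁻¹ᵁ U₁) := fun k => lvU_p 𝔛 h𝔛 q hq k U₁
      have hV₁ : q 0 ⁻¹ᵁ U₁ ≤ V' := ((q 0).preimage_mono hU₁W).trans e0.le
      have hle : ∀ k, 𝔛.lvU h𝔛 k (q 0 ⁻¹ᵁ U₁) ≤ 𝔛.lvU h𝔛 k V' := fun k =>
        (e₁ k).ge.trans (((q k).preimage_mono hU₁W).trans (eZ k).le)
      have h₁ : rp h𝔛 _ _ n (q 0 ⁻¹ᵁ U₁) (mres _ hV₁ t') = puSecLE (q n) G (e₁ n).ge x' := by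
        refine rp_eq_down h𝔛 q hq G e₁ _ (hmb n) x' ((rp_mres h𝔛 _ _ (mb n) hV₁ t').trans ?_)
        exact (hσ U₁ hU₁W x' hx' _ (e₁ (mb n)).ge (hle (mb n))).symm
      have h₂ : puSecLE (q n) G (e₁ n).ge (G.presheaf.map (homOfLE hU₁W).op x) = puSecLE (q n) G (e₁ n).ge x' := by
        refine sub_eq_zero.1 ((map_sub _ _ _).symm.trans (((desc_sec J (n + 1) (q n) (αZ n) (hαZ n) U₁ (e₁ n)).1 _).2 ?_))
        refine (map_sub _ _ _).trans (sub_eq_zero.2 ?_)
        refine (QCohLib.app_map (Formal.modPowπ J (n + 1) G) (homOfLE hU₁W) x).trans ?_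
        refine (congrArg ((Formal.modPow J (n + 1) G).presheaf.map (homOfLE hU₁W).op) hx).trans ?_
        refine (QCohLib.app_map (Formal2.modPowLE J hn1 G) (homOfLE hU₁W) σ).symm.trans ?_
        refine (congrArg ((Formal2.modPowLE J hn1 G).app U₁) hx'.symm).trans ?_
        exact congrArg (fun a : G ⟶ _ => a.app U₁ x') (Formal2.modPowπ_modPowLE J hn1 G)
      refine ⟨𝔛.lvU h𝔛 n (q 0 ⁻¹ᵁ U₁), hle n, (e₁ n).le hzU, (map_sub _ _ _).trans (sub_eq_zero.2 ?_)⟩
      refine (rp_mres h𝔛 _ _ n hV₁ t').symm.trans (h₁.trans (h₂.symm.trans ?_))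
      exact puSecLE_res (q n) G hU₁W (eZ n).ge (e₁ n).ge (hle n) x
    let N : ℕ → ℕ := fun n => n + (Finset.range (n + 1)).sup mb
    have hN : ∀ n j, j ≤ n → mb j ≤ N n := fun n j hj =>
      (Finset.le_sup (f := mb) (Finset.mem_range.2 (Nat.lt_succ_of_le hj))).trans (Nat.le_add_left _ _)
    have hN' : ∀ n, N n ≤ N (n + 1) := fun n => Nat.add_le_add (Nat.le_succ n)
      (Finset.sup_mono (Finset.range_mono (Nat.le_succ _)))
    choose x hx using fun n => hlift (N n)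
    obtain ⟨s, hs⟩ := exists_rp h𝔜 (resSys p hp F).F (resSys p hp F).toPush (V := V)
      (fun n => puSecLE (p n) F (eX n).ge (show Γ(F, W) from x n)) fun n => by
        refine (resSys_lvT h𝔜 p hp F n (show Γ(F, W) from x (n + 1)) V (eX (n + 1)).ge (eX n).ge).trans ?_
        refine sub_eq_zero.1 ((map_sub _ _ _).symm.trans (hker n (N n) (hN n n le_rfl) (x (n + 1) - x n) ?_))
        refine (map_sub _ _ _).trans (sub_eq_zero.2 ?_)
        exact (rp_eq_down h𝔛 q hq G eZ t' (hN' n) (x (n + 1)) (hx (n + 1))).symm.trans (hx n)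
    refine ⟨s, rp_ext h𝔛 (resSys q hq G).F (resSys q hq G).toPush fun n => ?_⟩
    refine (hval n s (show Γ(F, W) from x n) (hs n)).trans ?_
    exact (rp_eq_down h𝔛 q hq G eZ t' (Nat.le_add_right _ _) (x n) (hx n)).symm

end Abstract

variable {𝓘 : X.IdealSheafData} (h𝓘 : 𝓘 = (FSch.idealSpec A J).comap (X ↘ Spec (CommRingCat.of A)))
  {𝓚 : Z.IdealSheafData} (h𝓚 : 𝓚 = (FSch.idealSpec A J).comap (Z ↘ Spec (CommRingCat.of A)))
  (hpc : PowCompat g 𝓚 𝓘) (hX : (completionAlong X 𝓘).IsFormal) (hZ : (completionAlong Z 𝓚).IsFormal)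

omit [X.Over (Spec (CommRingCat.of A))] [Z.Over (Spec (CommRingCat.of A))] [AlgebraicGeometry.IsNoetherian X]
  [AlgebraicGeometry.IsNoetherian Z] [IsProper g] in
theorem completionMap_comm (k : ℕ) :
    fk (completionMap g 𝓚 𝓘 hpc) k ≫ completionToX X 𝓘 k = completionToX Z 𝓚 k ≫ g :=
  Scheme.IdealSheafData.subschemeMap_subschemeι (𝓚 ^ (k + 1)) (𝓘 ^ (k + 1)) g
    (Scheme.IdealSheafData.le_map_iff_comap_le.mpr (hpc k))

omit [AlgebraicGeometry.IsNoetherian X] in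
theorem hasDesc_completionToX {𝓛 : X.IdealSheafData}
    (h𝓛 : 𝓛 = (FSch.idealSpec A J).comap (X ↘ Spec (CommRingCat.of A))) : HasDesc J (completionToX X 𝓛) :=
  fun k F hF => haveI := hF; exists_desc_iso J 𝓛 h𝓛 k F

/-- The comparison. -/
abbrev pushC (G : Z.Modules) :=
  pushCmp (completionMap g 𝓚 𝓘 hpc) g (completionToX Z 𝓚) (completionToX_comm Z 𝓚) (completionToX X 𝓘)
    (completionToX_comm X 𝓘) (completionMap_comm g hpc) G hZ hX

include hg h𝓘 h𝓚 in
/-- **Completion commutes with proper direct images.** -/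
theorem isIso_pushC {G : Z.Modules} (hG : Coh.IsCoh G) : IsIso (pushC g hpc hX hZ G) := by
  refine isIso_of_bijective_basis _ fun U z hz => ?_
  obtain ⟨O, hO, hOU⟩ := (completionToX X 𝓘 0).isClosedEmbedding.isInducing.isOpen_iff.mp U.isOpen
  have hzO : completionToX X 𝓘 0 z ∈ O := (Set.ext_iff.1 hOU z).2 hz
  obtain ⟨W, hW, hzW, hWO⟩ :=
    Opens.isBasis_iff_nbhd.mp X.isBasis_affineOpens (U := ⟨O, hO⟩) (x := completionToX X 𝓘 0 z) hzO
  exact ⟨completionToX X 𝓘 0 ⁻¹ᵁ W, fun y hy => (Set.ext_iff.1 hOU y).1 (hWO hy), hzW,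
    bijective_pushCmp J g hg (completionMap g 𝓚 𝓘 hpc) (completionToX Z 𝓚) (completionToX_comm Z 𝓚)
      (completionToX X 𝓘) (completionToX_comm X 𝓘) (completionMap_comm g hpc) hZ hX
      (hasDesc_completionToX J h𝓘) (hasDesc_completionToX J h𝓚) hG hW⟩

omit [AlgebraicGeometry.IsNoetherian X] [AlgebraicGeometry.IsNoetherian Z] [IsProper g] [X.Over (Spec (CommRingCat.of A))]
  [Z.Over (Spec (CommRingCat.of A))] in
/-- The support of a direct image. -/
theorem support_push_le {G : Z.Modules} {T : Set Z} (hs : CohB1.support G ⊆ T) (hT : IsClosed (g '' T)) :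
    CohB1.support ((Scheme.Modules.pushforward g).obj G) ⊆ g '' T :=
  FormalCohLib.support_subset_of_affine hT fun W _ hd s =>
    FormalCohLib.eq_zero_of_support hs (W := g ⁻¹ᵁ W)
      (Set.disjoint_left.2 fun _ hx hxT => Set.disjoint_left.1 hd hx ⟨_, hxT, rfl⟩) s

end FCohLib

end
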