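import Groth.Agent.FCohLib.AffLin
import Groth.Agent.FCohLib.CmplReal

/-!
# Kernels, cokernels and images of maps of coherent modules on a formal scheme
-/

set_option autoImplicit false
set_option linter.style.haveILetI false
set_option maxHeartbeats 800000

universe u

open CategoryTheory CategoryTheory.Limits AlgebraicGeometry TopologicalSpace Opposite FSch
open FModLib (MSec RSec oK mres rres lc LocPres)

noncomputable section

namespace FCohLib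

theorem exists_solution_gens {R : Type u} [CommRing R] [IsNoetherianRing R] {ι μ : Type u} [Fintype ι] [Fintype μ]
    (t : ι → μ → R) :
    ∃ (n : ℕ) (z : ULift.{u} (Fin n) → ι → R), (∀ l m, ∑ i, z l i * t i m = 0) ∧
      ∀ a : ι → R, (∀ m, ∑ i, a i * t i m = 0) → ∃ d : ULift.{u} (Fin n) → R, ∀ i, a i = ∑ l, d l * z l i := by
  classical
  let S : Submodule R (ι → R) :=
    { carrier := {a | ∀ m, ∑ i, a i * t i m = 0}
      zero_mem' := fun m => by simp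
      add_mem' := fun {a b} ha hb m => by simp [add_mul, Finset.sum_add_distrib, ha m, hb m]
      smul_mem' := fun s a ha m => by simp [mul_assoc, ← Finset.mul_sum, ha m] }
  obtain ⟨n, z, hz⟩ := Submodule.fg_iff_exists_fin_generating_family.1 (IsNoetherian.noetherian S)
  refine ⟨n, fun l => z l.down, fun l m => (hz ▸ Submodule.subset_span ⟨l.down, rfl⟩ : z l.down ∈ S) m, fun a ha => ?_⟩
  obtain ⟨d, hd⟩ := (Submodule.mem_span_range_iff_exists_fun R).1 (hz.ge (show a ∈ S from ha))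
  refine ⟨fun l => d l.down, fun i => Eq.trans ?_ (Fintype.sum_equiv Equiv.ulift.symm _ _ fun l => rfl)⟩
  exact (congrFun hd i).symm.trans (by simp [Finset.sum_apply])

section Lin

variable {X : TopCat.{u}} {O : Sheaf (Opens.grothendieckTopology X) CommRingCat.{u}}
  {ι μ : Type u} [Fintype ι] [Fintype μ] (M : ModSite.Mod O) {U V : Opens X} (hVU : V ≤ U) (f : μ → MSec M U)

theorem lc_comp (A : ι → μ → RSec O U) (c : ι → RSec O V) :
    lc M hVU (fun i => lc M le_rfl f (A i)) c = lc M hVU f fun m => ∑ i, c i * rres O hVU (A i m) := by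
  refine Eq.trans ?_ (Finset.sum_congr rfl fun m _ => Finset.sum_smul.symm)
  refine Eq.trans ?_ Finset.sum_comm
  refine Finset.sum_congr rfl fun i _ => ?_
  refine (congrArg (fun z => c i • z) (FModLib.mres_lc M hVU le_rfl f (A i))).trans ?_
  refine Finset.smul_sum.trans (Finset.sum_congr rfl fun m _ => ?_)
  exact (mul_smul (c i) (rres O hVU (A i m)) (mres M hVU (f m))).symm

theorem lc_sum {σ : Type u} [Fintype σ] (d : σ → RSec O V) (z : σ → ι → RSec O U) (e : ι → MSec M U) :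
    lc M hVU e (fun i => ∑ l, d l * rres O hVU (z l i)) = lc M hVU (fun l => lc M le_rfl e (z l)) d :=
  (lc_comp M hVU e z d).symm

end Lin

variable {𝔛 : Sys.{u}} (hloc : 𝔛.IsLocNoethFormal)

/-- A coherent module is presented over every affine open. -/
theorem exists_presOn {𝔉 : ModF 𝔛 hloc.1} (h𝔉 : IsCohF 𝔛 hloc.1 𝔉) {V : (𝔛.X 0).Opens} (hV : IsAffineOpen V) :
    ∃ (ι κ : Type u) (_ : Fintype ι) (_ : Fintype κ), Nonempty (FModLib.PresOn hloc.1 𝔉 V ι κ) := by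
  obtain ⟨ι, κ, _, _, e, r, -, hP⟩ := exists_locPres_real hloc (levSys hloc 𝔉) (isCoh_levSys hloc h𝔉) hV
  have := isIso_etaReal hloc h𝔉
  have hP' := locPres_of_iso (asIso (etaReal hloc 𝔉)).symm hP
  exact ⟨ι, κ, inferInstance, inferInstance, ⟨⟨_, _, hP', fun k => presLev_of_locPres hloc 𝔉 hP' k⟩⟩⟩

theorem exists_basic_le {V W : (𝔛.X 0).Opens} (hV : IsAffineOpen V) (hW : W ≤ V) {p : 𝔛.X 0} (hp : p ∈ W) :
    ∃ (W' : (𝔛.X 0).Opens) (g : RSec (𝔛.Osh hloc.1) V), Basic hloc W' g ∧ p ∈ W' ∧ W' ≤ W :=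
  exists_basic hloc hV hp (hW hp)

variable {V : (𝔛.X 0).Opens} (hV : IsAffineOpen V)

include hV in
/-- Local solutions of a linear system with parameters. -/
theorem exists_local_solution {ι μ κ : Type u} [Fintype ι] [Fintype μ] [Fintype κ]
    (A : ι → μ → RSec (𝔛.Osh hloc.1) V) (r : κ → μ → RSec (𝔛.Osh hloc.1) V) :
    ∃ (σ : Type u) (_ : Fintype σ) (z : σ → ι → RSec (𝔛.Osh hloc.1) V),
      (∀ l, ∃ d : κ → RSec (𝔛.Osh hloc.1) V, ∀ m, ∑ i, z l i * A i m = ∑ j, d j * r j m) ∧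
      ∀ (W : (𝔛.X 0).Opens) (hW : W ≤ V) (c : ι → RSec (𝔛.Osh hloc.1) W) (d : κ → RSec (𝔛.Osh hloc.1) W),
        (∀ m, ∑ i, c i * rres (𝔛.Osh hloc.1) hW (A i m) = ∑ j, d j * rres (𝔛.Osh hloc.1) hW (r j m)) →
        ∀ p ∈ W, ∃ (W' : (𝔛.X 0).Opens) (hW' : W' ≤ W) (b : σ → RSec (𝔛.Osh hloc.1) W'), p ∈ W' ∧
          ∀ i, rres (𝔛.Osh hloc.1) hW' (c i) = ∑ l, b l * rres (𝔛.Osh hloc.1) (hW'.trans hW) (z l i) := by
  classical
  obtain ⟨-, hN, -⟩ := exists_adic hloc hV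
  let t : ι ⊕ κ → μ → RSec (𝔛.Osh hloc.1) V := Sum.elim A fun j m => -r j m
  obtain ⟨n, z, hz, hzg⟩ := exists_solution_gens t
  refine ⟨_, inferInstance, fun l i => z l (Sum.inl i), fun l => ⟨fun j => z l (Sum.inr j), fun m => ?_⟩,
    fun W hW c d hcd p hp => ?_⟩
  · have := hz l m
    simp only [t, Fintype.sum_sum_type, Sum.elim_inl, Sum.elim_inr, mul_neg, Finset.sum_neg_distrib] at this
    exact add_neg_eq_zero.1 this
  · obtain ⟨W', g, hb, hpW', hW'W⟩ := exists_basic_le hloc hV hW hp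
    let ρ : RSec (𝔛.Osh hloc.1) W →+* RSec (𝔛.Osh hloc.1) W' := ((𝔛.Osh hloc.1).obj.map (homOfLE hW'W).op).hom
    obtain ⟨b, hb'⟩ := exists_solution hloc hV hb t z hzg (Sum.elim (fun i => ρ (c i)) fun j => ρ (d j)) fun m => by
      have h1 := congrArg ρ (hcd m)
      simp only [map_sum, map_mul] at h1
      simp only [t, Fintype.sum_sum_type, Sum.elim_inl, Sum.elim_inr]
      refine Eq.trans (congrArg₂ (fun a b => a + b) ?_ ?_) (add_neg_eq_zero.2 h1)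
      · exact Finset.sum_congr rfl fun i _ => congrArg (fun q => ρ (c i) * q)
          (FModLib.rres_rres hW'W hW (A i m)).symm
      · refine Eq.trans (Finset.sum_congr rfl fun j _ => ?_) (Finset.sum_neg_distrib _)
        refine (congrArg (fun q => ρ (d j) * q) ?_).trans (mul_neg _ _)
        exact (map_neg ((𝔛.Osh hloc.1).obj.map (homOfLE hb.le).op).hom (r j m)).trans
          (congrArg Neg.neg (FModLib.rres_rres hW'W hW (r j m)).symm)
    exact ⟨W', hW'W, b, hpW', fun i => hb' (Sum.inl i)⟩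

variable {𝔉 𝔊 : ModF 𝔛 hloc.1}

/-- **Kernels of maps of coherent modules are coherent.** -/
theorem isCohF_kernel (h𝔉 : IsCohF 𝔛 hloc.1 𝔉) (h𝔊 : IsCohF 𝔛 hloc.1 𝔊) (θ : 𝔉 ⟶ 𝔊) :
    IsCohF 𝔛 hloc.1 (kernel θ) := by
  classical
  refine FModLib.isFP_of_locPres fun p => ?_
  obtain ⟨V, hV, hpV, -⟩ := Opens.isBasis_iff_nbhd.mp (𝔛.X 0).isBasis_affineOpens (U := ⊤) (x := p) trivial
  obtain ⟨ι, κF, _, _, ⟨D⟩⟩ := exists_presOn hloc h𝔉 hV
  obtain ⟨μ, κG, _, _, ⟨E⟩⟩ := exists_presOn hloc h𝔊 hV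
  choose A hA using fun i => exists_comb hloc h𝔊 E hV le_rfl (θ.val.app (op V) (D.e i))
  obtain ⟨σ, _, z, hz, hzloc⟩ := exists_local_solution hloc hV A E.r
  obtain ⟨τ, _, y, hy, hyloc⟩ := exists_local_solution hloc hV z D.r
  let κθ := kernel.ι θ
  have hκ : ∀ (W : (𝔛.X 0).Opens) (a b : MSec (kernel θ) W), κθ.val.app (op W) a = κθ.val.app (op W) b → a = b :=
    fun W a b h => _root_.ModSiteLib.injective_ap_of_mono κθ W h
  have hθ : ∀ {W : (𝔛.X 0).Opens} (hW : W ≤ V) (c : ι → RSec (𝔛.Osh hloc.1) W),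
      θ.val.app (op W) (lc 𝔉 hW D.e c) = lc 𝔊 hW E.e fun m => ∑ i, c i * rres (𝔛.Osh hloc.1) hW (A i m) :=
    fun hW c => (app_lc θ hW D.e c).trans ((congrArg (fun q => lc 𝔊 hW q c) (funext fun i => (hA i).symm)).trans
      (lc_comp 𝔊 hW E.e A c))
  have hs : ∀ l, ∃ s : MSec (kernel θ) V, κθ.val.app (op V) s = lc 𝔉 le_rfl D.e (z l) := fun l => by
    obtain ⟨d, hd⟩ := hz l
    refine _root_.ModSiteLib.exists_kernel_section θ V _ ((hθ le_rfl (z l)).trans ?_)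
    refine Eq.trans ?_ (lc_relations 𝔊 le_rfl E.e E.r E.pres.rel d)
    refine congrArg (lc 𝔊 _ E.e) (funext fun m => ?_)
    have hr : ∀ x : RSec (𝔛.Osh hloc.1) V, rres (𝔛.Osh hloc.1) le_rfl x = x := fun x =>
      congr($((congrArg (𝔛.Osh hloc.1).obj.map (Subsingleton.elim _ (𝟙 (op V)))).trans ((𝔛.Osh hloc.1).obj.map_id _)) x)
    simpa only [hr] using hd m
  choose s hs using hs
  have hκlc : ∀ {W : (𝔛.X 0).Opens} (hW : W ≤ V) (b : σ → RSec (𝔛.Osh hloc.1) W),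
      κθ.val.app (op W) (lc (kernel θ) hW s b) =
        lc 𝔉 hW D.e fun i => ∑ l, b l * rres (𝔛.Osh hloc.1) hW (z l i) :=
    fun hW b => (app_lc κθ hW s b).trans ((congrArg (fun q => lc 𝔉 hW q b) (funext hs)).trans
      (lc_sum 𝔉 hW b z D.e).symm)
  refine ⟨V, σ, τ, inferInstance, inferInstance, s, y, hpV, ⟨fun j => ?_, fun W hW x q hq => ?_, fun W hW b hb q hq => ?_⟩⟩
  · obtain ⟨d, hd⟩ := hy j
    refine hκ V _ _ (((hκlc le_rfl (y j)).trans ?_).trans (map_zero _).symm)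
    refine Eq.trans ?_ (lc_relations 𝔉 le_rfl D.e D.r D.pres.rel d)
    refine congrArg (lc 𝔉 _ D.e) (funext fun i => ?_)
    have hr : ∀ x : RSec (𝔛.Osh hloc.1) V, rres (𝔛.Osh hloc.1) le_rfl x = x := fun x =>
      congr($((congrArg (𝔛.Osh hloc.1).obj.map (Subsingleton.elim _ (𝟙 (op V)))).trans ((𝔛.Osh hloc.1).obj.map_id _)) x)
    simpa only [hr] using hd i
  · obtain ⟨W₀, hW₀, c, hqW₀, hc⟩ := D.pres.gen W hW (κθ.val.app (op W) x) q hq
    have h0 : θ.val.app (op W₀) (lc 𝔉 (hW₀.trans hW) D.e c) = 0 := by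
      rw [← hc]
      refine (congrArg (θ.val.app (op W₀)) (PresheafOfModules.naturality_apply κθ.val (homOfLE hW₀).op x).symm).trans ?_
      exact congr($(congrArg (fun a : kernel θ ⟶ 𝔊 => a.val.app (op W₀)) (kernel.condition θ)) (mres (kernel θ) hW₀ x))
    obtain ⟨W₁, hW₁, d, hqW₁, hd⟩ := E.pres.ex W₀ (hW₀.trans hW) _ ((hθ (hW₀.trans hW) c).symm.trans h0) q hqW₀
    have h10 := hW₁.trans (hW₀.trans hW)
    obtain ⟨W₂, hW₂, b, hqW₂, hb⟩ := hzloc W₁ h10 (fun i => rres (𝔛.Osh hloc.1) hW₁ (c i)) d (fun m => by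
      refine Eq.trans ?_ (hd m)
      refine Eq.trans ?_ (map_sum ((𝔛.Osh hloc.1).obj.map (homOfLE hW₁).op).hom _ _).symm
      refine Finset.sum_congr rfl fun i _ => Eq.symm ((map_mul ((𝔛.Osh hloc.1).obj.map (homOfLE hW₁).op).hom _ _).trans ?_)
      exact congrArg (fun z => rres (𝔛.Osh hloc.1) hW₁ (c i) * z) (FModLib.rres_rres hW₁ (hW₀.trans hW) (A i m))) q hqW₁
    refine ⟨W₂, hW₂.trans (hW₁.trans hW₀), b, hqW₂, hκ W₂ _ _ ?_⟩
    refine (PresheafOfModules.naturality_apply κθ.val (homOfLE (hW₂.trans (hW₁.trans hW₀))).op x).trans ?_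
    refine Eq.trans ?_ (hκlc _ b).symm
    refine (FModLib.mres_mres 𝔉 (hW₂.trans hW₁) hW₀ (κθ.val.app (op W) x)).symm.trans ?_
    refine (congrArg (mres 𝔉 (hW₂.trans hW₁)) hc).trans ((FModLib.mres_lc 𝔉 (hW₂.trans hW₁) _ D.e c).trans ?_)
    exact congrArg (lc 𝔉 _ D.e) (funext fun i => (FModLib.rres_rres hW₂ hW₁ (c i)).symm.trans (hb i))
  · have h0 := (hκlc hW b).symm.trans ((congrArg (κθ.val.app (op W)) hb).trans (map_zero _))
    obtain ⟨W₁, hW₁, d, hqW₁, hd⟩ := D.pres.ex W hW _ h0 q hq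
    obtain ⟨W₂, hW₂, a, hqW₂, ha⟩ := hyloc W₁ (hW₁.trans hW) (fun l => rres (𝔛.Osh hloc.1) hW₁ (b l)) d (fun i => by
      refine Eq.trans ?_ (hd i)
      refine Eq.trans ?_ (map_sum ((𝔛.Osh hloc.1).obj.map (homOfLE hW₁).op).hom _ _).symm
      refine Finset.sum_congr rfl fun l _ => Eq.symm ((map_mul ((𝔛.Osh hloc.1).obj.map (homOfLE hW₁).op).hom _ _).trans ?_)
      exact congrArg (fun q => rres (𝔛.Osh hloc.1) hW₁ (b l) * q) (FModLib.rres_rres hW₁ hW (z l i))) q hqW₁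
    exact ⟨W₂, hW₂.trans hW₁, a, hqW₂, fun l => (FModLib.rres_rres hW₂ hW₁ (b l)).symm.trans (ha l)⟩

open Groth.Agent.ModSiteLib in
theorem exists_of_loc_opens {X : TopCat.{u}} {W : Opens X} {P : ∀ ⦃W' : Opens X⦄, (W' ⟶ W) → Prop}
    (h : SetPull.Loc (Opens.grothendieckTopology X) W P) {p : X} (hp : p ∈ W) :
    ∃ (W' : Opens X) (g : W' ⟶ W), P g ∧ p ∈ W' := by
  obtain ⟨S, hS, hP⟩ := h
  obtain ⟨W', g, hg, hpW'⟩ := hS p hp
  exact ⟨W', g, hP g hg, hpW'⟩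

/-- **Cokernels of maps of coherent modules are coherent.** -/
theorem isCohF_cokernel (h𝔉 : IsCohF 𝔛 hloc.1 𝔉) (h𝔊 : IsCohF 𝔛 hloc.1 𝔊) (θ : 𝔉 ⟶ 𝔊) :
    IsCohF 𝔛 hloc.1 (cokernel θ) := by
  classical
  refine FModLib.isFP_of_locPres fun p => ?_
  obtain ⟨V, hV, hpV, -⟩ := Opens.isBasis_iff_nbhd.mp (𝔛.X 0).isBasis_affineOpens (U := ⊤) (x := p) trivial
  obtain ⟨ι, κF, _, _, ⟨D⟩⟩ := exists_presOn hloc h𝔉 hV
  obtain ⟨μ, κG, _, _, ⟨E⟩⟩ := exists_presOn hloc h𝔊 hV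
  choose A hA using fun i => exists_comb hloc h𝔊 E hV le_rfl (θ.val.app (op V) (D.e i))
  let π := cokernel.π θ
  have hπ0 : ∀ (W : (𝔛.X 0).Opens) (x : MSec 𝔉 W), π.val.app (op W) (θ.val.app (op W) x) = 0 := fun W x =>
    congr($(congrArg (fun a : 𝔉 ⟶ cokernel θ => a.val.app (op W)) (cokernel.condition θ)) x)
  refine ⟨V, μ, κG ⊕ ι, inferInstance, inferInstance, fun m => π.val.app (op V) (E.e m), Sum.elim E.r A, hpV,
    ⟨?_, fun W hW x q hq => ?_, fun W hW b hb q hq => ?_⟩⟩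
  · rintro (j | i)
    · exact (app_lc π le_rfl E.e (E.r j)).symm.trans ((congrArg _ (E.pres.rel j)).trans (map_zero _))
    · exact (app_lc π le_rfl E.e (A i)).symm.trans ((congrArg _ (hA i)).trans (hπ0 V (D.e i)))
  · obtain ⟨W₀, g, ⟨x', hx'⟩, hqW₀⟩ := exists_of_loc_opens (_root_.ModSiteLib.loc_of_epi π (V := W) x) hq
    obtain ⟨W₁, hW₁, c, hqW₁, hc⟩ := E.pres.gen W₀ (g.le.trans hW) x' q hqW₀
    refine ⟨W₁, hW₁.trans g.le, c, hqW₁, ?_⟩
    refine Eq.trans ?_ (app_lc π _ E.e c)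
    refine Eq.trans ?_ ((PresheafOfModules.naturality_apply π.val (homOfLE hW₁).op x').symm.trans
      (congrArg (π.val.app (op W₁)) hc))
    exact (FModLib.mres_mres _ hW₁ g.le x).symm.trans (congrArg (mres (cokernel θ) hW₁) hx'.symm)
  · obtain ⟨x, hx⟩ := _root_.ModSiteLib.exists_kernel_section π W (lc 𝔊 hW E.e b) ((app_lc π hW E.e b).trans hb)
    have he : Epi (Abelian.factorThruImage θ) := inferInstance
    obtain ⟨W₀, g, ⟨y, hy⟩, hqW₀⟩ :=
      exists_of_loc_opens (@_root_.ModSiteLib.loc_of_epi _ _ _ _ _ _ (Abelian.factorThruImage θ) he W x) hq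
    obtain ⟨W₁, hW₁, c, hqW₁, hc⟩ := D.pres.gen W₀ (g.le.trans hW) y q hqW₀
    have h1 : θ.val.app (op W₀) y = mres 𝔊 g.le (lc 𝔊 hW E.e b) := by
      refine (congr($(congrArg (fun a : 𝔉 ⟶ 𝔊 => a.val.app (op W₀)) (Abelian.image.fac θ).symm) y)).trans ?_
      refine (congrArg ((kernel.ι π).val.app (op W₀)) hy).trans ?_
      exact (PresheafOfModules.naturality_apply (kernel.ι π).val g.op x).trans (congrArg (mres 𝔊 g.le) hx)
    have h10 := hW₁.trans (g.le.trans hW)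
    let b₁ : μ → RSec (𝔛.Osh hloc.1) W₁ := fun m => rres (𝔛.Osh hloc.1) (hW₁.trans g.le) (b m)
    let Ac : μ → RSec (𝔛.Osh hloc.1) W₁ := fun m => ∑ i, c i * rres (𝔛.Osh hloc.1) h10 (A i m)
    have h2 : lc 𝔊 h10 E.e Ac = lc 𝔊 h10 E.e b₁ := by
      refine (lc_comp 𝔊 h10 E.e A c).symm.trans ?_
      refine (congrArg (fun q => lc 𝔊 h10 q c) (funext hA)).trans ((app_lc θ h10 D.e c).symm.trans ?_)
      refine (congrArg (θ.val.app (op W₁)) hc).symm.trans ((PresheafOfModules.naturality_apply θ.val (homOfLE hW₁).op y).trans ?_)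
      exact (congrArg (mres 𝔊 hW₁) h1).trans ((FModLib.mres_mres 𝔊 hW₁ g.le _).trans
        (FModLib.mres_lc 𝔊 (hW₁.trans g.le) hW E.e b))
    have h3 : lc 𝔊 h10 E.e (b₁ - Ac) = 0 := by
      have h4 : lc 𝔊 h10 E.e (b₁ - Ac) + lc 𝔊 h10 E.e Ac = 0 + lc 𝔊 h10 E.e b₁ :=
        (FModLib.lc_add 𝔊 h10 E.e _ _).symm.trans ((congrArg _ (sub_add_cancel b₁ Ac)).trans (zero_add _).symm)
      rw [h2] at h4
      exact add_right_cancel h4
    obtain ⟨W₂, hW₂, d, hqW₂, hd⟩ := E.pres.ex W₁ h10 _ h3 q hqW₁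
    refine ⟨W₂, hW₂.trans (hW₁.trans g.le), Sum.elim d fun i => rres (𝔛.Osh hloc.1) hW₂ (c i), hqW₂, fun m => ?_⟩
    have h5 : rres (𝔛.Osh hloc.1) hW₂ (b₁ m) - rres (𝔛.Osh hloc.1) hW₂ (Ac m) =
        ∑ j, d j * rres (𝔛.Osh hloc.1) (hW₂.trans h10) (E.r j m) :=
      (map_sub ((𝔛.Osh hloc.1).obj.map (homOfLE hW₂).op).hom (b₁ m) (Ac m)).symm.trans (hd m)
    rw [Fintype.sum_sum_type]
    refine (FModLib.rres_rres hW₂ (hW₁.trans g.le) (b m)).symm.trans ((sub_eq_iff_eq_add.1 h5).trans ?_)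
    refine congrArg₂ (fun u v => u + v) rfl ?_
    refine (map_sum ((𝔛.Osh hloc.1).obj.map (homOfLE hW₂).op).hom _ _).trans (Finset.sum_congr rfl fun i _ => ?_)
    exact (map_mul ((𝔛.Osh hloc.1).obj.map (homOfLE hW₂).op).hom _ _).trans
      (congrArg (fun q => rres (𝔛.Osh hloc.1) hW₂ (c i) * q) (FModLib.rres_rres hW₂ h10 (A i m)))

/-- **Images of maps of coherent modules are coherent.** -/
theorem isCohF_image (h𝔉 : IsCohF 𝔛 hloc.1 𝔉) (h𝔊 : IsCohF 𝔛 hloc.1 𝔊) (θ : 𝔉 ⟶ 𝔊) :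
    IsCohF 𝔛 hloc.1 (Abelian.image θ) :=
  isCohF_kernel hloc h𝔊 (isCohF_cokernel hloc h𝔉 h𝔊 θ) (cokernel.π θ)

end FCohLib

end
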