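import Groth.Agent.FCohLib.AlgzVan
import Groth.Agent.QCohLib.AffineFinite

/-!
# Coherent systems on the formal spectrum come from finite modules
-/

set_option autoImplicit false
set_option linter.style.haveILetI false
set_option maxHeartbeats 800000

universe u

open CategoryTheory CategoryTheory.Limits AlgebraicGeometry TopologicalSpace Opposite FSch

noncomputable section

namespace FCohLib

/-- A coherent module on an affine spectrum comes from a finite module. -/
theorem exists_finite_tilde_iso {R : CommRingCat.{u}} (G : (Spec R).Modules) (hG : Coh.IsCoh G) :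
    ∃ M : ModuleCat.{u} R, Module.Finite R M ∧ Nonempty (G ≅ tilde M) := by
  haveI : Coh.IsQCoh G := hG.1
  haveI : G.IsQuasicoherent := hG.1
  let M₀ : ModuleCat.{u} R := (moduleSpecΓFunctor (R := R)).obj G
  refine ⟨M₀, ?_, ⟨(@asIso _ _ _ _ (Scheme.Modules.fromTildeΓ G) (Scheme.Modules.isIso_fromTildeΓ_of_isQuasicoherent G)).symm⟩⟩
  obtain ⟨S, hS⟩ := (QCohLib.finite_of_isFT (M := G) hG.2 (isAffineOpen_top _)).fg_top
  classical
  let j : Γ(G, ⊤) → M₀ := fun y => y
  have hj : Function.Surjective j := fun y => ⟨y, rfl⟩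
  refine ⟨⟨S.image j, eq_top_iff.2 fun x _ => ?_⟩⟩
  obtain ⟨y, rfl⟩ := hj x
  have hy : y ∈ Submodule.span Γ(Spec R, ⊤) (S : Set Γ(G, ⊤)) := hS.symm ▸ trivial
  refine Submodule.span_induction (p := fun y _ => j y ∈ Submodule.span R (S.image j : Set M₀))
    (fun z hz => Submodule.subset_span (Finset.mem_coe.2 (Finset.mem_image_of_mem j hz))) (Submodule.zero_mem _)
    (fun a b _ _ ha hb => Submodule.add_mem _ ha hb) (fun c z _ hz => ?_) hy
  have hc : j (c • z) = (Scheme.ΓSpecIso R).hom c • j z := by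
    refine Eq.trans ?_ (Scheme.Modules.smul_Spec_def ((Scheme.ΓSpecIso R).hom c) z).symm
    refine congrArg (fun d : Γ(Spec R, ⊤) => d • z) ?_
    refine (congr($((Scheme.ΓSpecIso R).hom_inv_id) c)).symm.trans ?_
    exact (congr($((congrArg (Spec R).presheaf.map (Subsingleton.elim _ (𝟙 _))).trans
      ((Spec R).presheaf.map_id _)) ((Scheme.ΓSpecIso R).inv ((Scheme.ΓSpecIso R).hom c)))).symm
  rw [hc]
  exact Submodule.smul_mem _ _ hz

/-- The completion, as a functor on isomorphisms. -/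
def complModIso {X : Scheme.{u}} (𝓘 : X.IdealSheafData) {F G : X.Modules} (e : F ≅ G) : complMod 𝓘 F ≅ complMod 𝓘 G :=
  modSysIso (fun k => (Scheme.Modules.pullback (completionToX X 𝓘 k)).mapIso e) fun k => (complModMap 𝓘 e.hom).comm k

/-- **A coherent system on the completion of an affine spectrum comes from a finite module.** -/
theorem exists_iso_complMod_tilde (A : Type u) [CommRing A] [IsNoetherianRing A] (J : Ideal A) [IsAdicComplete J A]
    (𝔐 : ModSys (completionAlong (Spec (CommRingCat.of A)) (FSch.idealSpec A J))) (h𝔐 : 𝔐.IsCoh) :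
    ∃ M : ModuleCat.{u} A, Module.Finite A M ∧ Nonempty (𝔐 ≅ complMod (FSch.idealSpec A J) (tilde M)) := by
  let X := Spec (CommRingCat.of A)
  letI : X.Over (Spec (CommRingCat.of A)) := ⟨𝟙 _⟩
  have : IsSeparated (X ↘ Spec (CommRingCat.of A)) := inferInstanceAs (IsSeparated (𝟙 X))
  have : LocallyOfFiniteType (X ↘ Spec (CommRingCat.of A)) := inferInstanceAs (LocallyOfFiniteType (𝟙 X))
  have : QuasiCompact (X ↘ Spec (CommRingCat.of A)) := inferInstanceAs (QuasiCompact (𝟙 X))
  have h' : FSch.idealSpec A J = (FSch.idealSpec A J).comap (X ↘ Spec (CommRingCat.of A)) :=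
    (Scheme.IdealSheafData.comap_id _).symm
  have hG := isCohFormal_gSys (X := X) J (FSch.idealSpec A J) h' 𝔐 h𝔐
  have hZ : IsClosed (CohB1.support ((gSys (FSch.idealSpec A J) 𝔐).obj (op 0))) := QCohLib.isClosed_support _ (hG.1 0).2
  have hGs : ClSub.IsProperOver (X ↘ Spec (CommRingCat.of A))
      (CohB1.support ((gSys (FSch.idealSpec A J) 𝔐).obj (op 0))) :=
    ⟨hZ, inferInstanceAs (IsProper ((Scheme.IdealSheafData.vanishingIdeal ⟨_, hZ⟩).subschemeι ≫ 𝟙 X))⟩
  obtain ⟨G, hG', -, ⟨γ⟩⟩ := FormalCohLib.exists_algebraisation_properSupport J X hG hGs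
  have : Coh.IsQCoh G := hG'.1
  obtain ⟨ε⟩ := nonempty_iso_complMod J (FSch.idealSpec A J) h' 𝔐 γ
  obtain ⟨M, hM, ⟨e⟩⟩ := exists_finite_tilde_iso G hG'
  exact ⟨M, hM, ⟨ε.symm ≪≫ complModIso _ e⟩⟩

end FCohLib
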