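import Groth.Agent.FCohLib.Surj
import Mathlib.RingTheory.Filtration

/-!
# Linear algebra over the sections of the structure sheaf on affine opens of a formal scheme
-/

set_option autoImplicit false
set_option linter.style.haveILetI false
set_option maxHeartbeats 800000

universe u

open CategoryTheory CategoryTheory.Limits AlgebraicGeometry TopologicalSpace Opposite FSch
open FModLib (MSec RSec oK mres rres lc LocPres)

noncomputable section

namespace FCohLib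

theorem mem_smul_top_pi {R : Type u} [CommRing R] {μ : Type u} [Fintype μ] (J : Ideal R) (v : μ → R)
    (hv : ∀ m, v m ∈ J) : v ∈ J • (⊤ : Submodule R (μ → R)) := by
  classical
  rw [show v = ∑ m, v m • (Pi.single m 1 : μ → R) from pi_eq_sum_univ' v]
  exact Submodule.sum_mem _ fun m _ => Submodule.smul_mem_smul (hv m) trivial

theorem apply_mem_of_mem_smul_top {R : Type u} [CommRing R] {μ : Type u} (J : Ideal R) (v : μ → R)
    (hv : v ∈ J • (⊤ : Submodule R (μ → R))) (m : μ) : v m ∈ J := by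
  refine Submodule.smul_induction_on hv (fun a ha w _ => ?_) (fun a b ha hb => add_mem ha hb)
  exact J.mul_mem_right (w m) ha

/-- Solutions modulo powers of an ideal of a linear system come from solutions. -/
theorem exists_artinRees {R : Type u} [CommRing R] [IsNoetherianRing R] (I : Ideal R) {ι μ : Type u} [Fintype ι]
    [Fintype μ] (u : (ι → R) →ₗ[R] μ → R) :
    ∃ k₀ : ℕ, ∀ k (a : ι → R), (∀ m, u a m ∈ I ^ (k + k₀)) →
      ∃ a', (∀ i, a' i ∈ I ^ k) ∧ u a' = u a := by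
  obtain ⟨k₀, hk₀⟩ := I.exists_pow_inf_eq_pow_smul (M := μ → R) (LinearMap.range u)
  refine ⟨k₀, fun k a ha => ?_⟩
  have h1 : u a ∈ I ^ k • LinearMap.range u := by
    have h2 : u a ∈ (I ^ (k + k₀) • ⊤ ⊓ LinearMap.range u : Submodule R (μ → R)) :=
      ⟨mem_smul_top_pi _ _ ha, ⟨a, rfl⟩⟩
    rw [hk₀ (k + k₀) (Nat.le_add_left _ _), Nat.add_sub_cancel] at h2
    exact Submodule.smul_mono le_rfl inf_le_right h2
  rw [LinearMap.range_eq_map, ← Submodule.map_smul''] at h1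
  obtain ⟨a', ha', he⟩ := h1
  exact ⟨a', apply_mem_of_mem_smul_top _ a' ha', he⟩

variable {𝔛 : Sys.{u}} (hloc : 𝔛.IsLocNoethFormal)

theorem oK_toX (k : ℕ) (V : (𝔛.X 0).Opens) (g : RSec (𝔛.Osh hloc.1) V) :
    (𝔛.toX k).appLE (𝔛.lvU hloc.1 k V) (𝔛.lvU hloc.1 0 V) (FModLib.lvU_le_toX hloc.1 k V) (oK hloc.1 k V g) =
      oK hloc.1 0 V g := by
  induction k with
  | zero =>
    show ((𝟙 (𝔛.X 0) : 𝔛.X 0 ⟶ 𝔛.X 0).appLE _ _ _) _ = _
    exact congr($((Category.id_comp _).trans ((congrArg (𝔛.X 0).presheaf.map (Subsingleton.elim _ (𝟙 _))).trans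
      ((𝔛.X 0).presheaf.map_id _))) (oK hloc.1 0 V g))
  | succ k ih =>
    refine Eq.trans ?_ ih
    refine Eq.trans ?_ (congrArg ((𝔛.toX k).appLE _ _ (FModLib.lvU_le_toX hloc.1 k V)) (FModLib.oProj_succ hloc.1 V k g))
    exact congr($((Scheme.Hom.appLE_comp_appLE (𝔛.toX k) (𝔛.ι k) _ _ _ (𝔛.lvU_le hloc.1 k V)
      (FModLib.lvU_le_toX hloc.1 k V)).symm) (oK hloc.1 (k + 1) V g))

/-- A basic affine open of an affine open, at all levels. -/
structure Basic {V : (𝔛.X 0).Opens} (W : (𝔛.X 0).Opens) (g : RSec (𝔛.Osh hloc.1) V) : Prop where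
  le : W ≤ V
  affine : IsAffineOpen W
  lvl : ∀ k, 𝔛.lvU hloc.1 k W = (𝔛.X k).basicOpen (oK hloc.1 k V g)

theorem exists_basic {V V' : (𝔛.X 0).Opens} (hV : IsAffineOpen V) {p : 𝔛.X 0} (hp : p ∈ V') (hpV : p ∈ V) :
    ∃ (W : (𝔛.X 0).Opens) (g : RSec (𝔛.Osh hloc.1) V), Basic hloc W g ∧ p ∈ W ∧ W ≤ V' := by
  have h0 : ∀ U : (𝔛.X 0).Opens, 𝔛.lvU hloc.1 0 U = U := fun U => by
    show (Opens.map (𝔛.gInv hloc.1 0)).obj U = U
    rw [FModLib.gInv_zero_aff]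
    rfl
  obtain ⟨g₀, hgV, hpg⟩ := (FModLib.isAffineOpen_lvU hloc.1 hV 0).exists_basicOpen_le
    (⟨p, hp⟩ : V') ((h0 V).ge hpV)
  obtain ⟨g, rfl⟩ := FModLib.oK_surjective hloc hV 0 g₀
  have hWV : (𝔛.X 0).basicOpen (oK hloc.1 0 V g) ≤ V :=
    ((𝔛.X 0).basicOpen_le _).trans (h0 V).le
  refine ⟨_, g, ⟨hWV, (FModLib.isAffineOpen_lvU hloc.1 hV 0).basicOpen _, fun k => ?_⟩, hpg, hgV⟩
  have e : (𝔛.X 0).basicOpen (oK hloc.1 0 V g) =
      𝔛.lvU hloc.1 0 V ⊓ 𝔛.toX k ⁻¹ᵁ (𝔛.X k).basicOpen (oK hloc.1 k V g) := by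
    rw [← Scheme.basicOpen_appLE _ _ _ (FModLib.lvU_le_toX hloc.1 k V), oK_toX hloc k V g]
  refine Opens.ext (Set.ext fun x => ?_)
  have hx : (𝔛.toX k) ((𝔛.gInv hloc.1 k) x) = x :=
    congr($(Sys.gInv_toX_base 𝔛 hloc.1 k) x)
  show (𝔛.gInv hloc.1 k) x ∈ (𝔛.X 0).basicOpen (oK hloc.1 0 V g) ↔ _
  rw [e]
  refine ⟨fun h => ?_, fun h => ⟨(h0 V).ge ((𝔛.X k).basicOpen_le (oK hloc.1 k V g) h), ?_⟩⟩
  · exact hx ▸ h.2
  · show (𝔛.toX k) ((𝔛.gInv hloc.1 k) x) ∈ (𝔛.X k).basicOpen (oK hloc.1 k V g)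
    rw [hx]
    exact h

variable {V : (𝔛.X 0).Opens} (hV : IsAffineOpen V)

include hV in
theorem exists_adic : ∃ (I : Ideal (RSec (𝔛.Osh hloc.1) V)), IsNoetherianRing (RSec (𝔛.Osh hloc.1) V) ∧
    ∀ k (a : RSec (𝔛.Osh hloc.1) V), oK hloc.1 k V a = 0 ↔ a ∈ I ^ (k + 1) := by
  obtain ⟨I, hN, hA, hI⟩ := FModLib.exists_adic_lim hloc.1 V hV hloc
  let T := RingEquiv.ofBijective (FModLib.toLim hloc.1 V hV) (FModLib.toLim_bijective hloc.1 V hV)
  refine ⟨I.map T.symm.toRingHom, isNoetherianRing_of_surjective _ _ T.symm.toRingHom T.symm.surjective,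
    fun k a => ?_⟩
  rw [← Ideal.map_pow]
  refine Iff.trans ?_ (Ideal.mem_map_iff_of_surjective T.symm.toRingHom T.symm.surjective).symm
  refine ⟨fun h => ⟨T a, ?_, T.symm_apply_apply a⟩, ?_⟩
  · rw [← hI k, RingHom.mem_ker]
    exact h
  · rintro ⟨b, hb, rfl⟩
    rw [← hI k, RingHom.mem_ker] at hb
    have h2 : T (T.symm b) = b := T.apply_symm_apply b
    rw [← h2] at hb
    exact hb

variable {W : (𝔛.X 0).Opens} {g : RSec (𝔛.Osh hloc.1) V} (hb : Basic hloc W g)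

include hV hb in
theorem exists_lift_level {ι : Type u} [Fintype ι] (k : ℕ) (c : ι → RSec (𝔛.Osh hloc.1) W) :
    ∃ (E : ℕ) (a : ι → RSec (𝔛.Osh hloc.1) V), ∀ i,
      oK hloc.1 k W (rres (𝔛.Osh hloc.1) hb.le (a i)) =
        oK hloc.1 k W (rres (𝔛.Osh hloc.1) hb.le g) ^ E * oK hloc.1 k W (c i) := by
  classical
  have hVk := FModLib.isAffineOpen_lvU hloc.1 hV k
  have : Coh.IsQCoh (Coh.structureModule (𝔛.X k)) := QCohLib.isQCoh_unit
  have hle := (Opens.map (𝔛.gInv hloc.1 k)).monotone hb.le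
  have key : ∀ (Wk : (𝔛.X k).Opens) (hle : Wk ≤ 𝔛.lvU hloc.1 k V), Wk = (𝔛.X k).basicOpen (oK hloc.1 k V g) →
      ∀ x : RSec (𝔛.X k).sheaf Wk, ∃ (n : ℕ) (a : RSec (𝔛.X k).sheaf (𝔛.lvU hloc.1 k V)),
        rres (𝔛.X k).sheaf hle a = rres (𝔛.X k).sheaf hle (oK hloc.1 k V g) ^ n * x := by
    intro Wk hle' e x
    subst e
    exact (QCohLib.localizingAt_of_isQCoh hVk (Coh.structureModule (𝔛.X k)) (oK hloc.1 k V g)).exists_extend x
  choose n a₀ ha₀ using fun i => key _ hle (hb.lvl k) (oK hloc.1 k W (c i))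
  choose a ha using fun i => FModLib.oK_surjective hloc hV k (a₀ i)
  refine ⟨Finset.univ.sup n, fun i => g ^ (Finset.univ.sup n - n i) * a i, fun i => ?_⟩
  have hr : ∀ b, oK hloc.1 k W (rres (𝔛.Osh hloc.1) hb.le b) = rres (𝔛.X k).sheaf hle (oK hloc.1 k V b) :=
    fun b => (FModLib.oK_rres hloc.1 k hb.le b).symm
  rw [hr, hr]
  have hmul : oK hloc.1 k V (g ^ (Finset.univ.sup n - n i) * a i) =
      oK hloc.1 k V g ^ (Finset.univ.sup n - n i) * oK hloc.1 k V (a i) :=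
    (map_mul ((𝔛.OshProj hloc.1 k).hom.app (op V)).hom _ _).trans
      (congrArg (fun z => z * _) (map_pow ((𝔛.OshProj hloc.1 k).hom.app (op V)).hom g _))
  refine (congrArg (rres (𝔛.X k).sheaf hle) (hmul.trans (congrArg (fun z => _ * z) (ha i)))).trans ?_
  refine (map_mul ((𝔛.X k).sheaf.obj.map (homOfLE hle).op).hom _ _).trans ?_
  refine (congrArg₂ (fun y z => y * z) (map_pow ((𝔛.X k).sheaf.obj.map (homOfLE hle).op).hom _ _) (ha₀ i)).trans ?_
  exact (mul_assoc _ _ _).symm.trans (congrArg (fun y => y * _) ((pow_add _ _ _).symm.trans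
    (congrArg (fun e => _ ^ e) (Nat.sub_add_cancel (Finset.le_sup (Finset.mem_univ i))))))

include hV hb in
theorem exists_pow_kill (k : ℕ) (x : RSec (𝔛.Osh hloc.1) V)
    (hx : oK hloc.1 k W (rres (𝔛.Osh hloc.1) hb.le x) = 0) : ∃ M : ℕ, oK hloc.1 k V (g ^ M * x) = 0 := by
  have hVk := FModLib.isAffineOpen_lvU hloc.1 hV k
  have : Coh.IsQCoh (Coh.structureModule (𝔛.X k)) := QCohLib.isQCoh_unit
  have key : ∀ (Wk : (𝔛.X k).Opens) (hle : Wk ≤ 𝔛.lvU hloc.1 k V), Wk = (𝔛.X k).basicOpen (oK hloc.1 k V g) →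
      ∀ y : RSec (𝔛.X k).sheaf (𝔛.lvU hloc.1 k V), rres (𝔛.X k).sheaf hle y = 0 →
        ∃ M : ℕ, oK hloc.1 k V g ^ M * y = 0 := by
    intro Wk hle' e y hy
    subst e
    obtain ⟨M, hM⟩ :=
      (QCohLib.localizingAt_of_isQCoh hVk (Coh.structureModule (𝔛.X k)) (oK hloc.1 k V g)).eq_zero y hy
    simp only [homOfLE_refl, op_id, CategoryTheory.Functor.map_id] at hM
    exact ⟨M, hM⟩
  obtain ⟨M, hM⟩ := key _ ((Opens.map (𝔛.gInv hloc.1 k)).monotone hb.le) (hb.lvl k) (oK hloc.1 k V x)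
    ((FModLib.oK_rres hloc.1 k hb.le x).trans hx)
  exact ⟨M, (map_mul ((𝔛.OshProj hloc.1 k).hom.app (op V)).hom _ _).trans
    ((congrArg (fun z => z * _) (map_pow ((𝔛.OshProj hloc.1 k).hom.app (op V)).hom g M)).trans hM)⟩

include hb in
theorem isUnit_oK (k : ℕ) : IsUnit (oK hloc.1 k W (rres (𝔛.Osh hloc.1) hb.le g)) := by
  rw [← FModLib.oK_rres hloc.1 k hb.le g]
  have key : ∀ (Wk : (𝔛.X k).Opens) (hle : Wk ≤ 𝔛.lvU hloc.1 k V), Wk = (𝔛.X k).basicOpen (oK hloc.1 k V g) →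
      IsUnit (rres (𝔛.X k).sheaf hle (oK hloc.1 k V g)) := by
    intro Wk hle' e
    subst e
    exact QCohLib.isUnit_res (oK hloc.1 k V g) (le_refl _)
  exact key _ _ (hb.lvl k)

include hV hb in
/-- **Solutions over a basic open are combinations of solutions over the affine open.** -/
theorem exists_solution {ι μ σ : Type u} [Fintype ι] [Fintype μ] [Fintype σ]
    (t : ι → μ → RSec (𝔛.Osh hloc.1) V) (z : σ → ι → RSec (𝔛.Osh hloc.1) V)
    (hz : ∀ a : ι → RSec (𝔛.Osh hloc.1) V, (∀ m, ∑ i, a i * t i m = 0) →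
      ∃ d : σ → RSec (𝔛.Osh hloc.1) V, ∀ i, a i = ∑ l, d l * z l i)
    (c : ι → RSec (𝔛.Osh hloc.1) W) (hc : ∀ m, ∑ i, c i * rres (𝔛.Osh hloc.1) hb.le (t i m) = 0) :
    ∃ d : σ → RSec (𝔛.Osh hloc.1) W, ∀ i, c i = ∑ l, d l * rres (𝔛.Osh hloc.1) hb.le (z l i) := by
  classical
  obtain ⟨I, hN, hI⟩ := exists_adic hloc hV
  let A := RSec (𝔛.Osh hloc.1) V
  let ρ : A →+* RSec (𝔛.Osh hloc.1) W := ((𝔛.Osh hloc.1).obj.map (homOfLE hb.le).op).hom
  let u : (ι → A) →ₗ[A] μ → A :=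
    { toFun := fun a m => ∑ i, a i * t i m
      map_add' := fun a b => funext fun m => by simp [add_mul, Finset.sum_add_distrib]
      map_smul' := fun s a => funext fun m =>
        ((Finset.mul_sum Finset.univ (fun i => a i * t i m) s).trans
          (Finset.sum_congr rfl fun i _ => (mul_assoc _ _ _).symm)).symm }
  obtain ⟨k₀, hk₀⟩ := exists_artinRees I u
  refine FModLib.exists_rel_of_levels hloc hb.affine (fun l i => ρ (z l i)) c fun k => ?_
  let K := k + k₀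
  let oW : ∀ j, RSec (𝔛.Osh hloc.1) W →+* RSec (𝔛.X j).sheaf (𝔛.lvU hloc.1 j W) :=
    fun j => ((𝔛.OshProj hloc.1 j).hom.app (op W)).hom
  obtain ⟨E, a, ha⟩ := exists_lift_level hloc hV hb K c
  have h0 : ∀ m, oW K (ρ (u a m)) = 0 := fun m => by
    have h1 : oW K (ρ (u a m)) = oW K (ρ g) ^ E * oW K (∑ i, c i * ρ (t i m)) := by
      simp only [u, LinearMap.coe_mk, AddHom.coe_mk, map_sum, map_mul, Finset.mul_sum]
      exact Finset.sum_congr rfl fun i _ =>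
        (congrArg (fun y => y * oW K (ρ (t i m))) (ha i)).trans (mul_assoc _ _ _)
    rw [h1, show ∑ i, c i * ρ (t i m) = 0 from hc m, map_zero, mul_zero]
  choose M hM using fun m => exists_pow_kill hloc hV hb K (u a m) (h0 m)
  let N := Finset.univ.sup M
  have h2 : ∀ m, u (g ^ N • a) m ∈ I ^ (k + 1 + k₀) := fun m => by
    rw [map_smul, Pi.smul_apply, smul_eq_mul]
    show g ^ Finset.univ.sup M * _ ∈ _
    rw [← pow_sub_mul_pow g (Finset.le_sup (f := M) (Finset.mem_univ m)), mul_assoc, add_right_comm]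
    exact Ideal.mul_mem_left _ _ ((hI K _).1 (hM m))
  obtain ⟨a', ha'I, ha'⟩ := hk₀ (k + 1) (g ^ N • a) h2
  obtain ⟨d, hd⟩ := hz (g ^ N • a - a') fun m => by
    have : u (g ^ N • a - a') = 0 := by rw [map_sub, ha', sub_self]
    exact congrFun this m
  obtain ⟨v, hv⟩ := ((isUnit_oK hloc hb k).pow (N + E))
  obtain ⟨v', hv'⟩ := FModLib.oK_surjective hloc hb.affine k ↑v⁻¹
  refine ⟨fun l => v' * ρ (d l), fun i => ?_⟩
  have hz0 : oW k (ρ (a' i)) = 0 := by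
    have h3 : oK hloc.1 k V (a' i) = 0 := (hI k _).2 (ha'I i)
    exact (FModLib.oK_rres hloc.1 k hb.le (a' i)).symm.trans ((congrArg _ h3).trans (map_zero _))
  have haK : oW k (ρ (a i)) = oW k (ρ g) ^ E * oW k (c i) := by
    have hdown : ∀ (d j : ℕ) (x y : RSec (𝔛.Osh hloc.1) W), oW (j + d) x = oW (j + d) y → oW j x = oW j y := by
      intro d
      induction d with
      | zero => exact fun j x y h => h
      | succ d ih =>
        intro j x y h
        exact ih j x y ((FModLib.oProj_succ hloc.1 W (j + d) x).symm.trans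
          ((congrArg _ h).trans (FModLib.oProj_succ hloc.1 W (j + d) y)))
    have h4 := hdown k₀ k (ρ (a i)) (ρ g ^ E * c i) (by rw [map_mul, map_pow]; exact ha i)
    rw [h4, map_mul, map_pow]
  have h5 : oW k (ρ g) ^ (N + E) * oW k (c i) = oW k (ρ (∑ l, d l * z l i)) := by
    rw [← hd i, Pi.sub_apply, Pi.smul_apply, smul_eq_mul, map_sub, map_sub, hz0, sub_zero, map_mul, map_mul,
      map_pow, map_pow, haK, pow_add, mul_assoc]
  show oW k (c i) = oW k (∑ l, v' * ρ (d l) * ρ (z l i))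
  have h6 : ∑ l, v' * ρ (d l) * ρ (z l i) = v' * ρ (∑ l, d l * z l i) := by
    simp only [map_sum, map_mul, Finset.mul_sum, mul_assoc]
  rw [h6, map_mul, ← h5, show oW k v' = ↑v⁻¹ from hv', ← mul_assoc]
  rw [show oW k (ρ g) ^ (N + E) = ↑v from hv.symm, Units.inv_mul, one_mul]

include hloc hV in
/-- **Membership in a span is local.** -/
theorem exists_comb_of_local_real {ι σ : Type u} [Fintype ι] [Fintype σ]
    (z : σ → ι → RSec (𝔛.Osh hloc.1) V) (b : ι → RSec (𝔛.Osh hloc.1) V)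
    (h : ∀ p ∈ V, ∃ (U : (𝔛.X 0).Opens) (hU : U ≤ V) (d : σ → RSec (𝔛.Osh hloc.1) U), p ∈ U ∧
      ∀ i, rres (𝔛.Osh hloc.1) hU (b i) = ∑ l, d l * rres (𝔛.Osh hloc.1) hU (z l i)) :
    ∃ d : σ → RSec (𝔛.Osh hloc.1) V, ∀ i, b i = ∑ l, d l * z l i := by
  refine FModLib.exists_rel_of_levels hloc hV z b fun k => ?_
  have : Coh.IsQCoh (Coh.structureModule (𝔛.X k)) := QCohLib.isQCoh_unit
  obtain ⟨c, hc⟩ := FModLib.exists_comb_of_local (Coh.structureModule (𝔛.X k)) (FModLib.isAffineOpen_lvU hloc.1 hV k)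
    (fun l i => oK hloc.1 k V (z l i)) (fun i => oK hloc.1 k V (b i)) fun q hq => by
      obtain ⟨U, hU, d, hpU, hd⟩ := h _ hq
      refine ⟨𝔛.lvU hloc.1 k U, (Opens.map (𝔛.gInv hloc.1 k)).monotone hU, fun l => oK hloc.1 k U (d l), hpU,
        fun i => ?_⟩
      refine (FModLib.oK_rres hloc.1 k hU (b i)).trans ((congrArg (oK hloc.1 k U) (hd i)).trans ?_)
      refine (FModLib.oK_sum hloc.1 k d _).trans (Finset.sum_congr rfl fun l _ => ?_)
      exact congrArg (fun y => oK hloc.1 k U (d l) * y) (FModLib.oK_rres hloc.1 k hU (z l i)).symm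
  choose d hd using fun l => FModLib.oK_surjective hloc hV k (c l)
  refine ⟨d, fun i => (hc i).trans (Eq.trans ?_ (FModLib.oK_sum hloc.1 k d _).symm)⟩
  exact Finset.sum_congr rfl fun l _ => congrArg (fun y => y * oK hloc.1 k V (z l i)) (hd l).symm

end FCohLib

end
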