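import Groth.Agent.CompleteLib.ModuleLimit

/-!
# Presentations of adic systems of modules over a complete Noetherian ring
-/

set_option autoImplicit false

universe u

namespace FCohLib

variable {A : Type u} [CommRing A] [IsNoetherianRing A] (I : Ideal A) [IsAdicComplete I A]
  (M : ℕ → Type u) [∀ n, AddCommGroup (M n)] [∀ n, Module A (M n)]
  (f : ∀ n, M (n + 1) →ₗ[A] M n) (hf : ∀ n, Function.Surjective (f n))
  (hker : ∀ n, LinearMap.ker (f n) = I ^ (n + 1) • (⊤ : Submodule A (M (n + 1))))

/-- The module of compatible families. -/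
def limMod : Submodule A (∀ n, M n) where
  carrier := {x | ∀ n, f n (x (n + 1)) = x n}
  add_mem' {a b} ha hb n := by simp [ha n, hb n]
  zero_mem' n := by simp
  smul_mem' c x hx n := by simp [hx n]

include hf hker in
/-- An adic system of modules is presented, at all levels, by finitely many compatible families. -/
theorem exists_pres_of_system (h0 : Module.Finite A (M 0)) :
    ∃ (n m : ℕ) (e : Fin n → ∀ k, M k) (r : Fin m → Fin n → A),
      (∀ i k, f k (e i (k + 1)) = e i k) ∧
      (∀ j k, ∑ i, r j i • e i k = 0) ∧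
      (∀ k (y : M k), ∃ c : Fin n → A, ∑ i, c i • e i k = y) ∧
      ∀ k (c : Fin n → A), ∑ i, c i • e i k = 0 →
        ∃ d : Fin m → A, ∀ i, c i - ∑ j, d j * r j i ∈ I ^ (k + 1) := by
  classical
  let π : ∀ k, limMod M f →ₗ[A] M k := fun k => (LinearMap.proj k).comp (limMod M f).subtype
  obtain ⟨hfin, -, hπ⟩ := CompleteLib.limit_finite I M f hf hker (limMod M f) π
    (fun k => LinearMap.ext fun x => x.2 k) (fun x hx => Subtype.ext (funext hx))
    (fun y hy => ⟨⟨y, hy⟩, fun _ => rfl⟩) h0
  obtain ⟨n, e, he⟩ := Module.Finite.exists_fin (R := A) (M := limMod M f)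
  let φ : (Fin n → A) →ₗ[A] limMod M f := Fintype.linearCombination A e
  obtain ⟨m, r, hr⟩ := Submodule.fg_iff_exists_fin_generating_family.1 (IsNoetherian.noetherian (LinearMap.ker φ))
  have hφk : ∀ k (c : Fin n → A), π k (φ c) = ∑ i, c i • (e i).1 k := fun k c => by
    simp [φ, π, Fintype.linearCombination_apply, Finset.sum_apply]
  refine ⟨n, m, fun i => (e i).1, r, fun i k => (e i).2 k, fun j k => ?_, fun k y => ?_, fun k c hc => ?_⟩
  · rw [← hφk, show φ (r j) = 0 from LinearMap.mem_ker.1 (hr ▸ Submodule.subset_span ⟨j, rfl⟩), map_zero]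
  · obtain ⟨x, rfl⟩ := (hπ k).1 y
    obtain ⟨c, hc⟩ := (Submodule.mem_span_range_iff_exists_fun A).1 (he.ge (Submodule.mem_top (x := x)))
    exact ⟨c, by rw [← hφk, ← hc, Fintype.linearCombination_apply]⟩
  · have hx : φ c ∈ (I ^ (k + 1) • ⊤ : Submodule A (limMod M f)) := by
      rw [← (hπ k).2, LinearMap.mem_ker, hφk, hc]
    rw [← he] at hx
    obtain ⟨D, hD, hDs⟩ := (CompleteLib.mem_smul_span_iff_exists (I ^ (k + 1)) e (φ c)).1 hx
    have : c - D ∈ LinearMap.ker φ := by
      rw [LinearMap.mem_ker, map_sub, sub_eq_zero, ← hDs]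
      exact (Fintype.linearCombination_apply A e D).symm
    rw [← hr] at this
    obtain ⟨d, hd⟩ := (Submodule.mem_span_range_iff_exists_fun A).1 this
    refine ⟨d, fun i => ?_⟩
    have := congrFun hd i
    simp only [Finset.sum_apply, Pi.smul_apply, smul_eq_mul, Pi.sub_apply] at this
    rw [this, sub_sub_cancel]
    exact hD i

end FCohLib
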