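import Groth.Agent.FCohLib.CmplReal
import Groth.Agent.CohCmpLib.PullOnComp
import Groth.Agent.FCohLib.AffLin
import Groth.Agent.FComplLib.Completion
import Groth.Agent.ModSiteLib.PullFlat
import Groth.Agent.QCohLib.AffineFinite

/-!
# Completion of coherent modules is exact
-/

set_option autoImplicit false
set_option linter.style.haveILetI false
set_option maxHeartbeats 800000

universe u

open CategoryTheory CategoryTheory.Limits AlgebraicGeometry TopologicalSpace Opposite FSch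
open FModLib (MSec RSec)

noncomputable section

namespace FCohLib

section Sys

variable {𝔛 : Sys.{u}} (h : 𝔛.IsFormal) {Y : Scheme.{u}} (p : ∀ n, 𝔛.X n ⟶ Y) (hp : ∀ n, 𝔛.ι n ≫ p (n + 1) = p n)
  {F G : Y.Modules} (φ : F ⟶ G) (ψ : resSys p hp F ⟶ resSys p hp G)
  (hψ : ∀ k, ψ.app k = (Scheme.Modules.pullback (p k)).map φ)

include hψ in
theorem cmpK_natural (k : ℕ) :
    φ ≫ cmpK h p hp G k = cmpK h p hp F k ≫
      (toSchemeMor 𝔛 h p hp).push.map ((levelMor 𝔛 h k).push.map (ψ.app k)) := by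
  rw [hψ]
  refine (Category.assoc _ _ _).symm.trans ?_
  refine (congrArg (fun q => q ≫ (schPushCompare 𝔛 h p hp k).app _)
    ((Scheme.Modules.pullbackPushforwardAdjunction (p k)).unit.naturality φ)).trans ?_
  refine (Category.assoc _ _ _).trans (Eq.trans ?_ (Category.assoc _ _ _).symm)
  exact congrArg (fun q => (Scheme.Modules.pullbackPushforwardAdjunction (p k)).unit.app F ≫ q)
    ((schPushCompare 𝔛 h p hp k).naturality ((Scheme.Modules.pullback (p k)).map φ))

include hψ in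
theorem cmpReal_natural :
    (toSchemeMor 𝔛 h p hp).pull.map φ ≫ cmpReal h p hp G = cmpReal h p hp F ≫ ModSys.realModMap h ψ := by
  refine limit.hom_ext fun ⟨k⟩ => ?_
  refine (Category.assoc _ _ _).trans ?_
  refine (congrArg (fun q => (toSchemeMor 𝔛 h p hp).pull.map φ ≫ q) (cmpReal_realProj h p hp G k)).trans ?_
  refine Eq.trans ?_ (Category.assoc _ _ _).symm
  refine Eq.trans ?_ (congrArg (fun q => cmpReal h p hp F ≫ q) (realLimMap_realProj 𝔛 h _ _ k)).symm
  refine Eq.trans ?_ (Category.assoc _ _ _)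
  refine Eq.trans ?_ (congrArg (fun q => q ≫ (levelMor 𝔛 h k).push.map (ψ.app k)) (cmpReal_realProj h p hp F k)).symm
  refine ((toSchemeMor 𝔛 h p hp).adj.homEquiv_naturality_left_symm _ _).symm.trans ?_
  refine Eq.trans ?_ ((toSchemeMor 𝔛 h p hp).adj.homEquiv_naturality_right_symm _ _)
  exact congrArg ((toSchemeMor 𝔛 h p hp).adj.homEquiv _ _).symm (cmpK_natural h p hp φ ψ hψ k)

include hψ in
/-- Injectivity of the completion of an injective map. -/
theorem mono_realModMap [∀ n, IsClosedImmersion (p n)] [IsLocallyNoetherian Y]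
    [Coh.IsQCoh F] [Coh.IsQCoh G] (hG : CohB1.IsFT G) [Mono φ]
    (hpow : ∀ k (U : Y.affineOpens),
      RingHom.ker ((p k).app U.1).hom = RingHom.ker ((p 0).app U.1).hom ^ (k + 1)) :
    Mono (ModSys.realModMap h ψ) := by
  have hinj : ∀ (W : (𝔛.X 0).Opens) (s : MSec ((resSys p hp F).realMod h) W),
      (ModSys.realModMap h ψ).val.app (op W) s = 0 → s = 0 := by
    intro W s hs
    refine eq_zero_of_points _ s fun q hq => ?_
    obtain ⟨O, hO, hOW⟩ := (p 0).isClosedEmbedding.toIsEmbedding.isInducing.isOpen_iff.mp W.isOpen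
    have hqO : (p 0) q ∈ O := by rw [← Set.mem_preimage, hOW]; exact hq
    obtain ⟨U, hU, hqU, hUO⟩ := Opens.isBasis_iff_nbhd.mp Y.isBasis_affineOpens (U := ⟨O, hO⟩) (x := (p 0) q) hqO
    have hW : p 0 ⁻¹ᵁ U ≤ W := fun x hx => by
      have : x ∈ (p 0) ⁻¹' O := hUO hx
      rwa [hOW] at this
    refine ⟨p 0 ⁻¹ᵁ U, hW, hqU, rp_ext h _ _ fun k => ?_⟩
    let R := Γ(Y, U)
    let I : Ideal R := RingHom.ker ((p 0).app U).hom
    have : IsNoetherianRing R := IsLocallyNoetherian.component_noetherian ⟨U, hU⟩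
    have : Module.Finite R Γ(G, U) := QCohLib.finite_of_isFT hG hU
    let f : Γ(F, U) →ₗ[R] Γ(G, U) :=
      { toFun := φ.app U
        map_add' := map_add _
        map_smul' := fun r m => φ.app_smul r m }
    have hf : Function.Injective f := QCohLib.app_injective_of_mono φ U
    obtain ⟨k₀, hk₀⟩ := I.exists_pow_inf_eq_pow_smul (M := Γ(G, U)) (LinearMap.range f)
    have hle : ∀ j, 𝔛.lvU h j (p 0 ⁻¹ᵁ U) ≤ p j ⁻¹ᵁ U := fun j => (lvU_p 𝔛 h p hp j U).ge
    have hker : ∀ (M : Y.Modules) [Coh.IsQCoh M] (j : ℕ),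
        Function.Surjective (KFlatLib.puSecLE (p j) M (hle j)) ∧
          ∀ m : Γ(M, U), KFlatLib.puSecLE (p j) M (hle j) m = 0 ↔
            m ∈ I ^ (j + 1) • (⊤ : Submodule R Γ(M, U)) := by
      intro M _ j
      let α : R →+* Γ(𝔛.X j, 𝔛.lvU h j (p 0 ⁻¹ᵁ U)) := ((p j).appLE U _ (hle j)).hom
      letI := α.toAlgebra
      let P := (Scheme.Modules.pullback (p j)).obj M
      letI : Module R Γ(P, 𝔛.lvU h j (p 0 ⁻¹ᵁ U)) := Module.compHom _ α
      have : IsScalarTower R Γ(𝔛.X j, 𝔛.lvU h j (p 0 ⁻¹ᵁ U)) Γ(P, 𝔛.lvU h j (p 0 ⁻¹ᵁ U)) :=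
        IsScalarTower.of_algebraMap_smul fun _ _ => rfl
      let l : Γ(M, U) →ₗ[R] Γ(P, 𝔛.lvU h j (p 0 ⁻¹ᵁ U)) :=
        { toFun := KFlatLib.puSecLE (p j) M (hle j)
          map_add' := map_add _
          map_smul' := fun r m => KFlatLib.puSecLE_smul (p j) M (hle j) r m }
      have hs : Function.Surjective (algebraMap R Γ(𝔛.X j, 𝔛.lvU h j (p 0 ⁻¹ᵁ U))) :=
        FComplLib.surjective_appLE (p j) _ hU _ _ (lvU_p 𝔛 h p hp j U).symm
      obtain ⟨hsurj, hk⟩ := mem_ker_iff_of_isBaseChange l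
        (KFlatLib.isBaseChange_puSec (p j) M hU (hU.preimage (p j) |> fun e => by
          rwa [lvU_p 𝔛 h p hp j U] at e) (hle j) (fun _ => rfl) l (fun _ => rfl)) hs
      refine ⟨hsurj, fun m => (hk m).trans ?_⟩
      rw [← hpow j ⟨U, hU⟩, show RingHom.ker (algebraMap R Γ(𝔛.X j, 𝔛.lvU h j (p 0 ⁻¹ᵁ U))) =
        RingHom.ker ((p j).app U).hom from
          FModLib.ker_appLE_of_eq (p j) U _ (hle j) (lvU_p 𝔛 h p hp j U)]
    let K := k + k₀
    obtain ⟨a, ha⟩ := (hker F K).1 (rp h _ _ K (p 0 ⁻¹ᵁ U) (FModLib.mres _ hW s))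
    have hψs : (ModSys.realModMap h ψ).val.app (op (p 0 ⁻¹ᵁ U)) (FModLib.mres _ hW s) = 0 :=
      (PresheafOfModules.naturality_apply (ModSys.realModMap h ψ).val (homOfLE hW).op s).trans
        ((congrArg (FModLib.mres _ hW) hs).trans (map_zero _))
    have h0 : KFlatLib.puSecLE (p K) G (hle K) (φ.app U a) = 0 := by
      refine (CohCmpLib.puSecLE_natural (p K) φ (hle K) a).symm.trans ?_
      refine (congrArg (((Scheme.Modules.pullback (p K)).map φ).app _) ha).trans ?_
      rw [← hψ K]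
      refine Eq.trans ?_ ((congrArg (rp h _ _ K (p 0 ⁻¹ᵁ U)) hψs).trans (map_zero _))
      exact congr($(congrArg (fun b : (resSys p hp F).realMod h ⟶ _ => b.val.app (op (p 0 ⁻¹ᵁ U)))
        (realLimMap_realProj 𝔛 h ψ.app (ModSys.Hom.toPush_comm ψ) K)) (FModLib.mres _ hW s)).symm
    have h1 : f a ∈ (I ^ (k + 1 + k₀) • ⊤ ⊓ LinearMap.range f : Submodule R Γ(G, U)) :=
      ⟨by rw [add_right_comm]; exact ((hker G K).2 _).1 h0, ⟨a, rfl⟩⟩
    rw [hk₀ (k + 1 + k₀) (Nat.le_add_left _ _), Nat.add_sub_cancel] at h1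
    have h2 : f a ∈ I ^ (k + 1) • LinearMap.range f := Submodule.smul_mono le_rfl inf_le_right h1
    rw [LinearMap.range_eq_map, ← Submodule.map_smul''] at h2
    obtain ⟨a', ha', he⟩ := h2
    obtain rfl := hf he
    have hdown : ∀ (d j : ℕ) (m : Γ(F, U)),
        rp h _ _ (j + d) (p 0 ⁻¹ᵁ U) (FModLib.mres _ hW s) = KFlatLib.puSecLE (p (j + d)) F (hle _) m →
        rp h _ _ j (p 0 ⁻¹ᵁ U) (FModLib.mres _ hW s) = KFlatLib.puSecLE (p j) F (hle _) m := by
      intro d
      induction d with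
      | zero => exact fun j m hm => hm
      | succ d ih =>
        intro j m hm
        refine ih j m ((rp_succ h _ _ (j + d) _ _).symm.trans ?_)
        exact (congrArg (lvT h _ _ (j + d) _) hm).trans (resSys_lvT h p hp F (j + d) m _ _ _)
    exact (hdown k₀ k a' ha.symm).trans (((hker F k).2 a').2 ha') |>.trans (map_zero _).symm
  refine ⟨fun {P} a b e => SheafOfModules.hom_ext (PresheafOfModules.hom_ext fun W =>
    ModuleCat.hom_ext (LinearMap.ext fun x => ?_))⟩
  refine sub_eq_zero.1 (hinj W.unop _ ((map_sub ((ModSys.realModMap h ψ).val.app W).hom _ _).trans (sub_eq_zero.2 ?_)))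
  exact congr($(congrArg (fun g : P ⟶ _ => g.val.app W) e) x)

include h hp in
/-- The completion of a short exact sequence is short exact. -/
theorem shortExact_realModMap [∀ n, IsClosedImmersion (p n)] [IsLocallyNoetherian Y] (hloc : 𝔛.IsLocNoethFormal)
    (hpow : ∀ k (U : Y.affineOpens),
      RingHom.ker ((p k).app U.1).hom = RingHom.ker ((p 0).app U.1).hom ^ (k + 1))
    (S : ShortComplex Y.Modules) (hS : S.ShortExact) (h1 : Coh.IsCoh S.X₁) (h2 : Coh.IsCoh S.X₂) (h3 : Coh.IsCoh S.X₃)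
    (a : resSys p hp S.X₁ ⟶ resSys p hp S.X₂) (b : resSys p hp S.X₂ ⟶ resSys p hp S.X₃)
    (ha : ∀ k, a.app k = (Scheme.Modules.pullback (p k)).map S.f)
    (hb : ∀ k, b.app k = (Scheme.Modules.pullback (p k)).map S.g) :
    ModSys.realModMap h a ≫ ModSys.realModMap h b = 0 ∧
      ∀ w : ModSys.realModMap h a ≫ ModSys.realModMap h b = 0, (ShortComplex.mk _ _ w).ShortExact := by
  let T := toSchemeMor 𝔛 h p hp
  let P : Y.Modules ⥤ ModF 𝔛 h := T.pull
  have : P.IsLeftAdjoint := T.adj.isLeftAdjoint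
  have hTadd : (T.push).Additive := ⟨fun {_ _ _ _} => rfl⟩
  have : P.Additive := @Adjunction.left_adjoint_additive _ _ _ _ _ _ _ _ T.adj hTadd
  have : PreservesColimitsOfSize.{0, 0} P := T.adj.leftAdjoint_preservesColimits
  obtain ⟨hSe, hSg⟩ := Groth.Agent.ModSiteLib.Snake.exact_epi_map P hS.exact hS.epi_g
  have i : ∀ X : Y.Modules, Coh.IsCoh X → IsIso (cmpReal h p hp X) := fun X hX =>
    isIso_cmpReal h p hp X hloc (QCohLib.isFP_of_isCoh X hX)
  have i1 := i _ h1
  have i2 := i _ h2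
  have i3 := i _ h3
  have c1 := cmpReal_natural h p hp S.f a ha
  have c2 := cmpReal_natural h p hp S.g b hb
  have hw : ModSys.realModMap h a ≫ ModSys.realModMap h b = 0 := by
    refine (cancel_epi (cmpReal h p hp S.X₁)).1 ?_
    refine (Category.assoc _ _ _).symm.trans ((congrArg (fun q => q ≫ ModSys.realModMap h b) c1.symm).trans ?_)
    refine (Category.assoc _ _ _).trans ((congrArg (fun q => P.map S.f ≫ q) c2.symm).trans ?_)
    refine (Category.assoc _ _ _).symm.trans ?_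
    refine (congrArg (fun q => q ≫ cmpReal h p hp S.X₃) ((P.map_comp _ _).symm.trans
      ((congrArg P.map S.zero).trans (P.map_zero _ _)))).trans ?_
    exact zero_comp.trans comp_zero.symm
  refine ⟨hw, fun w => ?_⟩
  let e : S.map P ≅ ShortComplex.mk (ModSys.realModMap h a) (ModSys.realModMap h b) w :=
    ShortComplex.isoMk (@asIso _ _ _ _ (cmpReal h p hp S.X₁) i1) (@asIso _ _ _ _ (cmpReal h p hp S.X₂) i2)
      (@asIso _ _ _ _ (cmpReal h p hp S.X₃) i3)
      c1.symm c2.symm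
  have : Coh.IsQCoh S.X₁ := h1.1
  have : Coh.IsQCoh S.X₂ := h2.1
  have := hS.mono_f
  exact { exact := ShortComplex.exact_of_iso e hSe
          mono_f := mono_realModMap h p hp S.f a ha h2.2 hpow
          epi_g := by
            have : Epi (cmpReal h p hp S.X₂ ≫ ModSys.realModMap h b) := by
              rw [← c2]
              have : Epi ((toSchemeMor 𝔛 h p hp).pull.map S.g) := hSg
              exact epi_comp _ _
            exact epi_of_epi (cmpReal h p hp S.X₂) _ }

end Sys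

end FCohLib

end
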