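import Groth.Agent.FCohLib.AlgzVan
import Groth.Agent.FCohLib.Exact
import Groth.Agent.DevissLib.Stalk

/-!
# Completion along the inverse image of an ideal of definition is faithful for closed morphisms
-/

set_option autoImplicit false
set_option linter.style.haveILetI false
set_option maxHeartbeats 800000

universe u

open CategoryTheory CategoryTheory.Limits AlgebraicGeometry TopologicalSpace Opposite FSch
open FormalLib (rhoA)

noncomputable section

namespace FCohLib

theorem ker_app_completionToX {X : Scheme.{u}} (𝓘 : X.IdealSheafData) (k : ℕ) (U : X.affineOpens) :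
    RingHom.ker ((completionToX X 𝓘 k).app U.1).hom = RingHom.ker ((completionToX X 𝓘 0).app U.1).hom ^ (k + 1) := by
  have hk : ∀ j, RingHom.ker ((completionToX X 𝓘 j).app U.1).hom = 𝓘.ideal U ^ (j + 1) := fun j => by
    rw [← Scheme.Hom.ker_apply, show (completionToX X 𝓘 j).ker = 𝓘 ^ (j + 1) from Scheme.IdealSheafData.ker_subschemeι _,
      Scheme.IdealSheafData.ideal_pow]
    rfl
  rw [hk k, hk 0, zero_add, pow_one]

variable {A : Type u} [CommRing A] [IsNoetherianRing A] (J : Ideal A) [IsAdicComplete J A]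
  {X : Scheme.{u}} [X.Over (Spec (CommRingCat.of A))] [LocallyOfFiniteType (X ↘ Spec (CommRingCat.of A))]
  [QuasiCompact (X ↘ Spec (CommRingCat.of A))]

/-- A coherent module with zero reduction is zero when the morphism is closed. -/
theorem isZero_of_modPow (hf : IsClosedMap (X ↘ Spec (CommRingCat.of A)).base) {K : X.Modules} (hK : Coh.IsCoh K)
    (h0 : IsZero (Formal.modPow J (0 + 1) K)) : IsZero K := by
  have : IsLocallyNoetherian X := LocallyOfFiniteType.isLocallyNoetherian (X ↘ Spec (CommRingCat.of A))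
  have : CompactSpace X := QuasiCompact.compactSpace_of_compactSpace (X ↘ Spec (CommRingCat.of A))
  have : AlgebraicGeometry.IsNoetherian X := {}
  have := hK.1
  refine DevissLib.isZero_of_support_empty ?_
  by_contra hne
  have hcl := hf _ (QCohLib.isClosed_support _ hK.2)
  obtain ⟨m, ⟨x, hxs, hxm⟩, hm⟩ := IsClosed.exists_closed_singleton hcl
    ((Set.nonempty_iff_ne_empty.2 hne).image _)
  have hmax : (((X ↘ Spec (CommRingCat.of A)) x).asIdeal).IsMaximal :=
    (PrimeSpectrum.isClosed_singleton_iff_isMaximal _).1 (hxm.symm ▸ hm)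
  have ha : ∀ a ∈ J, a ∈ ((X ↘ Spec (CommRingCat.of A)) x).asIdeal := fun a ha =>
    ((IsAdicComplete.le_jacobson_bot J).trans (sInf_le ⟨bot_le, hmax⟩)) ha
  obtain ⟨W, hW, hxW⟩ := QCohLib.exists_affine_nhd x
  have := QCohLib.finite_of_isFT hK.2 hW
  have htop : (⊤ : Submodule Γ(X, W) Γ(K, W)) ≤ FormalCohLib.idU J W • ⊤ := fun y _ => by
    have h := (FormalCohLib.app_modPowπ_eq_zero J K (0 + 1) hW y).1
      (congr($(h0.eq_of_tgt (Formal.modPowπ J (0 + 1) K) 0).app W y).trans rfl)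
    rwa [zero_add, pow_one] at h
  obtain ⟨r, hr, hr0⟩ :=
    Submodule.exists_sub_one_mem_and_smul_eq_zero_of_fg_of_le_smul (FormalCohLib.idU J W) ⊤ Module.Finite.fg_top htop
  let P := hW.primeIdealOf ⟨x, hxW⟩
  have hIP : FormalCohLib.idU J W ≤ P.asIdeal := Ideal.map_le_iff_le_comap.2 fun a haJ => by
    show rhoA A W a ∈ P.asIdeal
    by_contra hn
    have h1 : P ∈ hW.fromSpec ⁻¹ᵁ X.basicOpen (rhoA A W a) := by
      rw [hW.fromSpec_preimage_basicOpen]
      exact hn
    have h2 : x ∈ X.basicOpen (rhoA A W a) := by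
      have h1' : hW.fromSpec (hW.primeIdealOf ⟨x, hxW⟩) ∈ X.basicOpen (rhoA A W a) := h1
      rwa [hW.fromSpec_primeIdealOf ⟨x, hxW⟩] at h1'
    have h3 : x ∈ W ⊓ X.basicOpen (Coh.toGlobal (X ↘ Spec (CommRingCat.of A)) a) :=
      (Scheme.basicOpen_res X (Coh.toGlobal (X ↘ Spec (CommRingCat.of A)) a) (homOfLE (le_top : W ≤ ⊤)).op).le h2
    have h4 : x ∈ (X ↘ Spec (CommRingCat.of A)) ⁻¹ᵁ
        (Spec (CommRingCat.of A)).basicOpen ((Scheme.ΓSpecIso (CommRingCat.of A)).inv a) := by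
      rw [Scheme.preimage_basicOpen_top]
      exact h3.2
    rw [basicOpen_eq_of_affine'] at h4
    have h5 : (Scheme.ΓSpecIso (CommRingCat.of A)).hom ((Scheme.ΓSpecIso (CommRingCat.of A)).inv a) = a :=
      congr($((Scheme.ΓSpecIso (CommRingCat.of A)).inv_hom_id) a)
    rw [h5] at h4
    exact h4 (ha a haJ)
  have hrP : r ∉ P.asIdeal := fun h => P.isPrime.ne_top ((Ideal.eq_top_iff_one _).2 (by
    have := sub_mem h (hIP hr)
    rwa [sub_sub_cancel] at this))
  have hsupp : P ∈ Module.support Γ(X, W) Γ(K, W) := (QCohLib.mem_support_iff hW hxW).2 hxs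
  rw [← not_not (a := P ∈ _), Module.notMem_support_iff'] at hsupp
  exact hsupp fun y => ⟨r, hrP, hr0 y trivial⟩

variable {𝓘 : X.IdealSheafData} (h𝓘 : 𝓘 = (FSch.idealSpec A J).comap (X ↘ Spec (CommRingCat.of A)))
  {hX : (completionAlong X 𝓘).IsFormal}

include h𝓘 in
/-- A coherent module is zero when its completion is. -/
theorem isZero_of_realModMap_eq_zero (hf : IsClosedMap (X ↘ Spec (CommRingCat.of A)).base) {K : X.Modules}
    (hK : Coh.IsCoh K) (h : ModSys.realModMap hX (complModMap 𝓘 (𝟙 K)) = 0) : IsZero K := by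
  have : IsLocallyNoetherian X := LocallyOfFiniteType.isLocallyNoetherian (X ↘ Spec (CommRingCat.of A))
  have := hK.1
  let 𝔐 := complMod 𝓘 K
  let hloc := hlocOf 𝓘 hX
  have hp := isIso_projAdj hloc 𝔐 (isCoh_complMod 𝓘 hK) 0
  have h1 : realProj _ hX 𝔐.F 𝔐.toPush 0 = 0 := by
    have e := realLimMap_realProj (completionAlong X 𝓘) hX (G := 𝔐.F) (G' := 𝔐.F) (complModMap 𝓘 (𝟙 K)).app
      (ModSys.Hom.toPush_comm (complModMap 𝓘 (𝟙 K))) 0
    have e2 : realLimMap (completionAlong X 𝓘) hX (complModMap 𝓘 (𝟙 K)).app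
        (ModSys.Hom.toPush_comm (complModMap 𝓘 (𝟙 K))) = 0 := h
    rw [e2, show (complModMap 𝓘 (𝟙 K)).app 0 = 𝟙 _ from
      (Scheme.Modules.pullback (completionToX X 𝓘 0)).map_id K] at e
    exact ((congrArg (fun q => realProj _ hX 𝔐.F 𝔐.toPush 0 ≫ q)
      ((levelMor _ hX 0).push.map_id (𝔐.F 0))).trans (Category.comp_id _)).symm.trans (e.symm.trans zero_comp)
  have h2 : projAdj hloc 𝔐 0 = 0 := by
    show ((levelMor _ _ 0).adj.homEquiv _ _).symm (realProj _ hX 𝔐.F 𝔐.toPush 0) = 0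
    rw [h1, Adjunction.homEquiv_counit, Functor.map_zero]
    exact zero_comp
  have hz : IsZero ((Scheme.Modules.pullback (completionToX X 𝓘 0)).obj K) := by
    rw [IsZero.iff_id_eq_zero]
    have : Epi (projAdj hloc 𝔐 0) := @IsIso.epi_of_iso _ _ _ _ _ hp
    refine (cancel_epi (projAdj hloc 𝔐 0)).1 ?_
    rw [h2]
    exact Limits.zero_comp.trans Limits.zero_comp.symm
  obtain ⟨α, -⟩ := exists_desc_iso J 𝓘 h𝓘 0 K
  exact isZero_of_modPow J hf hK (((Scheme.Modules.pushforward (completionToX X 𝓘 0)).map_isZero hz).of_iso α)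

end FCohLib

end

namespace FCohLib

variable {X : Scheme.{u}} (𝓘 : X.IdealSheafData) (hX : (completionAlong X 𝓘).IsFormal)

theorem realModMap_complModMap_comp {F G H : X.Modules} (a : F ⟶ G) (b : G ⟶ H) :
    ModSys.realModMap hX (complModMap 𝓘 (a ≫ b)) =
      ModSys.realModMap hX (complModMap 𝓘 a) ≫ ModSys.realModMap hX (complModMap 𝓘 b) := by
  rw [← realModMap_comp']
  exact congrArg (ModSys.realModMap hX) (ModSys.Hom.ext (funext fun n => Functor.map_comp _ a b))

theorem realModMap_complModMap_id (F : X.Modules) :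
    ModSys.realModMap hX (complModMap 𝓘 (𝟙 F)) = 𝟙 _ := by
  rw [← realModMap_id']
  exact congrArg (ModSys.realModMap hX)
    (ModSys.Hom.ext (funext fun n => (Scheme.Modules.pullback (completionToX X 𝓘 n)).map_id F))

theorem realModMap_complModMap_zero (F G : X.Modules) :
    ModSys.realModMap hX (complModMap 𝓘 (0 : F ⟶ G)) = 0 := by
  refine limit.hom_ext fun ⟨k⟩ => ?_
  refine (realLimMap_realProj (completionAlong X 𝓘) hX (complModMap 𝓘 (0 : F ⟶ G)).app
    (ModSys.Hom.toPush_comm (complModMap 𝓘 (0 : F ⟶ G))) k).trans ?_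
  have h0 : (complModMap 𝓘 (0 : F ⟶ G)).app k = 0 :=
    (Scheme.Modules.pullback (completionToX X 𝓘 k)).map_zero F G
  rw [h0]
  refine (congrArg (fun q => realProj _ hX _ _ k ≫ q) ?_).trans (Limits.comp_zero.trans Limits.zero_comp.symm)
  exact (levelMor (completionAlong X 𝓘) hX k).push.map_zero _ _

theorem epi_realModMap [IsLocallyNoetherian X] {F G : X.Modules} (hF : Coh.IsCoh F) (hG : Coh.IsCoh G)
    (u : F ⟶ G) [Epi u] : Epi (ModSys.realModMap hX (complModMap 𝓘 u)) := by
  let hp := completionToX_comm X 𝓘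
  have := isIso_cmpReal hX (completionToX X 𝓘) hp F (hlocOf 𝓘 hX) (QCohLib.isFP_of_isCoh F hF)
  have iG := isIso_cmpReal hX (completionToX X 𝓘) hp G (hlocOf 𝓘 hX) (QCohLib.isFP_of_isCoh G hG)
  have c := cmpReal_natural hX (completionToX X 𝓘) hp u (complModMap 𝓘 u) fun k => rfl
  let P : X.Modules ⥤ ModF (completionAlong X 𝓘) hX :=
    (toSchemeMor (completionAlong X 𝓘) hX (completionToX X 𝓘) hp).pull
  have : P.IsLeftAdjoint := (toSchemeMor (completionAlong X 𝓘) hX (completionToX X 𝓘) hp).adj.isLeftAdjoint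
  have h1 : Epi (P.map u) := inferInstance
  have h2 : Epi (cmpReal hX (completionToX X 𝓘) hp F ≫ ModSys.realModMap hX (complModMap 𝓘 u)) :=
    c ▸ @epi_comp _ _ _ _ _ _ h1 _ (@IsIso.epi_of_iso _ _ _ _ _ iG)
  exact @epi_of_epi _ _ _ _ _ (cmpReal hX (completionToX X 𝓘) hp F) _ h2

theorem mono_realModMap' [IsLocallyNoetherian X] {F G : X.Modules} (hF : Coh.IsCoh F) (hG : Coh.IsCoh G)
    (u : F ⟶ G) [Mono u] : Mono (ModSys.realModMap hX (complModMap 𝓘 u)) :=
  have : Coh.IsQCoh F := hF.1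
  have : Coh.IsQCoh G := hG.1
  mono_realModMap hX (completionToX X 𝓘) (completionToX_comm X 𝓘) u (complModMap 𝓘 u) (fun _ => rfl) hG.2
    (ker_app_completionToX 𝓘)

end FCohLib
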