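import Groth.Agent.FCohLib.AlgzPush

/-!
# An algebraisation of the inverse system algebraises the system of modules
-/

set_option autoImplicit false
set_option linter.style.haveILetI false
set_option maxHeartbeats 800000

universe u

open CategoryTheory CategoryTheory.Limits AlgebraicGeometry TopologicalSpace Opposite FSch

noncomputable section

namespace FCohLib

variable {A : Type u} [CommRing A] (I : Ideal A) {X : Scheme.{u}} [X.Over (Spec (CommRingCat.of A))]
  (𝓘 : X.IdealSheafData) (h𝓘 : 𝓘 = (FSch.idealSpec A I).comap (X ↘ Spec (CommRingCat.of A)))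

theorem completion_map_succ (M : X.Modules) (k : ℕ) :
    (Formal.completion I M).map (homOfLE (Nat.le_succ k)).op = Formal.modPowTrans I (k + 1) M :=
  Functor.ofOpSequence_map_homOfLE_succ _ _

/-- Adjoints of an iso of direct images. -/
theorem exists_adjunct_iso {Z Y : Scheme.{u}} (p : Z ⟶ Y) [IsClosedImmersion p] {M Q : Y.Modules} {N : Z.Modules}
    (π : M ⟶ Q) (α : Q ≅ (Scheme.Modules.pushforward p).obj ((Scheme.Modules.pullback p).obj M))
    (hα : π ≫ α.hom = (Scheme.Modules.pullbackPushforwardAdjunction p).unit.app M)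
    (γ : Q ≅ (Scheme.Modules.pushforward p).obj N) :
    ∃ θ : (Scheme.Modules.pullback p).obj M ≅ N,
      (Scheme.Modules.pullbackPushforwardAdjunction p).unit.app M ≫ (Scheme.Modules.pushforward p).map θ.hom =
        π ≫ γ.hom := by
  let adj := Scheme.Modules.pullbackPushforwardAdjunction p
  let φ := α.inv ≫ γ.hom
  have := CycKSuppLib.isIso_counit p ((Scheme.Modules.pullback p).obj M)
  have := CycKSuppLib.isIso_counit p N
  let ε := adj.counit.app ((Scheme.Modules.pullback p).obj M)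
  let ψ : (Scheme.Modules.pullback p).obj M ⟶ N :=
    inv ε ≫ (Scheme.Modules.pullback p).map φ ≫ adj.counit.app N
  have hψ : IsIso ψ := inferInstance
  have h2 : adj.unit.app M ≫ (Scheme.Modules.pushforward p).map ψ = π ≫ γ.hom := by
    have hp : (Scheme.Modules.pushforward p).map ψ = φ := by
      refine (cancel_epi ((Scheme.Modules.pushforward p).map ε)).1 ?_
      rw [← Functor.map_comp]
      show (Scheme.Modules.pushforward p).map (ε ≫ inv ε ≫ _) = _
      rw [IsIso.hom_inv_id_assoc]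
      have e : ((adj.homEquiv _ N).symm φ) = (Scheme.Modules.pullback p).map φ ≫ adj.counit.app N :=
        adj.homEquiv_counit _ _ _
      rw [← e]
      have h3 := adj.homEquiv_unit (X := (Scheme.Modules.pushforward p).obj ((Scheme.Modules.pullback p).obj M))
        (Y := N) ((adj.homEquiv _ N).symm φ)
      rw [Equiv.apply_symm_apply] at h3
      have : IsIso (adj.unit.app ((Scheme.Modules.pushforward p).obj ((Scheme.Modules.pullback p).obj M))) :=
        DevissLib.isIso_unit_of_killed p (CycKSuppLib.killed_push p _)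
      rw [← cancel_epi (adj.unit.app _), ← h3]
      exact ((Category.assoc _ _ _).symm.trans ((congrArg (fun q => q ≫ φ)
        (adj.right_triangle_components _)).trans (Category.id_comp _))).symm
    rw [hp, ← hα]
    exact (Category.assoc _ _ _).trans (congrArg (fun q => π ≫ q) (α.hom_inv_id_assoc γ.hom))
  exact ⟨@asIso _ _ _ _ ψ hψ, h2⟩

/-- Adjuncts of compatible maps are compatible. -/
theorem compat_adjuncts {Z Z' Y : Scheme.{u}} (ι : Z ⟶ Z') (i : Z' ⟶ Y) {j : Z ⟶ Y} (hc : ι ≫ i = j)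
    [IsClosedImmersion j] {M Q₁ Q₀ : Y.Modules} {N : Z'.Modules} {N₀ : Z.Modules}
    {e : (Scheme.Modules.pullback ι).obj N ⟶ N₀} {π₁ : M ⟶ Q₁} {π₀ : M ⟶ Q₀} {T : Q₁ ⟶ Q₀} (hT : π₁ ≫ T = π₀)
    {γ₁ : Q₁ ⟶ (Scheme.Modules.pushforward i).obj N} {γ₀ : Q₀ ⟶ (Scheme.Modules.pushforward j).obj N₀}
    (hn : T ≫ γ₀ = γ₁ ≫ (Scheme.Modules.pushforward i).map
      ((Scheme.Modules.pullbackPushforwardAdjunction ι).unit.app N ≫ (Scheme.Modules.pushforward ι).map e) ≫
        (pushTri ι i hc).hom.app N₀)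
    {θ₁ : (Scheme.Modules.pullback i).obj M ⟶ N} {θ₀ : (Scheme.Modules.pullback j).obj M ⟶ N₀}
    (h₁ : (Scheme.Modules.pullbackPushforwardAdjunction i).unit.app M ≫ (Scheme.Modules.pushforward i).map θ₁ =
      π₁ ≫ γ₁)
    (h₀ : (Scheme.Modules.pullbackPushforwardAdjunction j).unit.app M ≫ (Scheme.Modules.pushforward j).map θ₀ =
      π₀ ≫ γ₀) :
    (Scheme.Modules.pullback ι).map θ₁ ≫ e = (pullTri ι i hc).hom.app M ≫ θ₀ := by
  have h : (pullTri ι i hc).inv.app M ≫ (Scheme.Modules.pullback ι).map θ₁ ≫ e = θ₀ := by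
    refine push_map_injective j ((unit_tri' ι i hc M θ₁ e).symm.trans ?_)
    rw [h₁, h₀, Category.assoc]
    exact (congrArg (fun q => π₁ ≫ q) hn.symm).trans
      ((Category.assoc _ _ _).symm.trans (congrArg (fun q => q ≫ γ₀) hT))
  rw [← h]
  exact (Iso.hom_inv_id_app_assoc (pullTri ι i hc) M _).symm

/-- An isomorphism of systems from levelwise ones. -/
def modSysIso {𝔛 : Sys.{u}} {𝔐 𝔑 : ModSys 𝔛} (θ : ∀ k, 𝔐.F k ≅ 𝔑.F k)
    (hθ : ∀ k, (Scheme.Modules.pullback (𝔛.ι k)).map (θ (k + 1)).hom ≫ (𝔑.e k).hom = (𝔐.e k).hom ≫ (θ k).hom) :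
    𝔐 ≅ 𝔑 where
  hom := ⟨fun k => (θ k).hom, hθ⟩
  inv := ⟨fun k => (θ k).inv, fun k => by
    rw [← cancel_mono (θ k).hom, Category.assoc, ← hθ k, ← Category.assoc, ← Functor.map_comp, Iso.inv_hom_id,
      CategoryTheory.Functor.map_id, Category.id_comp, Category.assoc, Iso.inv_hom_id, Category.comp_id]⟩
  hom_inv_id := ModSys.Hom.ext (funext fun k => (θ k).hom_inv_id)
  inv_hom_id := ModSys.Hom.ext (funext fun k => (θ k).inv_hom_id)

theorem complTransIso_eq (k : ℕ) :
    complTransIso 𝓘 k =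
      pullTri ((completionAlong X 𝓘).ι k) (completionToX X 𝓘 (k + 1)) (completionToX_comm X 𝓘 k) := by
  unfold complTransIso pullTri
  rfl

theorem complMod_e_hom (M : X.Modules) (k : ℕ) :
    ((complMod 𝓘 M).e k).hom =
      (pullTri ((completionAlong X 𝓘).ι k) (completionToX X 𝓘 (k + 1)) (completionToX_comm X 𝓘 k)).hom.app M := by
  rw [complMod_e, Iso.app_hom, complTransIso_eq]

theorem naturality_trans {M : X.Modules} (𝔐 : ModSys (completionAlong X 𝓘))
    (γ : Formal.completion I M ≅ gSys 𝓘 𝔐) (k : ℕ) :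
    Formal.modPowTrans I (k + 1) M ≫ (γ.app (op k)).hom = (γ.app (op (k + 1))).hom ≫ gTr 𝓘 𝔐 k := by
  have hn := γ.hom.naturality (homOfLE (Nat.le_succ k)).op
  rw [completion_map_succ, gSys_map_succ] at hn
  exact hn

include h𝓘 in
/-- **An algebraisation of the inverse system is one of the system of modules.** -/
theorem nonempty_iso_complMod {M : X.Modules} [Coh.IsQCoh M] (𝔐 : ModSys (completionAlong X 𝓘))
    (γ : Formal.completion I M ≅ gSys 𝓘 𝔐) : Nonempty (complMod 𝓘 M ≅ 𝔐) := by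
  choose α hα using fun k => exists_desc_iso I 𝓘 h𝓘 k M
  choose θ hθ using fun k => exists_adjunct_iso (completionToX X 𝓘 k) (Formal.modPowπ I (k + 1) M) (α k) (hα k)
    (γ.app (op k))
  refine ⟨modSysIso (𝔐 := complMod 𝓘 M) θ fun k => ?_⟩
  rw [complMod_e_hom]
  exact compat_adjuncts (N := 𝔐.F (k + 1)) (N₀ := 𝔐.F k) (e := (𝔐.e k).hom)
    (π₁ := Formal.modPowπ I (k + 1 + 1) M) (π₀ := Formal.modPowπ I (k + 1) M) (T := Formal.modPowTrans I (k + 1) M)
    ((completionAlong X 𝓘).ι k) (completionToX X 𝓘 (k + 1)) (completionToX_comm X 𝓘 k)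
    (Formal.modPowπ_trans I (k + 1) M) (γ₁ := (γ.app (op (k + 1))).hom) (γ₀ := (γ.app (op k)).hom)
    (naturality_trans I 𝓘 𝔐 γ k) (hθ (k + 1)) (hθ k)

end FCohLib

end
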