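import Groth.Agent.FCohLib.AlgzIso
import Groth.Agent.FCohLib.Closure
import Groth.Agent.FormalCohLib.ProperSupp

/-!
# Algebraisable modules: the coherent modules with proper support
-/

set_option autoImplicit false
set_option linter.style.haveILetI false
set_option maxHeartbeats 800000

universe u

open CategoryTheory CategoryTheory.Limits AlgebraicGeometry TopologicalSpace Opposite FSch
open FModLib (MSec RSec)

noncomputable section

namespace FCohLib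

theorem isCohF_of_iso {𝔛 : Sys.{u}} {h : 𝔛.IsFormal} {𝔉 𝔊 : ModF 𝔛 h} (e : 𝔉 ≅ 𝔊) (h𝔉 : IsCohF 𝔛 h 𝔉) :
    IsCohF 𝔛 h 𝔊 :=
  (SheafOfModules.isFinitePresentation (ModSite.ringSh (𝔛.Osh h))).prop_of_iso e h𝔉

theorem realModMap_comp' {𝔛 : Sys.{u}} (h : 𝔛.IsFormal) {𝔐 𝔑 𝔓 : ModSys 𝔛} (φ : 𝔐 ⟶ 𝔑) (ψ : 𝔑 ⟶ 𝔓) :
    ModSys.realModMap h (φ ≫ ψ) = ModSys.realModMap h φ ≫ ModSys.realModMap h ψ :=
  limit.hom_ext fun ⟨k⟩ => by
    change realLimMap 𝔛 h _ _ ≫ realProj 𝔛 h _ _ k = (realLimMap 𝔛 h _ _ ≫ realLimMap 𝔛 h _ _) ≫ realProj 𝔛 h _ _ k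
    rw [realLimMap_realProj, Category.assoc, realLimMap_realProj, realLimMap_realProj_assoc,
      show (φ ≫ ψ).app k = φ.app k ≫ ψ.app k from rfl]
    exact congrArg (fun q => realProj 𝔛 h 𝔐.F 𝔐.toPush k ≫ q)
      ((levelMor 𝔛 h k).push.map_comp (φ.app k) (ψ.app k))

theorem realModMap_id' {𝔛 : Sys.{u}} (h : 𝔛.IsFormal) (𝔐 : ModSys 𝔛) :
    ModSys.realModMap h (𝟙 𝔐) = 𝟙 (𝔐.realMod h) :=
  limit.hom_ext fun ⟨k⟩ => by
    change realLimMap 𝔛 h _ _ ≫ realProj 𝔛 h _ _ k = 𝟙 _ ≫ realProj 𝔛 h _ _ k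
    rw [realLimMap_realProj, show (ModSys.Hom.app (𝟙 𝔐) k) = 𝟙 _ from rfl]
    exact ((congrArg (fun q => realProj 𝔛 h 𝔐.F 𝔐.toPush k ≫ q)
      ((levelMor 𝔛 h k).push.map_id (𝔐.F k))).trans (Category.comp_id _)).trans (Category.id_comp _).symm

variable {X : Scheme.{u}} (𝓘 : X.IdealSheafData) {hX : (completionAlong X 𝓘).IsFormal}

/-- The sections over the opens lying off `T` vanish. -/
def VanOff (T : Set X) (𝔉 : ModF (completionAlong X 𝓘) hX) : Prop :=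
  ∀ V : ((completionAlong X 𝓘).X 0).Opens, (∀ q ∈ V, completionToX X 𝓘 0 q ∉ T) → ∀ s : MSec 𝔉 V, s = 0

theorem VanOff.mono {T T' : Set X} {𝔉 : ModF (completionAlong X 𝓘) hX} (h : VanOff 𝓘 T 𝔉) (hT : T ⊆ T') :
    VanOff 𝓘 T' 𝔉 := fun V hV => h V fun q hq hqT => hV q hq (hT hqT)

theorem exists_preimage_open {Z Y : Scheme.{u}} (p : Z ⟶ Y) [IsClosedImmersion p] (V : Z.Opens) {T : Set Y}
    (hT : IsClosed T) (hV : ∀ q ∈ V, p q ∉ T) :
    ∃ W : Y.Opens, Disjoint (W : Set Y) T ∧ p ⁻¹ᵁ W = V := by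
  obtain ⟨O, hO, hO'⟩ := p.isClosedEmbedding.isInducing.isOpen_iff.mp V.2
  refine ⟨⟨O ∩ Tᶜ, hO.inter hT.isOpen_compl⟩, Set.disjoint_left.2 fun y hy => hy.2, Opens.ext (Set.ext fun q => ?_)⟩
  show p q ∈ O ∩ Tᶜ ↔ q ∈ (V : Set Z)
  exact ⟨fun h => (Set.ext_iff.1 hO' q).1 h.1, fun h => ⟨(Set.ext_iff.1 hO' q).2 h, hV q h⟩⟩

/-- A closed subset of a subset proper over the base is proper over the base. -/
theorem isProperOver_of_subset {S : Scheme.{u}} {f : X ⟶ S} [LocallyOfFiniteType f] {T Z : Set X}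
    (hT : ClSub.IsProperOver f T) (hZ : IsClosed Z) (hZT : Z ⊆ T) : ClSub.IsProperOver f Z :=
  ⟨hZ, ProperOverLib.isProper_comp_closedImmersion hT _
    ((ProperOverLib.range_subschemeι_vanishingIdeal ⟨Z, hZ⟩).trans_subset hZT)⟩

theorem hlocOf [IsLocallyNoetherian X] (hX : (completionAlong X 𝓘).IsFormal) :
    (completionAlong X 𝓘).IsLocNoethFormal :=
  ⟨hX, FComplLib.completionAlong_isAdic X 𝓘, (FComplLib.completionAlong_isLocNoethFormal X 𝓘).2.2⟩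

theorem isCoh_complMod [IsLocallyNoetherian X] {F : X.Modules} (hF : Coh.IsCoh F) : (complMod 𝓘 F).IsCoh :=
  fun k => ConsLib.isCoh_pullback (completionToX X 𝓘 k) hF

variable {A : Type u} [CommRing A] (I : Ideal A) [X.Over (Spec (CommRingCat.of A))]
  (h𝓘 : 𝓘 = (FSch.idealSpec A I).comap (X ↘ Spec (CommRingCat.of A)))

include h𝓘 in
theorem support_push_pull_subset [IsLocallyNoetherian X] {F : X.Modules} (hF : Coh.IsCoh F) {T : Set X}
    (hT : IsClosed T) (hs : CohB1.support F ⊆ T) (k : ℕ) :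
    CohB1.support ((Scheme.Modules.pushforward (completionToX X 𝓘 k)).obj
      ((Scheme.Modules.pullback (completionToX X 𝓘 k)).obj F)) ⊆ T := by
  letI := overLevel (A := A) 𝓘 k
  have : Coh.IsQCoh F := hF.1
  have hc := VBResLib.isCoh_push_of_isClosedImmersion (completionToX X 𝓘 k)
    (ConsLib.isCoh_pullback (completionToX X 𝓘 k) hF)
  have := GrSysLib.epi_unit (completionToX X 𝓘 k) rfl (I ^ (k + 1))
    (fun b hb => toGlobal_zero' I 𝓘 h𝓘 k hb) (ker_le_rho' I 𝓘 h𝓘 k) F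
  exact @FormalCohLib.support_subset_of_epi X _ hT _ _ hF.1 hc.1
    ((Scheme.Modules.pullbackPushforwardAdjunction (completionToX X 𝓘 k)).unit.app F) this hs

include h𝓘 in
/-- The completion of a module vanishes off its support. -/
theorem vanOff_realMod [IsLocallyNoetherian X] {F : X.Modules} (hF : Coh.IsCoh F) {T : Set X} (hT : IsClosed T)
    (hs : CohB1.support F ⊆ T) : VanOff 𝓘 T ((complMod 𝓘 F).realMod hX) := by
  intro V hV s
  obtain ⟨W, hW, rfl⟩ := exists_preimage_open (completionToX X 𝓘 0) V hT hV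
  refine rp_ext hX _ _ fun k => Eq.trans ?_ (map_zero _).symm
  have e := lvU_p (completionAlong X 𝓘) hX (completionToX X 𝓘) (completionToX_comm X 𝓘) k W
  have key : ∀ U : ((completionAlong X 𝓘).X k).Opens, completionToX X 𝓘 k ⁻¹ᵁ W = U →
      ∀ t : Γ((complMod 𝓘 F).F k, U), t = 0 := fun U hU t => by
    subst hU
    exact FormalCohLib.eq_zero_of_support (support_push_pull_subset 𝓘 I h𝓘 hF hT hs k) (W := W) hW t
  exact key _ e _

omit [X.Over (Spec (CommRingCat.of A))] in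
/-- The first level of a coherent module vanishing off `T` is supported in `T`. -/
theorem support_level_zero [IsLocallyNoetherian X] {𝔉 : ModF (completionAlong X 𝓘) hX}
    (h𝔉 : IsCohF (completionAlong X 𝓘) hX 𝔉) {T : Set X} (hT : IsClosed T) (hv : VanOff 𝓘 T 𝔉) :
    CohB1.support ((Scheme.Modules.pushforward (completionToX X 𝓘 0)).obj
      (FModLib.lev (hlocOf 𝓘 hX).1 𝔉 0)) ⊆ T := by
  have : Coh.IsQCoh (FModLib.lev (hlocOf 𝓘 hX).1 𝔉 0) := (FModLib.isCoh_lev _ 𝔉 h𝔉 0).1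
  refine FormalCohLib.support_subset_of_affine hT fun W hW hd t => ?_
  have hV : IsAffineOpen (completionToX X 𝓘 0 ⁻¹ᵁ W) := hW.preimage _
  obtain ⟨ι, κ, _, _, ⟨D⟩⟩ := exists_presOn (hlocOf 𝓘 hX) h𝔉 hV
  have key : ∀ U : ((completionAlong X 𝓘).X 0).Opens,
      (completionAlong X 𝓘).lvU hX 0 (completionToX X 𝓘 0 ⁻¹ᵁ W) = U →
      ∀ t : Γ(FModLib.lev (hlocOf 𝓘 hX).1 𝔉 0, U), t = 0 := fun U hU t => by
    subst hU
    obtain ⟨b, rfl⟩ := FModLib.exists_gen (hlocOf 𝓘 hX) 𝔉 D hV le_rfl 0 t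
    rw [hv _ (fun q hq => Set.disjoint_left.1 hd hq) (FModLib.lc 𝔉 le_rfl D.e b)]
    exact map_zero _
  exact key _ (lvU_p (completionAlong X 𝓘) hX (completionToX X 𝓘) (completionToX_comm X 𝓘) 0 W).symm t

end FCohLib

namespace FCohLib

variable {A : Type u} [CommRing A] [IsNoetherianRing A] (J : Ideal A) [IsAdicComplete J A]
  {X : Scheme.{u}} (f : X ⟶ Spec (CommRingCat.of A)) [IsSeparated f] [LocallyOfFiniteType f] [QuasiCompact f]
  {𝓘 : X.IdealSheafData} (h𝓘 : 𝓘 = (FSch.idealSpec A J).comap f) {hX : (completionAlong X 𝓘).IsFormal}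

/-- Algebraisable: isomorphic to the completion of a coherent module with proper support. -/
def Algz (𝔉 : ModF (completionAlong X 𝓘) hX) : Prop :=
  ∃ G : X.Modules, Coh.IsCoh G ∧ ClSub.IsProperOver f (CohB1.support G) ∧
    Nonempty (𝔉 ≅ (FSch.complMod 𝓘 G).realMod hX)

include h𝓘 in
/-- **Coherent modules vanishing off a subset proper over the base are algebraisable.** -/
theorem algz_of_vanOff {𝔉 : ModF (completionAlong X 𝓘) hX} (h𝔉 : IsCohF (completionAlong X 𝓘) hX 𝔉) {T : Set X}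
    (hT : ClSub.IsProperOver f T) (hv : VanOff 𝓘 T 𝔉) : Algz f 𝔉 := by
  letI : X.Over (Spec (CommRingCat.of A)) := ⟨f⟩
  have : IsSeparated (X ↘ Spec (CommRingCat.of A)) := ‹IsSeparated f›
  have : LocallyOfFiniteType (X ↘ Spec (CommRingCat.of A)) := ‹LocallyOfFiniteType f›
  have : QuasiCompact (X ↘ Spec (CommRingCat.of A)) := ‹QuasiCompact f›
  have : IsLocallyNoetherian X := LocallyOfFiniteType.isLocallyNoetherian f
  have h' : 𝓘 = (FSch.idealSpec A J).comap (X ↘ Spec (CommRingCat.of A)) := h𝓘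
  let 𝔐 : ModSys (completionAlong X 𝓘) := levSys (hlocOf 𝓘 hX) 𝔉
  have h𝔐 : 𝔐.IsCoh := isCoh_levSys (hlocOf 𝓘 hX) h𝔉
  have hG := isCohFormal_gSys J 𝓘 h' 𝔐 h𝔐
  have hZ : IsClosed (CohB1.support ((gSys 𝓘 𝔐).obj (op 0))) := QCohLib.isClosed_support _ (hG.1 0).2
  have hGs : ClSub.IsProperOver (X ↘ Spec (CommRingCat.of A)) (CohB1.support ((gSys 𝓘 𝔐).obj (op 0))) :=
    isProperOver_of_subset (f := X ↘ Spec (CommRingCat.of A)) hT hZ (support_level_zero 𝓘 h𝔉 hT.1 hv)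
  obtain ⟨M, hM, hMs, ⟨γ⟩⟩ := FormalCohLib.exists_algebraisation_properSupport J X hG hGs
  have : Coh.IsQCoh M := hM.1
  obtain ⟨ε⟩ := nonempty_iso_complMod J 𝓘 h' 𝔐 γ
  have := isIso_etaReal (hlocOf 𝓘 hX) h𝔉
  refine ⟨M, hM, hMs, ⟨asIso (etaReal (hlocOf 𝓘 hX) 𝔉) ≪≫
    { hom := ModSys.realModMap hX ε.inv
      inv := ModSys.realModMap hX ε.hom
      hom_inv_id := by rw [← realModMap_comp', ε.inv_hom_id, realModMap_id']
      inv_hom_id := by rw [← realModMap_comp', ε.hom_inv_id, realModMap_id'] }⟩⟩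

omit [IsNoetherianRing A] [IsAdicComplete J A] [IsSeparated f] [LocallyOfFiniteType f] [QuasiCompact f] in
theorem vanOff_of_iso {𝔉 𝔊 : ModF (completionAlong X 𝓘) hX} (e : 𝔉 ≅ 𝔊) {T : Set X} (h : VanOff 𝓘 T 𝔊) :
    VanOff 𝓘 T 𝔉 := fun V hV s => by
  have h1 : e.inv.val.app (op V) (e.hom.val.app (op V) s) = s :=
    congr($(congrArg (fun a : 𝔉 ⟶ 𝔉 => a.val.app (op V)) e.hom_inv_id) s)
  rw [← h1, h V hV (e.hom.val.app (op V) s), map_zero]

omit [IsAdicComplete J A] [IsSeparated f] in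
include h𝓘 in
/-- **An algebraisable module is coherent and vanishes off a subset proper over the base.** -/
theorem Algz.elim {𝔉 : ModF (completionAlong X 𝓘) hX} (h : Algz f 𝔉) :
    IsCohF (completionAlong X 𝓘) hX 𝔉 ∧ ∃ T, ClSub.IsProperOver f T ∧ VanOff 𝓘 T 𝔉 := by
  letI : X.Over (Spec (CommRingCat.of A)) := ⟨f⟩
  have : IsLocallyNoetherian X := LocallyOfFiniteType.isLocallyNoetherian f
  obtain ⟨G, hG, hGs, ⟨e⟩⟩ := h
  exact ⟨isCohF_of_iso e.symm (isCohF_realMod (hlocOf 𝓘 hX) _ (isCoh_complMod 𝓘 hG)), _, hGs,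
    vanOff_of_iso e (vanOff_realMod 𝓘 J (show 𝓘 = (FSch.idealSpec A J).comap (X ↘ Spec (CommRingCat.of A)) from h𝓘)
      hG hGs.1 subset_rfl)⟩

end FCohLib

end

namespace FCohLib

open FModLib (MSec)

variable {X : Scheme.{u}} {𝓘 : X.IdealSheafData} {hX : (completionAlong X 𝓘).IsFormal}
  {𝔉 𝔊 : ModF (completionAlong X 𝓘) hX}

/-- Quotients vanish where the module does. -/
theorem VanOff.of_epi {T : Set X} (h : VanOff 𝓘 T 𝔉) (π : 𝔉 ⟶ 𝔊) [Epi π] : VanOff 𝓘 T 𝔊 := fun V hV s => by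
  refine eq_zero_of_points 𝔊 s fun p hp => ?_
  obtain ⟨W₀, g, ⟨x', hx'⟩, hpW⟩ := exists_of_loc_opens (_root_.ModSiteLib.loc_of_epi π (V := V) s) hp
  refine ⟨W₀, g.le, hpW, ?_⟩
  refine Eq.trans ?_ (((congrArg (π.val.app (op W₀)) (h W₀ (fun q hq => hV q (g.le hq)) x')).trans (map_zero _)))
  exact hx'.symm

/-- Submodules vanish where the module does. -/
theorem VanOff.of_mono {T : Set X} (h : VanOff 𝓘 T 𝔊) (ι : 𝔉 ⟶ 𝔊) [Mono ι] : VanOff 𝓘 T 𝔉 := fun V hV s => by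
  have hk : IsZero (kernel ι) := isZero_kernel_of_mono ι
  obtain ⟨r, hr⟩ := _root_.ModSiteLib.exists_kernel_section ι V s (h V hV _)
  refine hr.symm.trans ?_
  exact congr($(congrArg (fun a : kernel ι ⟶ 𝔉 => a.val.app (op V)) (hk.eq_of_src (kernel.ι ι) 0)) r)

/-- A module is zero where a map out of it and its kernel are. -/
theorem VanOff.of_kernel {T : Set X} (u : 𝔉 ⟶ 𝔊) (hk : VanOff 𝓘 T (kernel u)) (h : VanOff 𝓘 T 𝔊) : VanOff 𝓘 T 𝔉 :=
  fun V hV s => by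
    obtain ⟨r, hr⟩ := _root_.ModSiteLib.exists_kernel_section u V s (h V hV _)
    exact hr.symm.trans ((congrArg _ (hk V hV r)).trans (map_zero _))

end FCohLib
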