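import Groth.Agent.FCohLib.AffMod
import Groth.Agent.FCohLib.Algebra
import Groth.Agent.QCohLib.AffineFinite

/-!
# Generators and relations of a coherent system over an affine open
-/

set_option autoImplicit false
set_option linter.style.haveILetI false
set_option maxHeartbeats 800000

universe u

open CategoryTheory CategoryTheory.Limits AlgebraicGeometry TopologicalSpace Opposite FSch
open FModLib (MSec RSec oK secSys toLim)

noncomputable section

namespace FCohLib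

variable {𝔛 : Sys.{u}} (hloc : 𝔛.IsLocNoethFormal) (𝔐 : ModSys 𝔛)

/-- The levels of a coherent system over an affine open are presented by finitely many compatible sections. -/
theorem exists_data (h𝔐 : 𝔐.IsCoh) {V : (𝔛.X 0).Opens} (hV : IsAffineOpen V) :
    ∃ (ι κ : Type u) (_ : Fintype ι) (_ : Fintype κ) (ek : ι → ∀ k, Γ(𝔐.F k, 𝔛.lvU hloc.1 k V))
      (r : κ → ι → RSec (𝔛.Osh hloc.1) V),
      (∀ i k, lvT hloc.1 𝔐.F 𝔐.toPush k V (ek i (k + 1)) = ek i k) ∧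
      (∀ j k, ∑ i, (show Γ(𝔛.X k, 𝔛.lvU hloc.1 k V) from oK hloc.1 k V (r j i)) • ek i k = 0) ∧
      (∀ k (m : Γ(𝔐.F k, 𝔛.lvU hloc.1 k V)), ∃ c : ι → Γ(𝔛.X k, 𝔛.lvU hloc.1 k V), ∑ i, c i • ek i k = m) ∧
      ∀ k (c : ι → Γ(𝔛.X k, 𝔛.lvU hloc.1 k V)), ∑ i, c i • ek i k = 0 →
        ∃ d : κ → Γ(𝔛.X k, 𝔛.lvU hloc.1 k V),
          ∀ i, c i = ∑ j, d j * (show Γ(𝔛.X k, 𝔛.lvU hloc.1 k V) from oK hloc.1 k V (r j i)) := by
  classical
  have hq : ∀ k, Coh.IsQCoh (𝔐.F k) := fun k => (h𝔐 k).1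
  let 𝔸 := secSys hloc.1 V hV
  obtain ⟨I, hN, hA, hI⟩ := FModLib.exists_adic_lim hloc.1 V hV hloc
  let M : ℕ → Type u := fun k => Γ(𝔐.F k, 𝔛.lvU hloc.1 k V)
  let pr : ∀ k, 𝔸.lim →+* Γ(𝔛.X k, 𝔛.lvU hloc.1 k V) := fun k => 𝔸.proj k
  letI modM : ∀ k, Module 𝔸.lim (M k) := fun k => Module.compHom Γ(𝔐.F k, 𝔛.lvU hloc.1 k V) (pr k)
  let f : ∀ k, M (k + 1) →ₗ[𝔸.lim] M k := fun k =>
    { toFun := lvT hloc.1 𝔐.F 𝔐.toPush k V
      map_add' := lvT_add hloc.1 𝔐.F 𝔐.toPush k V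
      map_smul' := fun x m => (lvT_smul hloc.1 𝔐.F 𝔐.toPush k V (pr (k + 1) x) m).trans
        (congrArg (fun a : Γ(𝔛.X k, 𝔛.lvU hloc.1 k V) => a • lvT hloc.1 𝔐.F 𝔐.toPush k V m) (x.2 k)) }
  have hker : ∀ k, LinearMap.ker (f k) = I ^ (k + 1) • (⊤ : Submodule 𝔸.lim (M (k + 1))) := fun k => by
    refine le_antisymm (fun m hm => ?_) (Submodule.smul_le.2 fun x hx m _ => ?_)
    · refine Submodule.smul_induction_on (((affine_lvT hloc.1 𝔐 hV k).2 m).1 hm) (fun c hc y _ => ?_)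
        (fun a b ha hb => add_mem ha hb)
      obtain ⟨x, rfl⟩ := 𝔸.proj_surjective (k + 1) c
      exact Submodule.smul_mem_smul (show x ∈ I ^ (k + 1) by
        rw [← hI k, RingHom.mem_ker]; exact (x.2 k).symm.trans hc) (Submodule.mem_top (x := (y : M (k + 1))))
    · have hx0 : 𝔸.proj k x = 0 := by rw [← RingHom.mem_ker, hI k]; exact hx
      exact ((affine_lvT hloc.1 𝔐 hV k).2 _).2 (Submodule.smul_mem_smul
        (show pr (k + 1) x ∈ lvK hloc.1 k V from (x.2 k).trans hx0) trivial)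
  have h0 : Module.Finite 𝔸.lim (M 0) := by
    have := QCohLib.finite_of_isFT (h𝔐 0).2 (FModLib.isAffineOpen_lvU hloc.1 hV 0)
    obtain ⟨n, s, hs⟩ := Module.Finite.exists_fin (R := Γ(𝔛.X 0, 𝔛.lvU hloc.1 0 V)) (M := Γ(𝔐.F 0, 𝔛.lvU hloc.1 0 V))
    refine ⟨Submodule.fg_iff_exists_fin_generating_family.2 ⟨n, (s : Fin n → M 0), eq_top_iff.2 fun m _ => ?_⟩⟩
    obtain ⟨c, hc⟩ := (Submodule.mem_span_range_iff_exists_fun _).1 (hs.ge (Submodule.mem_top (x := m)))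
    choose x hx using fun i => 𝔸.proj_surjective 0 (c i)
    refine (Submodule.mem_span_range_iff_exists_fun _).2 ⟨x, Eq.trans ?_ hc⟩
    exact Finset.sum_congr rfl fun i _ => congrArg (fun a : Γ(𝔛.X 0, 𝔛.lvU hloc.1 0 V) => a • s i) (hx i)
  obtain ⟨n, m, e, r, he, hr, hg, hx⟩ := exists_pres_of_system I M f (fun k => (affine_lvT hloc.1 𝔐 hV k).1) hker h0
  choose r' hr' using fun j i => (FModLib.toLim_bijective hloc.1 V hV).2 (r j i)
  have hrk : ∀ k j i, oK hloc.1 k V (r' j i) = pr k (r j i) := fun k j i => congrArg (pr k) (hr' j i)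
  refine ⟨ULift.{u} (Fin n), ULift.{u} (Fin m), inferInstance, inferInstance, fun i => e i.down,
    fun j i => r' j.down i.down, fun i k => he i.down k, fun j k => ?_, fun k y => ?_, fun k c hc => ?_⟩
  · refine Eq.trans ?_ (hr j.down k)
    exact Fintype.sum_equiv Equiv.ulift _ _ fun i =>
      congrArg (fun a : Γ(𝔛.X k, 𝔛.lvU hloc.1 k V) => a • (show Γ(𝔐.F k, 𝔛.lvU hloc.1 k V) from e i.down k)) (hrk k j.down i.down)
  · obtain ⟨c, hc⟩ := hg k y
    exact ⟨fun i => pr k (c i.down), (Fintype.sum_equiv Equiv.ulift _ _ fun i => rfl).trans hc⟩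
  · choose x hxc using fun i : Fin n => 𝔸.proj_surjective k (c ⟨i⟩)
    obtain ⟨d, hd⟩ := hx k x (Eq.trans (Fintype.sum_equiv Equiv.ulift _ _ fun i =>
      (congrArg (fun a : Γ(𝔛.X k, 𝔛.lvU hloc.1 k V) => a • (show Γ(𝔐.F k, 𝔛.lvU hloc.1 k V) from e i.down k))
        (hxc i.down)).symm).symm hc)
    refine ⟨fun j => pr k (d j.down), fun i => ?_⟩
    have h1 : pr k (x i.down) = pr k (∑ j, d j * r j i.down) := by
      rw [← sub_eq_zero, ← map_sub]
      exact (RingHom.mem_ker (f := pr k)).1 ((hI k).ge (hd i.down))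
    refine (hxc i.down).symm.trans (h1.trans ?_)
    refine (map_sum (pr k) _ _).trans (Eq.symm (Fintype.sum_equiv Equiv.ulift _ _ fun j => ?_))
    exact (congrArg (fun a => pr k (d j.down) * a) (hrk k j.down i.down)).trans (map_mul (pr k) _ _).symm

end FCohLib

end
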