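import Groth.Agent.FModLib.LocPres
import Groth.Agent.QCohLib.AffineFinite

/-!
# A presentation of the sections over an affine open presents the module
-/

set_option autoImplicit false
set_option maxHeartbeats 400000

universe u

open CategoryTheory CategoryTheory.Limits TopologicalSpace Opposite AlgebraicGeometry QCohLib

namespace FCohLib

/-- Generators and relations of the sections over an affine open present a quasi-coherent module. -/
theorem locPres_of_span {X : Scheme.{u}} (M : X.Modules) [Coh.IsQCoh M] {U : X.Opens} (hU : IsAffineOpen U)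
    {ι κ : Type u} [Fintype ι] [Fintype κ] (e : ι → Γ(M, U)) (r : κ → ι → Γ(X, U))
    (hrel : ∀ j, ∑ i, r j i • e i = 0)
    (hgen : ∀ m : Γ(M, U), ∃ c : ι → Γ(X, U), ∑ i, c i • e i = m)
    (hex : ∀ c : ι → Γ(X, U), ∑ i, c i • e i = 0 → ∃ d : κ → Γ(X, U), ∀ i, c i = ∑ j, d j * r j i) :
    FModLib.LocPres (O := X.sheaf) M U e r where
  rel j := by
    refine Eq.trans (Finset.sum_congr rfl fun i _ => ?_) (hrel j)
    exact congrArg (fun z : Γ(M, U) => r j i • z) ((congrArg (fun q => M.presheaf.map q (e i)) (Subsingleton.elim _ (𝟙 _))).trans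
      (congr($(M.presheaf.map_id (op U)) (e i))))
  gen V hV s p hp := by
    obtain ⟨W, hW, hWU, hpW, c, hc⟩ := genOn_of_span hU e (eq_top_iff.mpr fun m _ => by
      obtain ⟨c, rfl⟩ := hgen m
      exact Submodule.sum_mem _ fun i _ => Submodule.smul_mem _ _ (Submodule.subset_span ⟨i, rfl⟩)) V hV s p hp
    exact ⟨W, hW, c, hpW, hc⟩
  ex V hV c₀ hc p hp := by
    classical
    let c : ι → Γ(X, V) := c₀
    obtain ⟨g, hgV, hpg⟩ := exists_basicOpen_nhd hU hp (hV hp)
    have hext : ∀ i, ∃ (n : ℕ) (a : Γ(X, U)),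
        X.presheaf.map (homOfLE (X.basicOpen_le g)).op a =
          (X.presheaf.map (homOfLE (X.basicOpen_le g)).op g) ^ n * X.presheaf.map (homOfLE hgV).op (c i) := fun i =>
      (@localizingAt_of_isQCoh _ _ hU (Coh.structureModule X) isQCoh_unit g).exists_extend _
    choose n a ha using hext
    let E := Finset.univ.sup n
    have heq : M.presheaf.map (homOfLE (X.basicOpen_le g)).op (∑ i, (g ^ (E - n i) * a i) • e i) = 0 := by
      have hc' : M.presheaf.map (homOfLE hgV).op (∑ i, c i • M.presheaf.map (homOfLE hV).op (e i)) = 0 :=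
        (congrArg (M.presheaf.map (homOfLE hgV).op) hc).trans (map_zero _)
      rw [map_sum] at hc'
      rw [map_sum]
      refine Eq.trans ?_ ((congrArg (fun z => X.presheaf.map (homOfLE (X.basicOpen_le g)).op g ^ E • z) hc').trans (smul_zero _))
      rw [Finset.smul_sum]
      refine Finset.sum_congr rfl fun i _ => ?_
      rw [map_smul', map_smul', map_map', map_mul, map_pow, ha, ← mul_smul, ← mul_assoc, ← pow_add,
        Nat.sub_add_cancel (Finset.le_sup (Finset.mem_univ i))]
      rfl
    obtain ⟨m, hm⟩ := (localizingAt_of_isQCoh hU M g).eq_zero _ heq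
    simp only [homOfLE_refl, op_id, CategoryTheory.Functor.map_id] at hm
    obtain ⟨d, hd⟩ := hex (fun i => g ^ m * (g ^ (E - n i) * a i)) (by
      refine Eq.trans ?_ hm
      refine (Finset.sum_congr rfl fun i _ => mul_smul (g ^ m) _ (e i)).trans ?_
      exact Finset.smul_sum.symm)
    obtain ⟨u, hu⟩ := (isUnit_res g (le_refl (X.basicOpen g))).pow (m + E)
    let d' : κ → Γ(X, X.basicOpen g) := fun j =>
      (↑u⁻¹ : Γ(X, X.basicOpen g)) * X.presheaf.map (homOfLE (X.basicOpen_le g)).op (d j)
    refine ⟨X.basicOpen g, hgV, d', hpg, fun i => ?_⟩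
    have h1 := congrArg (X.presheaf.map (homOfLE (X.basicOpen_le g)).op) (hd i)
    rw [map_sum, map_mul, map_pow, map_mul, map_pow, ha, ← mul_assoc (_ ^ (E - n i)), ← pow_add,
      Nat.sub_add_cancel (Finset.le_sup (Finset.mem_univ i)), ← mul_assoc, ← pow_add, ← hu] at h1
    have h2 := congrArg (fun z => (↑u⁻¹ : Γ(X, X.basicOpen g)) * z) h1
    simp only [← mul_assoc, Units.inv_mul, one_mul, Finset.mul_sum] at h2
    refine Eq.trans h2 (Finset.sum_congr rfl fun j _ => ?_)
    rw [map_mul, ← mul_assoc]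
    rfl

end FCohLib
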