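import Groth.Agent.FCohLib.CohData
import Groth.Agent.FCohLib.SpanPres
import Groth.Agent.FModLib.LimSec

/-!
# The limit of a coherent system is presented by compatible sections
-/

set_option autoImplicit false
set_option linter.style.haveILetI false
set_option maxHeartbeats 800000

universe u

open CategoryTheory CategoryTheory.Limits AlgebraicGeometry TopologicalSpace Opposite FSch
open FModLib (MSec RSec oK mres rres lc LocPres)

noncomputable section

namespace FCohLib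

variable {𝔛 : Sys.{u}} (hloc : 𝔛.IsLocNoethFormal) (G : ∀ k, (𝔛.X k).Modules)
  (t : ∀ k, G (k + 1) ⟶ (Scheme.Modules.pushforward (𝔛.ι k)).obj (G k))
  {U : (𝔛.X 0).Opens} {ι κ : Type u} [Fintype ι] [Fintype κ]
  (e : ι → MSec (realLim 𝔛 hloc.1 G t) U) (r : κ → ι → RSec (𝔛.Osh hloc.1) U)

/-- Presentations of all levels. -/
def PresLev : Prop :=
  ∀ k, LocPres (O := (𝔛.X k).sheaf) (G k) (𝔛.lvU hloc.1 k U) (fun i => rp hloc.1 G t k U (e i))
    fun j i => oK hloc.1 k U (r j i)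

variable {e r}

theorem rp_lc (k : ℕ) {V : (𝔛.X 0).Opens} (hVU : V ≤ U) (e : ι → MSec (realLim 𝔛 hloc.1 G t) U)
    (b : ι → RSec (𝔛.Osh hloc.1) V) :
    rp hloc.1 G t k V (lc (realLim 𝔛 hloc.1 G t) hVU e b) =
      lc (O := (𝔛.X k).sheaf) (G k) ((Opens.map (𝔛.gInv hloc.1 k)).monotone hVU) (fun i => rp hloc.1 G t k U (e i))
        fun i => oK hloc.1 k V (b i) := by
  refine (map_sum ((realProj 𝔛 hloc.1 G t k).val.app (op V)).hom _ _).trans (Finset.sum_congr rfl fun i _ => ?_)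
  exact (rp_smul hloc.1 G t k (b i) _).trans
    (congrArg (fun z : MSec (G k) (𝔛.lvU hloc.1 k V) => oK hloc.1 k V (b i) • z) (rp_mres hloc.1 G t k hVU (e i)))

theorem rel_real (P : PresLev hloc G t e r) (j : κ) : lc (realLim 𝔛 hloc.1 G t) le_rfl e (r j) = 0 :=
  rp_ext hloc.1 G t fun k =>
    (rp_lc hloc G t k le_rfl e (r j)).trans (((P k).rel j).trans (map_zero _).symm)

theorem lc_relations {X : TopCat.{u}} {O : Sheaf (Opens.grothendieckTopology X) CommRingCat.{u}}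
    (M : ModSite.Mod O) {U V : Opens X} (hVU : V ≤ U) (e : ι → MSec M U) (r : κ → ι → RSec O U)
    (hr : ∀ j, lc M le_rfl e (r j) = 0) (d : κ → RSec O V) :
    lc M hVU e (fun i => ∑ j, d j * rres O hVU (r j i)) = 0 := by
  have hj : ∀ j, lc M hVU e (fun i => rres O hVU (r j i)) = 0 := fun j =>
    (FModLib.mres_lc M hVU le_rfl e (r j)).symm.trans ((congrArg (mres M hVU) (hr j)).trans (map_zero _))
  have h1 : lc M hVU e (fun i => ∑ j, d j * rres O hVU (r j i)) =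
      ∑ j, d j • lc M hVU e fun i => rres O hVU (r j i) := by
    refine (Finset.sum_congr rfl fun i _ => Finset.sum_smul).trans (Finset.sum_comm.trans ?_)
    refine Finset.sum_congr rfl fun j _ => ?_
    refine Eq.trans ?_ Finset.smul_sum.symm
    exact Finset.sum_congr rfl fun i _ => mul_smul (d j) (rres O hVU (r j i)) (mres M hVU (e i))
  exact h1.trans (Finset.sum_eq_zero fun j _ => (congrArg (fun z => d j • z) (hj j)).trans (smul_zero _))

theorem lc_add_relations {X : TopCat.{u}} {O : Sheaf (Opens.grothendieckTopology X) CommRingCat.{u}}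
    (M : ModSite.Mod O) {U V : Opens X} (hVU : V ≤ U) (e : ι → MSec M U) (r : κ → ι → RSec O U)
    (hr : ∀ j, lc M le_rfl e (r j) = 0) (a : ι → RSec O V) (d : κ → RSec O V) :
    lc M hVU e (a + fun i => ∑ j, d j * rres O hVU (r j i)) = lc M hVU e a :=
  (FModLib.lc_add M hVU e a _).trans
    ((congrArg (fun z => lc M hVU e a + z) (lc_relations M hVU e r hr d)).trans (add_zero _))

theorem lc_add_rel {V : (𝔛.X 0).Opens} (hVU : V ≤ U) (P : PresLev hloc G t e r) (a : ι → RSec (𝔛.Osh hloc.1) V)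
    (d : κ → RSec (𝔛.Osh hloc.1) V) :
    lc (realLim 𝔛 hloc.1 G t) hVU e (a + fun i => ∑ j, d j * rres (𝔛.Osh hloc.1) hVU (r j i)) =
      lc (realLim 𝔛 hloc.1 G t) hVU e a :=
  lc_add_relations (realLim 𝔛 hloc.1 G t) hVU e r (rel_real hloc G t P) a d

variable [∀ k, Coh.IsQCoh (G k)] {V : (𝔛.X 0).Opens} (hV : IsAffineOpen V) (hVU : V ≤ U)

include hV hVU in
theorem exists_genLev (P : PresLev hloc G t e r) (k : ℕ) (m : MSec (G k) (𝔛.lvU hloc.1 k V)) :
    ∃ b : ι → RSec (𝔛.Osh hloc.1) V, rp hloc.1 G t k V (lc (realLim 𝔛 hloc.1 G t) hVU e b) = m := by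
  have hW := (Opens.map (𝔛.gInv hloc.1 k)).monotone hVU
  obtain ⟨c, hc⟩ := FModLib.exists_comb_of_local (G k) (FModLib.isAffineOpen_lvU hloc.1 hV k) (ι := PUnit.{u + 1})
    (fun i _ => mres (O := (𝔛.X k).sheaf) (G k) hW (rp hloc.1 G t k U (e i))) (fun _ => m) fun p hp => by
      obtain ⟨W, hWV, c, hpW, hc⟩ := (P k).gen _ hW m p hp
      refine ⟨W, hWV, c, hpW, fun _ => hc.trans (Finset.sum_congr rfl fun i _ => ?_)⟩
      exact congrArg (fun z : MSec (O := (𝔛.X k).sheaf) (G k) W => c i • z) (FModLib.mres_mres (G k) hWV hW _).symm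
  choose b hb using fun i => FModLib.oK_surjective hloc hV k (c i)
  refine ⟨b, (rp_lc hloc G t k hVU e b).trans (Eq.trans ?_ (hc PUnit.unit).symm)⟩
  exact Finset.sum_congr rfl fun i _ => congrArg (fun a : RSec (𝔛.X k).sheaf (𝔛.lvU hloc.1 k V) =>
    a • mres (O := (𝔛.X k).sheaf) (G k) hW (rp hloc.1 G t k U (e i))) (hb i)

include hV hVU in
omit [∀ k, Coh.IsQCoh (G k)] in
theorem exists_kerLev (P : PresLev hloc G t e r) (k : ℕ) (b : ι → RSec (𝔛.Osh hloc.1) V)
    (hb : rp hloc.1 G t k V (lc (realLim 𝔛 hloc.1 G t) hVU e b) = 0) :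
    ∃ d : κ → RSec (𝔛.Osh hloc.1) V, ∀ i,
      oK hloc.1 k V (b i) = oK hloc.1 k V (∑ j, d j * rres (𝔛.Osh hloc.1) hVU (r j i)) := by
  have hW := (Opens.map (𝔛.gInv hloc.1 k)).monotone hVU
  have h0 := (rp_lc hloc G t k hVU e b).symm.trans hb
  have : Coh.IsQCoh (Coh.structureModule (𝔛.X k)) := QCohLib.isQCoh_unit
  obtain ⟨c, hc⟩ := FModLib.exists_comb_of_local (Coh.structureModule (𝔛.X k)) (FModLib.isAffineOpen_lvU hloc.1 hV k)
    (fun j i => rres (𝔛.X k).sheaf hW (oK hloc.1 k U (r j i))) (fun i => oK hloc.1 k V (b i)) fun p hp => by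
      obtain ⟨W, hWV, d, hpW, hd⟩ := (P k).ex _ hW _ h0 p hp
      refine ⟨W, hWV, d, hpW, fun i => (hd i).trans (Finset.sum_congr rfl fun j _ => ?_)⟩
      exact congrArg (fun z : RSec (𝔛.X k).sheaf W => d j * z) (FModLib.rres_rres hWV hW _).symm
  choose d hd using fun j => FModLib.oK_surjective hloc hV k (c j)
  refine ⟨d, fun i => (hc i).trans (Eq.trans ?_ (FModLib.oK_sum hloc.1 k d _).symm)⟩
  refine Finset.sum_congr rfl fun j _ => ?_
  exact congrArg₂ (fun a z : RSec (𝔛.X k).sheaf (𝔛.lvU hloc.1 k V) => a * z) (hd j).symm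
    (FModLib.oK_rres hloc.1 k hVU (r j i))

include hV hVU in
/-- Over an affine open every section of the limit is a combination. -/
theorem exists_combReal (P : PresLev hloc G t e r) (s : MSec (realLim 𝔛 hloc.1 G t) V) :
    ∃ b : ι → RSec (𝔛.Osh hloc.1) V, lc (realLim 𝔛 hloc.1 G t) hVU e b = s := by
  let R := realLim 𝔛 hloc.1 G t
  have step : ∀ k (b : ι → RSec (𝔛.Osh hloc.1) V), rp hloc.1 G t k V (lc R hVU e b) = rp hloc.1 G t k V s →
      ∃ b' : ι → RSec (𝔛.Osh hloc.1) V, rp hloc.1 G t (k + 1) V (lc R hVU e b') = rp hloc.1 G t (k + 1) V s ∧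
        ∀ i, oK hloc.1 k V (b' i) = oK hloc.1 k V (b i) := by
    intro k b hb
    obtain ⟨a, ha⟩ := exists_genLev hloc G t hV hVU P (k + 1) (rp hloc.1 G t (k + 1) V s)
    have hak : rp hloc.1 G t k V (lc R hVU e a) = rp hloc.1 G t k V s :=
      (rp_succ hloc.1 G t k V _).symm.trans ((congrArg (lvT hloc.1 G t k V) ha).trans (rp_succ hloc.1 G t k V s))
    have h1 : rp hloc.1 G t k V (lc R hVU e (b - a)) = 0 := by
      have e' : lc R hVU e b = lc R hVU e (b - a) + lc R hVU e a :=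
        (congrArg (lc R hVU e) (sub_add_cancel b a).symm).trans (FModLib.lc_add R hVU e _ _)
      have e'' : rp hloc.1 G t k V (lc R hVU e b) =
          rp hloc.1 G t k V (lc R hVU e (b - a)) + rp hloc.1 G t k V (lc R hVU e a) :=
        (congrArg (rp hloc.1 G t k V) e').trans (map_add _ _ _)
      exact left_eq_add.1 (hak.trans (hb.symm.trans (e''.trans (add_comm _ _))))
    obtain ⟨d, hd⟩ := exists_kerLev hloc G t hV hVU P k (b - a) h1
    refine ⟨a + fun i => ∑ j, d j * rres (𝔛.Osh hloc.1) hVU (r j i), ?_, fun i => ?_⟩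
    · exact (congrArg (rp hloc.1 G t (k + 1) V) (lc_add_rel hloc G t hVU P a d)).trans ha
    · refine (map_add ((𝔛.OshProj hloc.1 k).hom.app (op V)).hom (a i) _).trans ?_
      refine (congrArg (fun z => oK hloc.1 k V (a i) + z) (hd i).symm).trans ?_
      refine (map_add ((𝔛.OshProj hloc.1 k).hom.app (op V)).hom (a i) ((b - a) i)).symm.trans ?_
      exact congrArg (oK hloc.1 k V) (add_sub_cancel (a i) (b i))
  choose nxt hn1 hn2 using step
  obtain ⟨b0, hb0⟩ := exists_genLev hloc G t hV hVU P 0 (rp hloc.1 G t 0 V s)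
  let b : ∀ k, {b : ι → RSec (𝔛.Osh hloc.1) V // rp hloc.1 G t k V (lc R hVU e b) = rp hloc.1 G t k V s} := fun k =>
    Nat.rec ⟨b0, hb0⟩ (fun k bk => ⟨nxt k bk.1 bk.2, hn1 k bk.1 bk.2⟩) k
  have hbs : ∀ k i, oK hloc.1 k V ((b (k + 1)).1 i) = oK hloc.1 k V ((b k).1 i) := fun k i =>
    hn2 k (b k).1 (b k).2 i
  choose c hc using fun i => (FModLib.toLim_bijective hloc.1 V hV).2 ⟨fun k => oK hloc.1 k V ((b k).1 i),
    fun k => (FModLib.oProj_succ hloc.1 V k _).trans (hbs k i)⟩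
  refine ⟨c, rp_ext hloc.1 G t fun k => Eq.trans ?_ (b k).2⟩
  refine (rp_lc hloc G t k hVU e c).trans (Eq.trans ?_ (rp_lc hloc G t k hVU e _).symm)
  exact congrArg (lc (O := (𝔛.X k).sheaf) (G k) _ _) (funext fun i =>
    congrArg (fun x : (FModLib.secSys hloc.1 V hV).lim => x.1 k) (hc i))

omit [∀ k, Coh.IsQCoh (G k)] in
/-- **The limit is presented by the same sections.** -/
theorem locPres_real [∀ k, Coh.IsQCoh (G k)] (P : PresLev hloc G t e r) :
    LocPres (realLim 𝔛 hloc.1 G t) U e r where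
  rel := rel_real hloc G t P
  gen V hVU s p hp := by
    obtain ⟨W, hW, hpW, hWV⟩ := Opens.isBasis_iff_nbhd.mp (𝔛.X 0).isBasis_affineOpens (U := V) (x := p) hp
    obtain ⟨b, hb⟩ := exists_combReal hloc G t hW (hWV.trans hVU) P (mres _ hWV s)
    exact ⟨W, hWV, b, hpW, hb.symm⟩
  ex V hVU c hc p hp := by
    obtain ⟨W, hW, hpW, hWV⟩ := Opens.isBasis_iff_nbhd.mp (𝔛.X 0).isBasis_affineOpens (U := V) (x := p) hp
    have h0 : lc (realLim 𝔛 hloc.1 G t) (hWV.trans hVU) e (fun i => rres (𝔛.Osh hloc.1) hWV (c i)) = 0 :=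
      (FModLib.mres_lc _ hWV hVU e c).symm.trans ((congrArg (mres _ hWV) hc).trans (map_zero _))
    obtain ⟨d, hd⟩ := FModLib.exists_rel_of_levels hloc hW (fun j i => rres (𝔛.Osh hloc.1) (hWV.trans hVU) (r j i))
      (fun i => rres (𝔛.Osh hloc.1) hWV (c i)) fun k =>
        exists_kerLev hloc G t hW (hWV.trans hVU) P k _
          ((congrArg (rp hloc.1 G t k W) h0).trans (map_zero _))
    exact ⟨W, hWV, d, hpW, hd⟩

end FCohLib

namespace FCohLib

variable {𝔛 : Sys.{u}} (hloc : 𝔛.IsLocNoethFormal) (𝔐 : ModSys 𝔛)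

/-- A coherent system is presented on every affine open, on every level and in the limit. -/
theorem exists_presLev (h𝔐 : 𝔐.IsCoh) {V : (𝔛.X 0).Opens} (hV : IsAffineOpen V) :
    ∃ (ι κ : Type u) (_ : Fintype ι) (_ : Fintype κ) (e : ι → MSec (realLim 𝔛 hloc.1 𝔐.F 𝔐.toPush) V)
      (r : κ → ι → RSec (𝔛.Osh hloc.1) V), PresLev hloc 𝔐.F 𝔐.toPush e r := by
  obtain ⟨ι, κ, _, _, ek, r, he, hr, hg, hx⟩ := exists_data hloc 𝔐 h𝔐 hV
  choose e hek using fun i => exists_rp hloc.1 𝔐.F 𝔐.toPush (fun k => ek i k) (he i)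
  refine ⟨ι, κ, inferInstance, inferInstance, e, r, fun k => ?_⟩
  have : Coh.IsQCoh (𝔐.F k) := (h𝔐 k).1
  have h1 : (fun i => rp hloc.1 𝔐.F 𝔐.toPush k V (e i)) = fun i => ek i k := funext fun i => hek i k
  rw [h1]
  exact locPres_of_span (𝔐.F k) (FModLib.isAffineOpen_lvU hloc.1 hV k) _ _ (fun j => hr j k) (hg k) (hx k)

/-- The limit of a coherent system is locally presented by sections. -/
theorem exists_locPres_real (h𝔐 : 𝔐.IsCoh) {V : (𝔛.X 0).Opens} (hV : IsAffineOpen V) :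
    ∃ (ι κ : Type u) (_ : Fintype ι) (_ : Fintype κ) (e : ι → MSec (realLim 𝔛 hloc.1 𝔐.F 𝔐.toPush) V)
      (r : κ → ι → RSec (𝔛.Osh hloc.1) V),
      PresLev hloc 𝔐.F 𝔐.toPush e r ∧ LocPres (realLim 𝔛 hloc.1 𝔐.F 𝔐.toPush) V e r := by
  obtain ⟨ι, κ, _, _, e, r, P⟩ := exists_presLev hloc 𝔐 h𝔐 hV
  have : ∀ k, Coh.IsQCoh (𝔐.F k) := fun k => (h𝔐 k).1
  exact ⟨ι, κ, inferInstance, inferInstance, e, r, P, locPres_real hloc 𝔐.F 𝔐.toPush P⟩

end FCohLib

end
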