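import Groth.Agent.FCohLib.FinitePush
import Groth.Agent.S12131
import Groth.Agent.FModLib.PullFP

/-!
# Base change of direct images along finite morphisms of formal schemes
-/

set_option autoImplicit false
set_option linter.style.haveILetI false
set_option maxHeartbeats 800000

universe u

open CategoryTheory CategoryTheory.Limits AlgebraicGeometry TopologicalSpace Opposite FSch
open FModLib (MSec RSec LocPres mres rres oK)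
open KFlatLib (puSec puSecLE)

noncomputable section

namespace FCohLib

section Scheme

variable {X S X' S' : Scheme.{u}} (f : X ⟶ S) (g : S' ⟶ S) (g' : X' ⟶ X) (f' : X' ⟶ S')
  [IsAffineHom f] (F : X.Modules) [Coh.IsQCoh F]

theorem exists_bcIso (h : IsPullback g' f' f g) :
    ∃ u : (Scheme.Modules.pullback g).obj ((Scheme.Modules.pushforward f).obj F) ≅
        (Scheme.Modules.pushforward f').obj ((Scheme.Modules.pullback g').obj F),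
      ∀ (W : S.Opens) (x : Γ(F, f ⁻¹ᵁ W)) (e : f' ⁻¹ᵁ (g ⁻¹ᵁ W) ≤ g' ⁻¹ᵁ (f ⁻¹ᵁ W)),
        u.hom.app (g ⁻¹ᵁ W) (puSec g (show Γ((Scheme.Modules.pushforward f).obj F, W) from x)) =
          puSecLE g' F e x := by
  let v : (Scheme.Modules.pushforward f).obj F ⟶ (Scheme.Modules.pushforward g).obj
      ((Scheme.Modules.pushforward f').obj ((Scheme.Modules.pullback g').obj F)) :=
    (Scheme.Modules.pushforward f).map ((Scheme.Modules.pullbackPushforwardAdjunction g').unit.app F) ≫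
      (Scheme.Modules.pushforwardComp g' f).hom.app ((Scheme.Modules.pullback g').obj F) ≫
      (Scheme.Modules.pushforwardCongr h.w).hom.app ((Scheme.Modules.pullback g').obj F) ≫
      (Scheme.Modules.pushforwardComp f' g).inv.app ((Scheme.Modules.pullback g').obj F)
  let u := ((Scheme.Modules.pullbackPushforwardAdjunction g).homEquiv _ _).symm v
  have hu : IsIso u := Groth.Agent.S12131.result f g g' f' h F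
  refine ⟨@asIso _ _ _ _ u hu, fun W x e => ?_⟩
  have h1 : (Scheme.Modules.pullbackPushforwardAdjunction g).unit.app ((Scheme.Modules.pushforward f).obj F) ≫
      (Scheme.Modules.pushforward g).map u = v :=
    (Adjunction.homEquiv_unit _ _ _ _).symm.trans (Equiv.apply_symm_apply _ _)
  refine Eq.trans (congr($(congrArg (fun a : (Scheme.Modules.pushforward f).obj F ⟶ _ => a.app W) h1) x)) ?_
  rfl

end Scheme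

theorem isAdicHom_pullbackSnd {𝔛 𝔜 𝔖 : Sys.{u}} (f : 𝔛 ⟶ 𝔖) (g : 𝔜 ⟶ 𝔖) (hf : IsAdicHom f) :
    IsAdicHom (pullbackSnd f g) := fun n => by
  have h1 : IsPullback (pullback.fst (fk f (n + 1)) (fk g (n + 1))) (pullback.snd _ _) (fk f (n + 1)) (fk g (n + 1)) :=
    IsPullback.of_hasPullback _ _
  have h0 : IsPullback (pullback.fst (fk f n) (fk g n)) (pullback.snd _ _) (fk f n) (fk g n) :=
    IsPullback.of_hasPullback _ _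
  have ho := h0.paste_horiz (hf n)
  have e1 : (pullbackSys f g).ι n ≫ pullback.fst (fk f (n + 1)) (fk g (n + 1)) =
      pullback.fst (fk f n) (fk g n) ≫ 𝔛.ι n := pullback.lift_fst _ _ _
  have e2 : 𝔜.ι n ≫ fk g (n + 1) = fk g n ≫ 𝔖.ι n := ((g : Hom 𝔜 𝔖).comm n).symm
  rw [← e1, ← e2] at ho
  exact IsPullback.of_right ho (pullback.lift_snd _ _ _) h1

variable {𝔖 𝔛 𝔜 ℨ : Sys.{u}} (p : ℨ ⟶ 𝔛) (f : 𝔛 ⟶ 𝔖) (q : ℨ ⟶ 𝔜) (g : 𝔜 ⟶ 𝔖) (w : p ≫ f = q ≫ g)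
  (hℨ : ℨ.IsLocNoethFormal) (h𝔛 : 𝔛.IsLocNoethFormal) (h𝔜 : 𝔜.IsLocNoethFormal) (h𝔖 : 𝔖.IsLocNoethFormal)

theorem exists_presLev_pf {𝔛 𝔖 : Sys.{u}} (f : 𝔛 ⟶ 𝔖) (𝔐 : ModSys 𝔛) (h𝔛 : 𝔛.IsLocNoethFormal)
    (h𝔖 : 𝔖.IsLocNoethFormal) (hfa : IsAdicHom f) [IsFinite ((f : Hom 𝔛 𝔖).app 0)] (h𝔐 : 𝔐.IsCoh)
    {V : (𝔖.X 0).Opens} (hV : IsAffineOpen V) :
    ∃ (ι κ : Type u) (_ : Fintype ι) (_ : Fintype κ) (e : ι → MSec (realLim 𝔖 h𝔖.1 (pfF f 𝔐) (pfT f 𝔐)) V)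
      (r : κ → ι → RSec (𝔖.Osh h𝔖.1) V), PresLev h𝔖 (pfF f 𝔐) (pfT f 𝔐) e r := by
  have hN : (pfSys f 𝔐 h𝔛 h𝔖 hfa h𝔐).IsCoh := fun k =>
    haveI := FComplLib.isFinite_app f h𝔖 hfa k
    haveI := h𝔖.2.2 k
    QCohLib.isCoh_push_finite _ _ (h𝔐 k)
  have h := exists_presLev h𝔖 (pfSys f 𝔐 h𝔛 h𝔖 hfa h𝔐) hN hV
  rw [pfSys_toPush f 𝔐 h𝔛 h𝔖 hfa h𝔐] at h
  exact h

theorem bcMapF_natural {𝔉 𝔊 : ModF 𝔛 h𝔛.1} (θ : 𝔉 ⟶ 𝔊) :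
    bcMapF p f q g w hℨ.1 h𝔛.1 h𝔜.1 h𝔖.1 𝔉 ≫ (pushF q hℨ.1 h𝔜.1).map ((pullF p hℨ.1 h𝔛.1).map θ) =
      (pullF g h𝔜.1 h𝔖.1).map ((pushF f h𝔛.1 h𝔖.1).map θ) ≫ bcMapF p f q g w hℨ.1 h𝔛.1 h𝔜.1 h𝔖.1 𝔊 := by
  apply ((homMor g h𝔜.1 h𝔖.1).adj.homEquiv _ _).injective
  refine ((homMor g h𝔜.1 h𝔖.1).adj.homEquiv_naturality_right _ _).trans ?_
  refine Eq.trans ?_ ((homMor g h𝔜.1 h𝔖.1).adj.homEquiv_naturality_left _ _).symm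
  rw [bcMapF_transpose, bcMapF_transpose]
  refine (Category.assoc _ _ _).trans ?_
  refine (congrArg (fun z => (pushF f h𝔛.1 h𝔖.1).map ((homMor p hℨ.1 h𝔛.1).adj.unit.app 𝔉) ≫ z)
    ((pushSq p f q g w hℨ.1 h𝔛.1 h𝔜.1 h𝔖.1).hom.naturality ((pullF p hℨ.1 h𝔛.1).map θ)).symm).trans ?_
  refine (Category.assoc _ _ _).symm.trans (Eq.trans ?_ (Category.assoc _ _ _))
  refine congrArg (fun z => z ≫ (pushSq p f q g w hℨ.1 h𝔛.1 h𝔜.1 h𝔖.1).hom.app ((pullF p hℨ.1 h𝔛.1).obj 𝔊)) ?_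
  exact ((pushF f h𝔛.1 h𝔖.1).map_comp _ _).symm.trans ((congrArg (pushF f h𝔛.1 h𝔖.1).map
    ((homMor p hℨ.1 h𝔛.1).adj.unit.naturality θ).symm).trans ((pushF f h𝔛.1 h𝔖.1).map_comp _ _))

variable (hfa : IsAdicHom f) (hqa : IsAdicHom q) [IsFinite ((f : Hom 𝔛 𝔖).app 0)] [IsFinite ((q : Hom ℨ 𝔜).app 0)]
  (hsq : ∀ k, IsPullback (fk p k) (fk q k) (fk f k) (fk g k))

include hfa hqa hsq in
theorem isIso_bcMapF_realMod (𝔐 : ModSys 𝔛) (h𝔐 : 𝔐.IsCoh) :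
    IsIso (bcMapF p f q g w hℨ.1 h𝔛.1 h𝔜.1 h𝔖.1 (𝔐.realMod h𝔛.1)) := by
  let u := bcMapF p f q g w hℨ.1 h𝔛.1 h𝔜.1 h𝔖.1 (𝔐.realMod h𝔛.1)
  let φ₀ := (g : Hom 𝔜 𝔖).app 0
  let 𝔐' := ModSys.pullback p 𝔐
  have h𝔐' : 𝔐'.IsCoh := fun k =>
    haveI := hℨ.2.2 k
    haveI := h𝔛.2.2 k
    ConsLib.isCoh_pullback (fk p k) (h𝔐 k)
  have hfin := fun k => FComplLib.isFinite_app f h𝔖 hfa k
  have hfinq := fun k => FComplLib.isFinite_app q h𝔜 hqa k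
  let 𝔑 := pfSys f 𝔐 h𝔛 h𝔖 hfa h𝔐
  have hN : 𝔑.IsCoh := fun k =>
    haveI := hfin k
    haveI := h𝔖.2.2 k
    QCohLib.isCoh_push_finite _ _ (h𝔐 k)
  let Θ := (pushF q hℨ.1 h𝔜.1).map (pullReal p hℨ.1 h𝔛.1 𝔐) ≫ pfReal q hℨ.1 h𝔜.1 𝔐'
  have hpr := isIso_pullReal p 𝔐 hℨ h𝔛 h𝔐
  have hq' := isIso_pfReal q hℨ.1 h𝔜.1 𝔐'
  have hf' := isIso_pfReal f h𝔛.1 h𝔖.1 𝔐
  have hΘ : IsIso Θ := inferInstance
  refine isIso_of_locPres u fun y => ?_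
  obtain ⟨V, hV, hyV, -⟩ :=
    Opens.isBasis_iff_nbhd.mp (𝔖.X 0).isBasis_affineOpens (U := ⊤) (x := φ₀ y) trivial
  obtain ⟨ι, κ, _, _, e₁, r, hl⟩ := exists_presLev_pf f 𝔐 h𝔛 h𝔖 hfa h𝔐 hV
  have hP : LocPres (realLim 𝔖 h𝔖.1 (pfF f 𝔐) (pfT f 𝔐)) V e₁ r :=
    haveI : ∀ k, Coh.IsQCoh (pfF f 𝔐 k) := fun k => (hN k).1
    locPres_real h𝔖 _ _ hl
  let A := @asIso _ _ _ _ (pfReal f h𝔛.1 h𝔖.1 𝔐) hf'
  let e : ι → MSec ((pushF f h𝔛.1 h𝔖.1).obj (𝔐.realMod h𝔛.1)) V := fun i => A.inv.val.app (op V) (e₁ i)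
  have hPe := locPres_of_iso A.symm hP
  have hPs := locPres_pullSec φ₀.base (Hom.sharp g h𝔜.1 h𝔖.1) (M := (pushF f h𝔛.1 h𝔖.1).obj (𝔐.realMod h𝔛.1)) hPe
  let V' := φ₀ ⁻¹ᵁ V
  refine ⟨V', ι, κ, inferInstance, inferInstance, _, _, hyV, hPs, ?_⟩
  let es : ι → MSec ((pushF q hℨ.1 h𝔜.1).obj ((pullF p hℨ.1 h𝔛.1).obj (𝔐.realMod h𝔛.1))) V' := fun i =>
    u.val.app (op V') (FModLib.unitSec φ₀.base (Hom.sharp g h𝔜.1 h𝔖.1) _ V (e i))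
  let rs : κ → ι → RSec (𝔜.Osh h𝔜.1) V' := fun j i => FModLib.sharpSec φ₀.base (Hom.sharp g h𝔜.1 h𝔖.1) V (r j i)
  suffices hs : PresLev h𝔜 (pfF q 𝔐') (pfT q 𝔐') (fun i => Θ.val.app (op V') (es i)) rs by
    haveI : ∀ k, Coh.IsQCoh (pfF q 𝔐' k) := fun k =>
      haveI := hfinq k
      haveI := h𝔜.2.2 k
      (QCohLib.isCoh_push_finite _ _ (h𝔐' k)).1
    have h3 := locPres_of_iso (@asIso _ _ _ _ Θ hΘ).symm (locPres_real h𝔜 _ _ hs)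
    have e4 : (fun i => (@asIso _ _ _ _ Θ hΘ).symm.hom.val.app (op V') (Θ.val.app (op V') (es i))) = es :=
      funext fun i => congr($(congrArg (fun a : (pushF q hℨ.1 h𝔜.1).obj ((pullF p hℨ.1 h𝔛.1).obj (𝔐.realMod h𝔛.1)) ⟶ _ =>
        a.val.app (op V')) (@asIso _ _ _ _ Θ hΘ).hom_inv_id) (es i))
    exact (congrArg (fun e => LocPres _ V' e rs) e4).mp h3
  intro k
  let f0 := (f : Hom 𝔛 𝔖).app 0
  let p0 := (p : Hom ℨ 𝔛).app 0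
  let q0 := (q : Hom ℨ 𝔜).app 0
  have eOp : q0 ⁻¹ᵁ V' = p0 ⁻¹ᵁ (f0 ⁻¹ᵁ V) :=
    (Hom.sq_preimage p f q g w V).symm
  have : Coh.IsQCoh (𝔐.F k) := (h𝔐 k).1
  haveI := hfin k
  obtain ⟨uk, huk⟩ := exists_bcIso (fk f k) (fk g k) (fk p k) (fk q k) (𝔐.F k) (hsq k)
  let W := 𝔖.lvU h𝔖.1 k V
  let W' := 𝔜.lvU h𝔜.1 k V'
  have hWW : W' ≤ fk g k ⁻¹ᵁ W := (Hom.lvU_preimage g h𝔜.1 h𝔖.1 k V).ge
  have eW : fk q k ⁻¹ᵁ (fk g k ⁻¹ᵁ W) ≤ fk p k ⁻¹ᵁ (fk f k ⁻¹ᵁ W) :=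
    (congrArg (fun t : ℨ.X k ⟶ 𝔖.X k => t ⁻¹ᵁ W) (hsq k).w).ge
  have key := locPres_of_iso (X := (𝔜.X k).toTopCat) (O := (𝔜.X k).sheaf) uk
    (locPres_res (O := (𝔜.X k).sheaf) hWW
      (locPres_pullSec (fk g k).base (OX := (𝔜.X k).sheaf) (OY := (𝔖.X k).sheaf) ⟨(fk g k).c⟩ (M := pfF f 𝔐 k) (hl k)))
  have er : (fun j i => oK h𝔜.1 k V' (rs j i)) = fun j i => rres (𝔜.X k).sheaf hWW
      (FModLib.sharpSec (fk g k).base (OX := (𝔜.X k).sheaf) (OY := (𝔖.X k).sheaf) ⟨(fk g k).c⟩ W (oK h𝔖.1 k V (r j i))) :=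
    funext fun j => funext fun i => oK_sharp g h𝔜.1 h𝔖.1 k V (r j i)
  suffices ee : (fun i => rp h𝔜.1 (pfF q 𝔐') (pfT q 𝔐') k V' (Θ.val.app (op V') (es i))) = fun i =>
      uk.hom.app W' (((Scheme.Modules.pullback (fk g k)).obj (pfF f 𝔐 k)).presheaf.map (homOfLE hWW).op
        (puSec (fk g k) (rp h𝔖.1 (pfF f 𝔐) (pfT f 𝔐) k V (e₁ i)))) by
    show LocPres (O := (𝔜.X k).sheaf) (pfF q 𝔐' k) W' _ _
    rw [ee, er]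
    exact key
  funext i
  let x : MSec (𝔐.realMod h𝔛.1) (f0 ⁻¹ᵁ V) := e i
  let a : Γ(𝔐.F k, 𝔛.lvU h𝔛.1 k (f0 ⁻¹ᵁ V)) := rp h𝔛.1 𝔐.F 𝔐.toPush k (f0 ⁻¹ᵁ V) x
  have ha : rp h𝔖.1 (pfF f 𝔐) (pfT f 𝔐) k V (e₁ i) =
      (𝔐.F k).presheaf.map (homOfLE (Hom.lvU_preimage f h𝔛.1 h𝔖.1 k V).le).op a := by
    refine Eq.trans (congrArg (rp h𝔖.1 (pfF f 𝔐) (pfT f 𝔐) k V) ?_) (rp_pfReal f h𝔛.1 h𝔖.1 𝔐 k V x)
    exact (congr($(congrArg (fun t : realLim 𝔖 h𝔖.1 (pfF f 𝔐) (pfT f 𝔐) ⟶ _ => t.val.app (op V)) A.inv_hom_id) (e₁ i))).symm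
  let z : MSec ((pullF p hℨ.1 h𝔛.1).obj (𝔐.realMod h𝔛.1)) (p0 ⁻¹ᵁ (f0 ⁻¹ᵁ V)) :=
    FModLib.unitSec p0.base (Hom.sharp p hℨ.1 h𝔛.1) _ (f0 ⁻¹ᵁ V) x
  have hes : (show MSec ((pullF p hℨ.1 h𝔛.1).obj (𝔐.realMod h𝔛.1)) (q0 ⁻¹ᵁ V') from es i) =
      mres ((pullF p hℨ.1 h𝔛.1).obj (𝔐.realMod h𝔛.1)) eOp.le z := by
    have h := bcMapF_transpose p f q g w hℨ.1 h𝔛.1 h𝔜.1 h𝔖.1 (𝔐.realMod h𝔛.1)
    rw [Adjunction.homEquiv_unit] at h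
    exact congr($(congrArg (fun t : (pushF f h𝔛.1 h𝔖.1).obj (𝔐.realMod h𝔛.1) ⟶ _ => t.val.app (op V)) h) (e i))
  let P := 𝔐'.F k
  refine (rp_pfReal q hℨ.1 h𝔜.1 𝔐' k V' _).trans ?_
  refine (congrArg (fun s => P.presheaf.map (homOfLE (Hom.lvU_preimage q hℨ.1 h𝔜.1 k V').le).op
    (rp hℨ.1 𝔐'.F 𝔐'.toPush k (q0 ⁻¹ᵁ V') ((pullReal p hℨ.1 h𝔛.1 𝔐).val.app (op (q0 ⁻¹ᵁ V')) s))) hes).trans ?_
  refine (congrArg (fun s => P.presheaf.map (homOfLE (Hom.lvU_preimage q hℨ.1 h𝔜.1 k V').le).op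
    (rp hℨ.1 𝔐'.F 𝔐'.toPush k (q0 ⁻¹ᵁ V') s))
      (PresheafOfModules.naturality_apply (pullReal p hℨ.1 h𝔛.1 𝔐).val (homOfLE eOp.le).op z)).trans ?_
  refine (congrArg (P.presheaf.map (homOfLE (Hom.lvU_preimage q hℨ.1 h𝔜.1 k V').le).op)
    ((rp_mres hℨ.1 𝔐'.F 𝔐'.toPush k eOp.le _).trans
      (congrArg (mres P _) (rp_pullReal p hℨ.1 h𝔛.1 𝔐 k (f0 ⁻¹ᵁ V) x)))).trans ?_
  refine Eq.symm ?_
  refine (QCohLib.app_map uk.hom (homOfLE hWW) _).trans ?_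
  refine (congrArg (((Scheme.Modules.pushforward (fk q k)).obj P).presheaf.map (homOfLE hWW).op)
    ((congrArg (fun s => uk.hom.app (fk g k ⁻¹ᵁ W) (puSec (fk g k) s)) ha).trans (huk W _ eW))).trans ?_
  refine (congrArg (((Scheme.Modules.pushforward (fk q k)).obj P).presheaf.map (homOfLE hWW).op)
    (puSecLE_res (fk p k) (𝔐.F k) (Hom.lvU_preimage f h𝔛.1 h𝔖.1 k V).le
      (Hom.lvU_preimage p hℨ.1 h𝔛.1 k (f0 ⁻¹ᵁ V)).ge eW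
      (eW.trans (((fk p k).preimage_mono (Hom.lvU_preimage f h𝔛.1 h𝔖.1 k V).le).trans
        (Hom.lvU_preimage p hℨ.1 h𝔛.1 k (f0 ⁻¹ᵁ V)).le)) a)).trans ?_
  refine (QCohLib.map_map' P (homOfLE ((fk q k).preimage_mono hWW)) _ _).trans ?_
  refine Eq.symm ((QCohLib.map_map' P (homOfLE (Hom.lvU_preimage q hℨ.1 h𝔜.1 k V').le)
    (homOfLE ((Opens.map (ℨ.gInv hℨ.1 k)).monotone eOp.le)) _).trans ?_)
  rfl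

include hfa hqa hsq in
/-- **Base change for finite morphisms.** -/
theorem isIso_bcMapF_finite {𝔉 : ModF 𝔛 h𝔛.1} (h𝔉 : IsCohF 𝔛 h𝔛.1 𝔉) :
    IsIso (bcMapF p f q g w hℨ.1 h𝔛.1 h𝔜.1 h𝔖.1 𝔉) := by
  have hη := isIso_etaReal h𝔛 h𝔉
  have h2 := isIso_bcMapF_realMod p f q g w hℨ h𝔛 h𝔜 h𝔖 hfa hqa hsq (levSys h𝔛 𝔉) (isCoh_levSys h𝔛 h𝔉)
  have h3 : IsIso (bcMapF p f q g w hℨ.1 h𝔛.1 h𝔜.1 h𝔖.1 𝔉 ≫
      (pushF q hℨ.1 h𝔜.1).map ((pullF p hℨ.1 h𝔛.1).map (etaReal h𝔛 𝔉))) := by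
    rw [bcMapF_natural p f q g w hℨ h𝔛 h𝔜 h𝔖 (etaReal h𝔛 𝔉)]
    infer_instance
  exact IsIso.of_isIso_comp_right _ ((pushF q hℨ.1 h𝔜.1).map ((pullF p hℨ.1 h𝔛.1).map (etaReal h𝔛 𝔉)))

end FCohLib

end
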