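import Groth.Agent.FCohLib.Closure
import Groth.Agent.FCohLib.PushCompl
import Groth.Agent.FComplLib.Levels

/-!
# Direct images along finite morphisms of formal schemes
-/

set_option autoImplicit false
set_option linter.style.haveILetI false
set_option maxHeartbeats 800000

universe u

open CategoryTheory CategoryTheory.Limits AlgebraicGeometry TopologicalSpace Opposite FSch
open FModLib (MSec RSec LocPres lc mres rres)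
open KFlatLib (puSecLE)

noncomputable section

namespace FCohLib

theorem isCohF_unitF {𝔛 : Sys.{u}} (h : 𝔛.IsFormal) : IsCohF 𝔛 h (unitF 𝔛 h) :=
  FModLib.isFP_of_locPres fun p =>
    ⟨⊤, PUnit.{u + 1}, PEmpty.{u + 1}, inferInstance, inferInstance, fun _ => (1 : RSec (𝔛.Osh h) ⊤),
      fun j => j.elim, trivial,
      { rel := fun j => j.elim
        gen := fun V hV s q hq => ⟨V, le_rfl, fun _ => (show RSec (𝔛.Osh h) V from s), hq, by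
          rw [FModLib.lc, Fintype.sum_unique]
          have h1 : mres (unitF 𝔛 h) hV (show MSec (unitF 𝔛 h) ⊤ from (1 : RSec (𝔛.Osh h) ⊤)) =
              (1 : RSec (𝔛.Osh h) V) := map_one ((𝔛.Osh h).obj.map (homOfLE hV).op).hom
          refine Eq.trans ?_ (congrArg (fun z : MSec (unitF 𝔛 h) V => (show RSec (𝔛.Osh h) V from s) • z) h1).symm
          refine Eq.trans ?_ (mul_one (show RSec (𝔛.Osh h) V from s)).symm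
          exact congr($((unitF 𝔛 h).val.presheaf.map_id (op V)) s)⟩
        ex := fun V hV c hc q hq => ⟨V, le_rfl, fun j => j.elim, hq, fun i => by
          rw [FModLib.lc, Fintype.sum_unique] at hc
          have h1 : mres (unitF 𝔛 h) hV (show MSec (unitF 𝔛 h) ⊤ from (1 : RSec (𝔛.Osh h) ⊤)) =
              (1 : RSec (𝔛.Osh h) V) := map_one ((𝔛.Osh h).obj.map (homOfLE hV).op).hom
          have h2 : c default = 0 := (mul_one (c default)).symm.trans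
            ((congrArg (fun z : MSec (unitF 𝔛 h) V => c default • z) h1).symm.trans hc)
          rw [Subsingleton.elim i default, h2]
          exact (map_zero _).trans (Finset.sum_of_isEmpty _).symm⟩ }⟩

variable {𝔛 𝔜 : Sys.{u}} (f : 𝔛 ⟶ 𝔜) (h𝔛 : 𝔛.IsFormal) (h𝔜 : 𝔜.IsFormal) (𝔐 : ModSys 𝔛)

/-- The levels of a direct image. -/
abbrev pfF (k : ℕ) : (𝔜.X k).Modules := (Scheme.Modules.pushforward (fk f k)).obj (𝔐.F k)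

/-- The transition of the levels of a direct image. -/
def pfT (k : ℕ) : pfF f 𝔐 (k + 1) ⟶ (Scheme.Modules.pushforward (𝔜.ι k)).obj (pfF f 𝔐 k) :=
  (Scheme.Modules.pushforward (fk f (k + 1))).map (𝔐.toPush k) ≫
    (Scheme.Modules.pushforwardComp (𝔛.ι k) (fk f (k + 1))).hom.app (𝔐.F k) ≫
      (Scheme.Modules.pushforwardCongr ((f : Hom 𝔛 𝔜).comm k).symm).hom.app (𝔐.F k) ≫
        (Scheme.Modules.pushforwardComp (fk f k) (𝔜.ι k)).inv.app (𝔐.F k)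

theorem pfT_app (k : ℕ) (U : (𝔜.X (k + 1)).Opens) (a : Γ(𝔐.F (k + 1), fk f (k + 1) ⁻¹ᵁ U))
    (e : fk f k ⁻¹ᵁ (𝔜.ι k ⁻¹ᵁ U) ≤ 𝔛.ι k ⁻¹ᵁ (fk f (k + 1) ⁻¹ᵁ U)) :
    (pfT f 𝔐 k).app U a =
      (𝔐.F k).presheaf.map (homOfLE e).op ((𝔐.toPush k).app (fk f (k + 1) ⁻¹ᵁ U) a) := by
  rfl

theorem lvT_pfT (k : ℕ) (V : (𝔜.X 0).Opens) (m : Γ(pfF f 𝔐 (k + 1), 𝔜.lvU h𝔜 (k + 1) V)) :
    lvT h𝔜 (pfF f 𝔐) (pfT f 𝔐) k V m =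
      (𝔐.F k).presheaf.map (homOfLE (Hom.lvU_preimage f h𝔛 h𝔜 k V).le).op
        (lvT h𝔛 𝔐.F 𝔐.toPush k ((f : Hom 𝔛 𝔜).app 0 ⁻¹ᵁ V)
          ((𝔐.F (k + 1)).presheaf.map (homOfLE (Hom.lvU_preimage f h𝔛 h𝔜 (k + 1) V).ge).op m)) := by
  let P := 𝔐.F k
  let U := 𝔜.lvU h𝔜 (k + 1) V
  let a : Γ(𝔐.F (k + 1), fk f (k + 1) ⁻¹ᵁ U) := m
  have e : fk f k ⁻¹ᵁ (𝔜.ι k ⁻¹ᵁ U) ≤ 𝔛.ι k ⁻¹ᵁ (fk f (k + 1) ⁻¹ᵁ U) :=
    (congrArg (fun t : 𝔛.X k ⟶ 𝔜.X (k + 1) => t ⁻¹ᵁ U) ((f : Hom 𝔛 𝔜).comm k)).le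
  unfold lvT
  refine (congrArg (fun z => P.presheaf.map (homOfLE ((fk f k).preimage_mono (𝔜.lvU_le h𝔜 k V))).op z)
    (pfT_app f 𝔐 k U a e)).trans ?_
  refine (QCohLib.map_map' P (homOfLE ((fk f k).preimage_mono (𝔜.lvU_le h𝔜 k V))) (homOfLE e) _).trans ?_
  refine Eq.symm ?_
  refine (congrArg (fun z => P.presheaf.map (homOfLE (Hom.lvU_preimage f h𝔛 h𝔜 k V).le).op
    (P.presheaf.map (homOfLE (𝔛.lvU_le h𝔛 k ((f : Hom 𝔛 𝔜).app 0 ⁻¹ᵁ V))).op z))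
    (QCohLib.app_map (𝔐.toPush k) (homOfLE (Hom.lvU_preimage f h𝔛 h𝔜 (k + 1) V).ge) a)).trans ?_
  refine (congrArg (P.presheaf.map (homOfLE (Hom.lvU_preimage f h𝔛 h𝔜 k V).le).op)
    (QCohLib.map_map' P (homOfLE (𝔛.lvU_le h𝔛 k ((f : Hom 𝔛 𝔜).app 0 ⁻¹ᵁ V)))
      (homOfLE ((𝔛.ι k).preimage_mono (Hom.lvU_preimage f h𝔛 h𝔜 (k + 1) V).ge)) _)).trans ?_
  exact QCohLib.map_map' P (homOfLE (Hom.lvU_preimage f h𝔛 h𝔜 k V).le) _ _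

/-- The adjunct of the transition. -/
def pfPsi (k : ℕ) : (Scheme.Modules.pullback (𝔜.ι k)).obj (pfF f 𝔐 (k + 1)) ⟶ pfF f 𝔐 k :=
  ((Scheme.Modules.pullbackPushforwardAdjunction (𝔜.ι k)).homEquiv _ _).symm (pfT f 𝔐 k)

theorem pfPsi_puSec (k : ℕ) (V : (𝔜.X 0).Opens) (m : Γ(pfF f 𝔐 (k + 1), 𝔜.lvU h𝔜 (k + 1) V)) :
    (pfPsi f 𝔐 k).app (𝔜.lvU h𝔜 k V)
        (puSecLE (𝔜.ι k) (pfF f 𝔐 (k + 1)) (𝔜.lvU_le h𝔜 k V) m) =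
      lvT h𝔜 (pfF f 𝔐) (pfT f 𝔐) k V m := by
  have h : (Scheme.Modules.pullbackPushforwardAdjunction (𝔜.ι k)).unit.app (pfF f 𝔐 (k + 1)) ≫
      (Scheme.Modules.pushforward (𝔜.ι k)).map (pfPsi f 𝔐 k) = pfT f 𝔐 k :=
    (Adjunction.homEquiv_unit _ _ _ _).symm.trans (Equiv.apply_symm_apply _ _)
  unfold lvT
  rw [← h]
  exact (PresheafOfModules.naturality_apply (pfPsi f 𝔐 k).val (homOfLE (𝔜.lvU_le h𝔜 k V)).op _)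

variable (hloc𝔛 : 𝔛.IsLocNoethFormal) (hloc𝔜 : 𝔜.IsLocNoethFormal) (hf : IsAdicHom f)

theorem exists_basic_lvU (k : ℕ) (U : (𝔜.X k).Opens) (z : 𝔜.X k) (hz : z ∈ U) :
    ∃ V : (𝔜.X 0).Opens, IsAffineOpen V ∧ 𝔜.lvU h𝔜 k V ≤ U ∧ z ∈ 𝔜.lvU h𝔜 k V := by
  have hc := (FComplLib.isClosedImmersion_toX h𝔜 k)
  have hs := (FComplLib.surjective_toX h𝔜 k)
  obtain ⟨y, rfl⟩ := (𝔜.toX k).surjective z
  obtain ⟨V, hV, hyV, hVU⟩ :=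
    Opens.isBasis_iff_nbhd.mp (𝔜.X 0).isBasis_affineOpens (U := 𝔜.toX k ⁻¹ᵁ U) (x := y) hz
  have hpre : 𝔜.toX k ⁻¹ᵁ 𝔜.lvU h𝔜 k V = V := by
    rw [FModLib.toX_preimage]
  refine ⟨V, hV, fun w hw => ?_, (Set.ext_iff.1 (congrArg SetLike.coe hpre) y).2 hyV⟩
  obtain ⟨x, rfl⟩ := (𝔜.toX k).surjective w
  exact hVU ((Set.ext_iff.1 (congrArg SetLike.coe hpre) x).1 hw)

include hloc𝔛 hloc𝔜 hf in
theorem isIso_pfPsi [IsFinite ((f : Hom 𝔛 𝔜).app 0)] (h𝔐 : 𝔐.IsCoh) (k : ℕ) : IsIso (pfPsi f 𝔐 k) := by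
  have := hloc𝔜.2.2
  have hfin := fun j => FComplLib.isFinite_app f hloc𝔜 hf j
  have hcl := (hloc𝔜.1 k).1
  have hcl' := (hloc𝔛.1 k).1
  have : Coh.IsQCoh (pfF f 𝔐 (k + 1)) := (haveI := hfin (k + 1); QCohLib.isCoh_push_finite _ _ (h𝔐 (k + 1))).1
  have : Coh.IsQCoh (𝔐.F (k + 1)) := (h𝔐 (k + 1)).1
  refine isIso_of_bijective_basis (X := (𝔜.X k).toTopCat) (pfPsi f 𝔐 k) fun U z hz => ?_
  obtain ⟨V, hV, hVU, hzV⟩ := exists_basic_lvU hloc𝔜.1 k U z hz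
  refine ⟨𝔜.lvU hloc𝔜.1 k V, hVU, hzV, ?_⟩
  show Function.Bijective ((pfPsi f 𝔐 k).app (𝔜.lvU hloc𝔜.1 k V))
  let V' := (f : Hom 𝔛 𝔜).app 0 ⁻¹ᵁ V
  have hV' : IsAffineOpen V' := hV.preimage _
  let W := 𝔜.lvU hloc𝔜.1 (k + 1) V
  let W' := 𝔛.lvU hloc𝔛.1 (k + 1) V'
  have hW : IsAffineOpen W := FModLib.isAffineOpen_lvU hloc𝔜.1 hV (k + 1)
  have hW' : IsAffineOpen W' := FModLib.isAffineOpen_lvU hloc𝔛.1 hV' (k + 1)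
  obtain ⟨hsurj, hker⟩ := affine_lvT hloc𝔛.1 𝔐 hV' k
  let e := Hom.lvU_preimage f hloc𝔛.1 hloc𝔜.1
  have bj : ∀ j, Function.Bijective ((𝔐.F j).presheaf.map (homOfLE (e j V).ge).op) ∧
      Function.Bijective ((𝔐.F j).presheaf.map (homOfLE (e j V).le).op) := fun j => by
    have hmm : ∀ {U₁ U₂ : (𝔛.X j).Opens} (h₁ : U₁ ≤ U₂) (h₂ : U₂ ≤ U₁) (z : Γ(𝔐.F j, U₁)),
        (𝔐.F j).presheaf.map (homOfLE h₁).op ((𝔐.F j).presheaf.map (homOfLE h₂).op z) = z := fun h₁ h₂ z =>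
      (QCohLib.map_map' (𝔐.F j) (homOfLE h₁) (homOfLE h₂) z).trans
        (congr($((𝔐.F j).presheaf.map_id (op _)) z))
    exact ⟨Function.bijective_iff_has_inverse.mpr ⟨_, hmm (e j V).le (e j V).ge, hmm (e j V).ge (e j V).le⟩,
      Function.bijective_iff_has_inverse.mpr ⟨_, hmm (e j V).ge (e j V).le, hmm (e j V).le (e j V).ge⟩⟩
  let α : Γ(𝔜.X (k + 1), W) →+* Γ(𝔜.X k, 𝔜.lvU hloc𝔜.1 k V) :=
    ((𝔜.ι k).appLE W _ (𝔜.lvU_le hloc𝔜.1 k V)).hom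
  have hsurjY : Function.Surjective α := FModLib.levelMap_surjective hloc𝔜.1 V k hV
  refine ⟨(injective_iff_map_eq_zero ((pfPsi f 𝔐 k).app (𝔜.lvU hloc𝔜.1 k V)).hom).2 fun y hy => ?_, fun y => ?_⟩
  · letI := α.toAlgebra
    let P := (Scheme.Modules.pullback (𝔜.ι k)).obj (pfF f 𝔐 (k + 1))
    letI : Module Γ(𝔜.X (k + 1), W) Γ(P, 𝔜.lvU hloc𝔜.1 k V) := Module.compHom _ α
    have : IsScalarTower Γ(𝔜.X (k + 1), W) Γ(𝔜.X k, 𝔜.lvU hloc𝔜.1 k V) Γ(P, 𝔜.lvU hloc𝔜.1 k V) :=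
      IsScalarTower.of_algebraMap_smul fun _ _ => rfl
    let l : Γ(pfF f 𝔐 (k + 1), W) →ₗ[Γ(𝔜.X (k + 1), W)] Γ(P, 𝔜.lvU hloc𝔜.1 k V) :=
      { toFun := puSecLE (𝔜.ι k) (pfF f 𝔐 (k + 1)) (𝔜.lvU_le hloc𝔜.1 k V)
        map_add' := map_add _
        map_smul' := fun r m => KFlatLib.puSecLE_smul (𝔜.ι k) _ (𝔜.lvU_le hloc𝔜.1 k V) r m }
    obtain ⟨ls, lk⟩ := mem_ker_iff_of_isBaseChange l
      (KFlatLib.isBaseChange_puSec (𝔜.ι k) (pfF f 𝔐 (k + 1)) hW (FModLib.isAffineOpen_lvU hloc𝔜.1 hV k)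
        (𝔜.lvU_le hloc𝔜.1 k V) (fun _ => rfl) l (fun _ => rfl)) hsurjY
    obtain ⟨m, rfl⟩ := ls y
    refine (lk m).2 ?_
    have h0 : lvT hloc𝔛.1 𝔐.F 𝔐.toPush k V'
        ((𝔐.F (k + 1)).presheaf.map (homOfLE (e (k + 1) V).ge).op m) = 0 := by
      refine (bj k).2.1 (((lvT_pfT f hloc𝔛.1 hloc𝔜.1 𝔐 k V m).symm.trans
        ((pfPsi_puSec f hloc𝔜.1 𝔐 k V m).symm.trans hy)).trans (map_zero _).symm)
    have h1 := (hker _).1 h0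
    have hI : lvK hloc𝔛.1 k V' = (lvK hloc𝔜.1 k V).map
        ((fk f (k + 1)).appLE W W' (e (k + 1) V).ge).hom := by
      rw [lvK, lvK, FModLib.ker_appLE_of_eq _ _ _ _ (𝔛.lvU_succ hloc𝔛.1 k V'),
        FModLib.ker_appLE_of_eq _ _ _ _ (𝔜.lvU_succ hloc𝔜.1 k V),
        (FComplLib.chart (hf k) ⟨W, hW⟩ ⟨W', hW'⟩ (e (k + 1) V).ge).2.1, Scheme.Hom.ker_apply]
    rw [hI] at h1
    have key : ∀ z ∈ ((lvK hloc𝔜.1 k V).map ((fk f (k + 1)).appLE W W' (e (k + 1) V).ge).hom •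
        (⊤ : Submodule Γ(𝔛.X (k + 1), W') Γ(𝔐.F (k + 1), W'))),
        ∀ m' : Γ(pfF f 𝔐 (k + 1), W), (𝔐.F (k + 1)).presheaf.map (homOfLE (e (k + 1) V).ge).op m' = z →
          m' ∈ lvK hloc𝔜.1 k V • (⊤ : Submodule Γ(𝔜.X (k + 1), W) Γ(pfF f 𝔐 (k + 1), W)) := by
      let ρ : Γ(pfF f 𝔐 (k + 1), W) →ₛₗ[((fk f (k + 1)).appLE W W' (e (k + 1) V).ge).hom]
          Γ(𝔐.F (k + 1), W') :=
        { toFun := (𝔐.F (k + 1)).presheaf.map (homOfLE (e (k + 1) V).ge).op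
          map_add' := map_add _
          map_smul' := fun r x => by
            refine (congrArg ((𝔐.F (k + 1)).presheaf.map (homOfLE (e (k + 1) V).ge).op)
              (QCohLib.push_smul (fk f (k + 1)) (𝔐.F (k + 1)) r x)).trans ?_
            exact Scheme.Modules.map_smul _ _ _ _ }
      intro z hz m' hm'
      suffices ∃ x ∈ lvK hloc𝔜.1 k V • (⊤ : Submodule Γ(𝔜.X (k + 1), W) Γ(pfF f 𝔐 (k + 1), W)), ρ x = z by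
        obtain ⟨x, hx, hxz⟩ := this
        rwa [(bj (k + 1)).1.1 (hm'.trans hxz.symm)]
      refine Submodule.smul_induction_on hz (fun r hr w _ => ?_) fun a b => ?_
      · clear hz hm'
        induction hr using Submodule.span_induction generalizing w with
        | mem r hr =>
          obtain ⟨r₀, hr₀, rfl⟩ := hr
          obtain ⟨w₀, rfl⟩ := (bj (k + 1)).1.2 w
          let w₁ : Γ(pfF f 𝔐 (k + 1), W) := w₀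
          exact ⟨r₀ • w₁, Submodule.smul_mem_smul hr₀ trivial, ρ.map_smulₛₗ r₀ w₁⟩
        | zero => exact ⟨0, zero_mem _, (map_zero ρ).trans (zero_smul _ w).symm⟩
        | add r r' _ _ hr hr' =>
          obtain ⟨x, hx, hxe⟩ := hr w trivial
          obtain ⟨x', hx', hxe'⟩ := hr' w trivial
          exact ⟨x + x', add_mem hx hx', by rw [map_add, hxe, hxe', add_smul]⟩
        | smul c r _ hr =>
          obtain ⟨x, hx, hxe⟩ := hr (c • w) trivial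
          exact ⟨x, hx, by rw [hxe, smul_eq_mul, mul_comm, mul_smul]⟩
      · rintro ⟨x, hx, rfl⟩ ⟨x', hx', rfl⟩
        exact ⟨x + x', add_mem hx hx', map_add ρ x x'⟩
    exact key _ h1 m rfl
  · obtain ⟨y', hy'⟩ := (bj k).2.2 y
    obtain ⟨m', hm'⟩ := hsurj y'
    obtain ⟨m, rfl⟩ := (bj (k + 1)).1.2 m'
    refine ⟨puSecLE (𝔜.ι k) (pfF f 𝔐 (k + 1)) (𝔜.lvU_le hloc𝔜.1 k V) m, ?_⟩
    exact (pfPsi_puSec f hloc𝔜.1 𝔐 k V m).trans ((lvT_pfT f hloc𝔛.1 hloc𝔜.1 𝔐 k V m).trans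
      ((congrArg _ hm').trans hy'))

include hloc𝔛 hloc𝔜 hf in
/-- The direct image system. -/
def pfSys [IsFinite ((f : Hom 𝔛 𝔜).app 0)] (h𝔐 : 𝔐.IsCoh) : ModSys 𝔜 :=
  ⟨pfF f 𝔐, fun k => @asIso _ _ _ _ (pfPsi f 𝔐 k) (isIso_pfPsi f 𝔐 hloc𝔛 hloc𝔜 hf h𝔐 k)⟩

theorem pfSys_toPush [IsFinite ((f : Hom 𝔛 𝔜).app 0)] (h𝔐 : 𝔐.IsCoh) :
    (pfSys f 𝔐 hloc𝔛 hloc𝔜 hf h𝔐).toPush = pfT f 𝔐 :=
  funext fun k => Equiv.apply_symm_apply _ _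

theorem pfK_succ (k : ℕ) (W : (𝔜.X 0).Opens) (s : MSec (𝔐.realMod h𝔛) ((f : Hom 𝔛 𝔜).app 0 ⁻¹ᵁ W)) :
    lvT h𝔜 (pfF f 𝔐) (pfT f 𝔐) k W
        ((𝔐.F (k + 1)).presheaf.map (homOfLE (Hom.lvU_preimage f h𝔛 h𝔜 (k + 1) W).le).op
          (rp h𝔛 𝔐.F 𝔐.toPush (k + 1) _ s)) =
      (𝔐.F k).presheaf.map (homOfLE (Hom.lvU_preimage f h𝔛 h𝔜 k W).le).op (rp h𝔛 𝔐.F 𝔐.toPush k _ s) := by
  refine (lvT_pfT f h𝔛 h𝔜 𝔐 k W _).trans (congrArg _ ?_)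
  refine (congrArg (lvT h𝔛 𝔐.F 𝔐.toPush k _) ?_).trans (rp_succ h𝔛 𝔐.F 𝔐.toPush k _ s)
  exact (QCohLib.map_map' (𝔐.F (k + 1)) (homOfLE (Hom.lvU_preimage f h𝔛 h𝔜 (k + 1) W).ge)
    (homOfLE (Hom.lvU_preimage f h𝔛 h𝔜 (k + 1) W).le) _).trans
      (congr($((𝔐.F (k + 1)).presheaf.map_id (op _)) _))

/-- The component. -/
def pfK (k : ℕ) : (pushF f h𝔛 h𝔜).obj (𝔐.realMod h𝔛) ⟶ (levelMor 𝔜 h𝔜 k).push.obj (pfF f 𝔐 k) :=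
  (pushF f h𝔛 h𝔜).map (realProj 𝔛 h𝔛 𝔐.F 𝔐.toPush k) ≫ (lvPushSq f h𝔛 h𝔜 k).hom.app (𝔐.F k)

theorem pfK_app (k : ℕ) (W : (𝔜.X 0).Opens) (s : MSec (𝔐.realMod h𝔛) ((f : Hom 𝔛 𝔜).app 0 ⁻¹ᵁ W)) :
    (pfK f h𝔛 h𝔜 𝔐 k).val.app (op W) s =
      (𝔐.F k).presheaf.map (homOfLE (Hom.lvU_preimage f h𝔛 h𝔜 k W).le).op (rp h𝔛 𝔐.F 𝔐.toPush k _ s) := by
  rfl

/-- The cone. -/
def pfCone : Cone (levelSysOf 𝔜 h𝔜 (pfF f 𝔐) (pfT f 𝔐)) where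
  pt := (pushF f h𝔛 h𝔜).obj (𝔐.realMod h𝔛)
  π := NatTrans.ofOpSequence (fun k => pfK f h𝔛 h𝔜 𝔐 k) fun k => by
    show (𝟙 ((pushF f h𝔛 h𝔜).obj (𝔐.realMod h𝔛)) : (pushF f h𝔛 h𝔜).obj (𝔐.realMod h𝔛) ⟶ _) ≫ _ = _
    rw [Category.id_comp, levelSysOf_map_succ]
    refine SheafOfModules.hom_ext (PresheafOfModules.hom_ext fun W => ModuleCat.hom_ext (LinearMap.ext fun s => ?_))
    refine Eq.trans (pfK_app f h𝔛 h𝔜 𝔐 k W.unop s) (Eq.trans (pfK_succ f h𝔛 h𝔜 𝔐 k W.unop s).symm ?_)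
    exact congrArg (lvT h𝔜 (pfF f 𝔐) (pfT f 𝔐) k W.unop) (pfK_app f h𝔛 h𝔜 𝔐 (k + 1) W.unop s).symm

/-- The comparison. -/
def pfReal : (pushF f h𝔛 h𝔜).obj (𝔐.realMod h𝔛) ⟶ realLim 𝔜 h𝔜 (pfF f 𝔐) (pfT f 𝔐) :=
  limit.lift _ (pfCone f h𝔛 h𝔜 𝔐)

theorem rp_pfReal (k : ℕ) (W : (𝔜.X 0).Opens) (s : MSec (𝔐.realMod h𝔛) ((f : Hom 𝔛 𝔜).app 0 ⁻¹ᵁ W)) :
    rp h𝔜 (pfF f 𝔐) (pfT f 𝔐) k W ((pfReal f h𝔛 h𝔜 𝔐).val.app (op W) s) =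
      (𝔐.F k).presheaf.map (homOfLE (Hom.lvU_preimage f h𝔛 h𝔜 k W).le).op (rp h𝔛 𝔐.F 𝔐.toPush k _ s) :=
  (congr($(congrArg (fun a : (pushF f h𝔛 h𝔜).obj (𝔐.realMod h𝔛) ⟶ _ => a.val.app (op W))
    (limit.lift_π (pfCone f h𝔛 h𝔜 𝔐) (op k))) s)).trans (pfK_app f h𝔛 h𝔜 𝔐 k W s)

/-- Direct images commute with the limit of the levels. -/
theorem isIso_pfReal : IsIso (pfReal f h𝔛 h𝔜 𝔐) := by
  refine isIso_of_bijective_basis _ fun U z hz => ⟨U, le_rfl, hz, ?_⟩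
  let V' := (f : Hom 𝔛 𝔜).app 0 ⁻¹ᵁ U
  have hmm : ∀ (k : ℕ) {U₁ U₂ : (𝔛.X k).Opens} (h₁ : U₁ ≤ U₂) (h₂ : U₂ ≤ U₁) (z : Γ(𝔐.F k, U₁)),
      (𝔐.F k).presheaf.map (homOfLE h₁).op ((𝔐.F k).presheaf.map (homOfLE h₂).op z) = z := fun k _ _ h₁ h₂ z =>
    (QCohLib.map_map' (𝔐.F k) (homOfLE h₁) (homOfLE h₂) z).trans (congr($((𝔐.F k).presheaf.map_id (op _)) z))
  have e := Hom.lvU_preimage f h𝔛 h𝔜
  constructor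
  · refine (injective_iff_map_eq_zero ((pfReal f h𝔛 h𝔜 𝔐).val.app (op U)).hom).2 fun s hs => ?_
    refine rp_ext h𝔛 _ _ (V := V') fun k => Eq.trans ?_ (map_zero _).symm
    have h1 := (rp_pfReal f h𝔛 h𝔜 𝔐 k U s).symm.trans
      ((congrArg (rp h𝔜 (pfF f 𝔐) (pfT f 𝔐) k U) hs).trans (map_zero _))
    refine (hmm k (e k U).ge (e k U).le _).symm.trans ((congrArg _ h1).trans (map_zero _))
  · intro t
    obtain ⟨s, hs⟩ := exists_rp h𝔛 𝔐.F 𝔐.toPush (V := V')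
      (fun k => (𝔐.F k).presheaf.map (homOfLE (e k U).ge).op (rp h𝔜 (pfF f 𝔐) (pfT f 𝔐) k U t)) fun k => by
        refine Eq.trans ?_ (congrArg ((𝔐.F k).presheaf.map (homOfLE (e k U).ge).op)
          ((lvT_pfT f h𝔛 h𝔜 𝔐 k U _).symm.trans (rp_succ h𝔜 (pfF f 𝔐) (pfT f 𝔐) k U t)))
        exact (hmm k (e k U).ge (e k U).le _).symm
    refine ⟨s, rp_ext h𝔜 _ _ fun k => (rp_pfReal f h𝔛 h𝔜 𝔐 k U s).trans ?_⟩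
    rw [hs k]
    exact hmm k (e k U).le (e k U).ge _

include hloc𝔛 hloc𝔜 hf in
/-- **Direct images of coherent modules along finite morphisms are coherent.** -/
theorem isCohF_pushF_finite [IsFinite ((f : Hom 𝔛 𝔜).app 0)] {𝔉 : ModF 𝔛 hloc𝔛.1} (h𝔉 : IsCohF 𝔛 hloc𝔛.1 𝔉) :
    IsCohF 𝔜 hloc𝔜.1 ((pushF f hloc𝔛.1 hloc𝔜.1).obj 𝔉) := by
  let 𝔐 := levSys hloc𝔛 𝔉
  have h𝔐 : 𝔐.IsCoh := isCoh_levSys hloc𝔛 h𝔉
  let 𝔑 := pfSys f 𝔐 hloc𝔛 hloc𝔜 hf h𝔐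
  have hN : 𝔑.IsCoh := fun k =>
    haveI := FComplLib.isFinite_app f hloc𝔜 hf k
    haveI := hloc𝔜.2.2 k
    QCohLib.isCoh_push_finite _ _ (h𝔐 k)
  have h1 := isCohF_realMod hloc𝔜 𝔑 hN
  have e : 𝔑.realMod hloc𝔜.1 = realLim 𝔜 hloc𝔜.1 (pfF f 𝔐) (pfT f 𝔐) :=
    congrArg (fun t => realLim 𝔜 hloc𝔜.1 (pfF f 𝔐) t) (pfSys_toPush f 𝔐 hloc𝔛 hloc𝔜 hf h𝔐)
  rw [e] at h1
  have := isIso_etaReal hloc𝔛 h𝔉
  have := isIso_pfReal f hloc𝔛.1 hloc𝔜.1 𝔐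
  exact isCohF_of_iso ((pushF f hloc𝔛.1 hloc𝔜.1).mapIso (asIso (etaReal hloc𝔛 𝔉)) ≪≫
    asIso (pfReal f hloc𝔛.1 hloc𝔜.1 𝔐)).symm h1

end FCohLib

end
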