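import Groth.Agent.FCohLib.Closure
import Groth.Agent.FCohLib.FinitePush

/-!
# The kernel of the projection to a level is coherent
-/

set_option autoImplicit false
set_option linter.style.haveILetI false
set_option maxHeartbeats 800000

universe u

open CategoryTheory CategoryTheory.Limits AlgebraicGeometry TopologicalSpace Opposite FSch
open FModLib (MSec RSec oK mres rres lc LocPres piSec)

noncomputable section

namespace FCohLib

variable {𝔛 : Sys.{u}} (hloc : 𝔛.IsLocNoethFormal)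

/-- The section `1` of the structure sheaf. -/
def oneSec (V : (𝔛.X 0).Opens) : MSec (unitF 𝔛 hloc.1) V := (1 : RSec (𝔛.Osh hloc.1) V)

theorem lc_oneSec {W V : (𝔛.X 0).Opens} (hW : W ≤ V) (c : PUnit.{u + 1} → RSec (𝔛.Osh hloc.1) W) :
    lc (unitF 𝔛 hloc.1) hW (fun _ : PUnit.{u + 1} => oneSec hloc V) c =
      (show MSec (unitF 𝔛 hloc.1) W from c default) := by
  rw [FModLib.lc, Fintype.sum_unique]
  have h1 : mres (unitF 𝔛 hloc.1) hW (oneSec hloc V) = oneSec hloc W :=
    map_one ((𝔛.Osh hloc.1).obj.map (homOfLE hW).op).hom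
  exact (congrArg (fun z : MSec (unitF 𝔛 hloc.1) W => c default • z) h1).trans (mul_one (c default))

theorem locPres_oneSec (V : (𝔛.X 0).Opens) :
    LocPres (unitF 𝔛 hloc.1) V (fun _ : PUnit.{u + 1} => oneSec hloc V)
      (fun j : PEmpty.{u + 1} => (j.elim : PUnit.{u + 1} → RSec (𝔛.Osh hloc.1) V)) where
  rel j := j.elim
  gen W hW s q hq := ⟨W, le_rfl, fun _ => (show RSec (𝔛.Osh hloc.1) W from s), hq,
    by
      refine Eq.trans ?_ (lc_oneSec hloc (le_rfl.trans hW) _).symm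
      exact congr($((unitF 𝔛 hloc.1).val.presheaf.map_id (op W)) s)⟩
  ex W hW c hc q hq := ⟨W, le_rfl, fun j => j.elim, hq, fun i => by
    have h2 : c default = 0 := (lc_oneSec hloc hW c).symm.trans hc
    rw [Subsingleton.elim i default, h2]
    exact (map_zero _).trans (Finset.sum_of_isEmpty _).symm⟩

/-- The unit to a level vanishes where the projection of scalars does. -/
theorem piSec_unitF_eq_zero_iff {V : (𝔛.X 0).Opens} (hV : IsAffineOpen V) (k : ℕ) (b : RSec (𝔛.Osh hloc.1) V) :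
    piSec hloc.1 (unitF 𝔛 hloc.1) k V (show MSec (unitF 𝔛 hloc.1) V from b) = 0 ↔ oK hloc.1 k V b = 0 := by
  have hb : (show MSec (unitF 𝔛 hloc.1) V from b) = b • oneSec hloc V := (mul_one b).symm
  refine ⟨fun h => ?_, fun h => ?_⟩
  · let D : FModLib.PresOn hloc.1 (unitF 𝔛 hloc.1) V PUnit.{u + 1} PEmpty.{u + 1} :=
      ⟨_, _, locPres_oneSec hloc V, fun j => presLev_of_locPres hloc _ (locPres_oneSec hloc V) j⟩
    obtain ⟨d, hd⟩ := FModLib.exists_ker hloc (unitF 𝔛 hloc.1) D hV le_rfl k (fun _ => b)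
      ((congrArg (piSec hloc.1 (unitF 𝔛 hloc.1) k V) (lc_oneSec hloc le_rfl fun _ => b)).trans h)
    refine (hd default).trans ?_
    rw [Finset.sum_of_isEmpty]
    exact map_zero ((𝔛.OshProj hloc.1 k).hom.app (op V)).hom
  · rw [hb]
    refine (FModLib.piSec_smul hloc.1 (unitF 𝔛 hloc.1) k b _).trans ?_
    rw [h, zero_smul]

variable {V W : (𝔛.X 0).Opens} (hV : IsAffineOpen V) {g : RSec (𝔛.Osh hloc.1) V} (hb : Basic hloc W g)

include hV hb in
/-- The kernel of the projection to a level is generated on a basic open by its generators. -/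
theorem exists_comb_ker (n : ℕ) {σ : Type u} [Fintype σ] (r : σ → RSec (𝔛.Osh hloc.1) V)
    (hr : ∀ a, oK hloc.1 n V a = 0 → ∃ d : σ → RSec (𝔛.Osh hloc.1) V, a = ∑ l, d l * r l)
    (c : RSec (𝔛.Osh hloc.1) W) (hc : oK hloc.1 n W c = 0) :
    ∃ d : σ → RSec (𝔛.Osh hloc.1) W, c = ∑ l, d l * rres (𝔛.Osh hloc.1) hb.le (r l) := by
  classical
  let ρ : RSec (𝔛.Osh hloc.1) V →+* RSec (𝔛.Osh hloc.1) W := ((𝔛.Osh hloc.1).obj.map (homOfLE hb.le).op).hom
  let oW : ∀ j, RSec (𝔛.Osh hloc.1) W →+* RSec (𝔛.X j).sheaf (𝔛.lvU hloc.1 j W) :=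
    fun j => ((𝔛.OshProj hloc.1 j).hom.app (op W)).hom
  have hdown : ∀ (d j : ℕ) (x y : RSec (𝔛.Osh hloc.1) W), oW (j + d) x = oW (j + d) y → oW j x = oW j y := by
    intro d
    induction d with
    | zero => exact fun j x y h => h
    | succ d ih =>
      intro j x y h
      exact ih j x y ((FModLib.oProj_succ hloc.1 W (j + d) x).symm.trans
        ((congrArg _ h).trans (FModLib.oProj_succ hloc.1 W (j + d) y)))
  obtain ⟨d, hd⟩ := FModLib.exists_rel_of_levels hloc hb.affine (fun l (_ : PUnit.{u + 1}) => ρ (r l)) (fun _ => c)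
    fun k => by
      obtain ⟨E, a, ha⟩ := exists_lift_level hloc hV hb (n + k) (fun _ : PUnit.{u + 1} => c)
      have hak : oW (n + k) (ρ (a default)) = oW (n + k) (ρ g ^ E * c) := by
        rw [map_mul, map_pow]; exact ha default
      have hn : oW n (ρ (a default)) = 0 := by
        rw [hdown k n _ _ hak, map_mul, show oW n c = 0 from hc, mul_zero]
      obtain ⟨M, hM⟩ := exists_pow_kill hloc hV hb n (a default) hn
      obtain ⟨d, hd⟩ := hr _ hM
      obtain ⟨v, hv⟩ := ((isUnit_oK hloc hb k).pow (M + E))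
      obtain ⟨v', hv'⟩ := FModLib.oK_surjective hloc hb.affine k ↑v⁻¹
      refine ⟨fun l => v' * ρ (d l), fun i => ?_⟩
      show oW k c = oW k (∑ l, v' * ρ (d l) * ρ (r l))
      have h6 : ∑ l, v' * ρ (d l) * ρ (r l) = v' * ρ (∑ l, d l * r l) := by
        simp only [map_sum, map_mul, Finset.mul_sum, mul_assoc]
      have hk : oW k (ρ (a default)) = oW k (ρ g ^ E * c) := hdown n k _ _ (Nat.add_comm n k ▸ hak)
      rw [h6, map_mul, ← hd, map_mul, map_mul, map_pow, map_pow, hk, map_mul, map_pow,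
        show oW k v' = ↑v⁻¹ from hv', ← mul_assoc (oW k (ρ g) ^ M), ← pow_add, ← mul_assoc]
      rw [show oW k (ρ g) ^ (M + E) = ↑v from hv.symm, Units.inv_mul, one_mul]
  exact ⟨d, hd default⟩

/-- **The kernel of the projection to a level is coherent.** -/
theorem isCohF_kernel_unit (n : ℕ) :
    IsCohF 𝔛 hloc.1 (kernel ((levelMor 𝔛 hloc.1 n).adj.unit.app (unitF 𝔛 hloc.1))) := by
  classical
  let u' := (levelMor 𝔛 hloc.1 n).adj.unit.app (unitF 𝔛 hloc.1)
  let κθ := kernel.ι u'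
  have hκ : ∀ (W : (𝔛.X 0).Opens) (a b : MSec (kernel u') W), κθ.val.app (op W) a = κθ.val.app (op W) b → a = b :=
    fun W a b h => _root_.ModSiteLib.injective_ap_of_mono κθ W h
  refine FModLib.isFP_of_locPres fun p => ?_
  obtain ⟨V, hV, hpV, -⟩ := Opens.isBasis_iff_nbhd.mp (𝔛.X 0).isBasis_affineOpens (U := ⊤) (x := p) trivial
  obtain ⟨I, hN, hI⟩ := exists_adic hloc hV
  obtain ⟨m, r₀, hr₀⟩ := Submodule.fg_iff_exists_fin_generating_family.1 (IsNoetherian.noetherian (I ^ (n + 1)))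
  let r : ULift.{u} (Fin m) → RSec (𝔛.Osh hloc.1) V := fun l => r₀ l.down
  have hrI : ∀ l, oK hloc.1 n V (r l) = 0 := fun l => (hI n _).2 (hr₀ ▸ Submodule.subset_span ⟨l.down, rfl⟩)
  have hr : ∀ a, oK hloc.1 n V a = 0 → ∃ d : ULift.{u} (Fin m) → RSec (𝔛.Osh hloc.1) V, a = ∑ l, d l * r l := by
    intro a ha
    obtain ⟨d, hd⟩ := (Submodule.mem_span_range_iff_exists_fun _).1 (hr₀.ge ((hI n a).1 ha))
    exact ⟨fun l => d l.down, hd.symm.trans (Fintype.sum_equiv Equiv.ulift.symm _ _ fun l => rfl)⟩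
  choose s hs using fun l => _root_.ModSiteLib.exists_kernel_section u' V
    (show MSec (unitF 𝔛 hloc.1) V from r l) ((piSec_unitF_eq_zero_iff hloc hV n (r l)).2 (hrI l))
  obtain ⟨τ, _, y, hy, hyloc⟩ := exists_local_solution hloc hV (fun l (_ : PUnit.{u + 1}) => r l)
    (fun j : PEmpty.{u + 1} => (j.elim : PUnit.{u + 1} → RSec (𝔛.Osh hloc.1) V))
  have hκlc : ∀ {W : (𝔛.X 0).Opens} (hW : W ≤ V) (b : ULift.{u} (Fin m) → RSec (𝔛.Osh hloc.1) W),
      κθ.val.app (op W) (lc (kernel u') hW s b) =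
        (show MSec (unitF 𝔛 hloc.1) W from ∑ l, b l * rres (𝔛.Osh hloc.1) hW (r l)) :=
    fun hW b => (app_lc κθ hW s b).trans (congrArg (fun q => lc (unitF 𝔛 hloc.1) hW q b) (funext hs))
  refine ⟨V, _, τ, inferInstance, inferInstance, s, y, hpV, ⟨fun j => ?_, fun W hW x q hq => ?_, fun W hW b hb q hq => ?_⟩⟩
  · obtain ⟨d, hd⟩ := hy j
    refine hκ V _ _ (((hκlc le_rfl (y j)).trans ?_).trans (map_zero _).symm)
    have hr' : ∀ x : RSec (𝔛.Osh hloc.1) V, rres (𝔛.Osh hloc.1) le_rfl x = x := fun x =>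
      congr($((congrArg (𝔛.Osh hloc.1).obj.map (Subsingleton.elim _ (𝟙 (op V)))).trans ((𝔛.Osh hloc.1).obj.map_id _)) x)
    simp only [hr']
    exact (hd default).trans (Finset.sum_of_isEmpty _)
  · obtain ⟨W', g, hb, hqW', hW'W⟩ := exists_basic_le hloc hV hW hq
    let x' : RSec (𝔛.Osh hloc.1) W' := κθ.val.app (op W') (mres (kernel u') hW'W x)
    obtain ⟨d, hd⟩ := exists_comb_ker hloc hV hb n r hr x' ((piSec_unitF_eq_zero_iff hloc hb.affine n x').1
      (congr($(congrArg (fun a : kernel u' ⟶ _ => a.val.app (op W')) (kernel.condition u')) (mres (kernel u') hW'W x))))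
    exact ⟨W', hW'W, d, hqW', hκ W' _ _ (Eq.trans (show κθ.val.app (op W') (mres (kernel u') hW'W x) = _ from hd)
      (hκlc _ d).symm)⟩
  · have h0 := (hκlc hW b).symm.trans ((congrArg (κθ.val.app (op W)) hb).trans (map_zero _))
    obtain ⟨W₂, hW₂, a, hqW₂, ha⟩ := hyloc W hW b (fun j => j.elim)
      (fun _ => h0.trans (Finset.sum_of_isEmpty _).symm) q hq
    exact ⟨W₂, hW₂, a, hqW₂, ha⟩

/-- Finite free modules are coherent. -/
theorem isCohF_free {𝔛 : Sys.{u}} (h : 𝔛.IsFormal) (ι : Type u) [Finite ι] :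
    IsCohF 𝔛 h (SheafOfModules.free (R := ModSite.ringSh (𝔛.Osh h)) ι) := by
  classical
  cases nonempty_fintype ι
  let P : ModF 𝔛 h := SheafOfModules.free (R := ModSite.ringSh (𝔛.Osh h)) ι
  let co : ι → (P ⟶ unitF 𝔛 h) := fun i => Cofan.IsColimit.desc (SheafOfModules.isColimitFreeCofan ι)
    fun k => if k = i then 𝟙 _ else 0
  have hco : ∀ k i, SheafOfModules.ιFree (R := ModSite.ringSh (𝔛.Osh h)) k ≫ co i = if k = i then 𝟙 _ else 0 :=
    fun k i => Cofan.IsColimit.fac (SheafOfModules.isColimitFreeCofan ι) _ k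
  have hsum : ∑ i, co i ≫ SheafOfModules.ιFree (R := ModSite.ringSh (𝔛.Osh h)) i = 𝟙 P := by
    refine Cofan.IsColimit.hom_ext (SheafOfModules.isColimitFreeCofan ι) _ _ fun k => ?_
    show SheafOfModules.ιFree k ≫ _ = SheafOfModules.ιFree k ≫ 𝟙 _
    rw [Preadditive.comp_sum, Finset.sum_eq_single k, ← Category.assoc, hco, if_pos rfl, Category.id_comp,
      Category.comp_id]
    · intro i _ hi
      rw [← Category.assoc, hco, if_neg (Ne.symm hi), zero_comp]
    · exact fun h => absurd (Finset.mem_univ k) h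
  let ι' : ∀ (W : (𝔛.X 0).Opens), ι → RSec (𝔛.Osh h) W → MSec P W := fun W i b =>
    (SheafOfModules.ιFree (R := ModSite.ringSh (𝔛.Osh h)) i).val.app (op W) b
  have happ : ∀ (W : (𝔛.X 0).Opens) (i : ι) (b : RSec (𝔛.Osh h) W), ι' W i b = b • ι' W i 1 := fun W i b =>
    (congrArg (ι' W i) (mul_one b).symm).trans (map_smul ((SheafOfModules.ιFree (R := ModSite.ringSh (𝔛.Osh h)) i).val.app (op W)).hom b (1 : RSec (𝔛.Osh h) W))
  have hres : ∀ (W : (𝔛.X 0).Opens) (i : ι), mres P (le_top : W ≤ ⊤) (ι' ⊤ i 1) = ι' W i 1 := fun W i =>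
    (PresheafOfModules.naturality_apply (SheafOfModules.ιFree (R := ModSite.ringSh (𝔛.Osh h)) i).val
      (homOfLE (le_top : W ≤ ⊤)).op (1 : RSec (𝔛.Osh h) ⊤)).symm.trans
      (congrArg (ι' W i) (map_one ((𝔛.Osh h).obj.map (homOfLE (le_top : W ≤ ⊤)).op).hom))
  have hlc : ∀ (W : (𝔛.X 0).Opens) (hW : W ≤ ⊤) (c : ι → RSec (𝔛.Osh h) W),
      lc P hW (fun i => ι' ⊤ i 1) c = ∑ i, ι' W i (c i) := fun W hW c =>
    Finset.sum_congr rfl fun i _ => (congrArg (fun z : MSec P W => c i • z) (hres W i)).trans (happ W i (c i)).symm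
  refine FModLib.isFP_of_locPres fun p => ⟨⊤, ι, PEmpty.{u + 1}, inferInstance, inferInstance,
    fun i => ι' ⊤ i 1, fun j => j.elim, trivial, ⟨fun j => j.elim, fun W hW s q hq => ?_, fun W hW c hc q hq => ?_⟩⟩
  · refine ⟨W, le_rfl, fun i => (co i).val.app (op W) s, hq, Eq.trans ?_ (hlc W _ _).symm⟩
    refine (show mres P le_rfl s = s from congr($(P.val.presheaf.map_id (op W)) s)).trans ?_
    refine (congr($(congrArg (fun a : P ⟶ P => a.val.app (op W)) hsum.symm) s)).trans ?_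
    exact map_sum (AddMonoidHom.mk' (fun f : P ⟶ P => f.val.app (op W) s) fun _ _ => rfl) _ Finset.univ
  · refine ⟨W, le_rfl, fun j => j.elim, hq, fun i => ?_⟩
    have h0 := congrArg ((co i).val.app (op W)) ((hlc W hW c).symm.trans hc)
    rw [map_sum, map_zero, Finset.sum_eq_single i] at h0
    · have h1 : (co i).val.app (op W) (ι' W i (c i)) = c i :=
        congr($(congrArg (fun a : _ ⟶ unitF 𝔛 h => a.val.app (op W)) ((hco i i).trans (if_pos rfl))) (c i))
      rw [show c i = 0 from h1.symm.trans h0]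
      exact (map_zero _).trans (Finset.sum_of_isEmpty _).symm
    · intro k _ hk
      exact congr($(congrArg (fun a : _ ⟶ unitF 𝔛 h => a.val.app (op W)) ((hco k i).trans (if_neg hk))) (c k))
    · exact fun h => absurd (Finset.mem_univ i) h

end FCohLib
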