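import Groth.Agent.FModLib.QPres
import Groth.Agent.FCohLib.Closure

/-!
# Quasi-coherent modules of finite type on a formal scheme are coherent
-/

set_option autoImplicit false
set_option linter.style.haveILetI false
set_option maxHeartbeats 800000

universe u

open CategoryTheory CategoryTheory.Limits AlgebraicGeometry TopologicalSpace Opposite FSch
open FModLib (MSec RSec oK mres rres lc LocPres QPres)

noncomputable section

namespace FCohLib

section Sep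

variable {X : TopCat.{u}} {O : Sheaf (Opens.grothendieckTopology X) CommRingCat.{u}}

theorem rres_zero_of_points {V : Opens X} (a : RSec O V)
    (h : ∀ p ∈ V, ∃ (W : Opens X) (hW : W ≤ V), p ∈ W ∧ rres O hW a = 0) : a = 0 := by
  choose W hW hpW h0 using fun p : V => h p.1 p.2
  refine TopCat.Sheaf.eq_of_locally_eq' (O : TopCat.Sheaf CommRingCat _) W V (fun p => homOfLE (hW p))
    (fun p hp => Opens.mem_iSup.mpr ⟨⟨p, hp⟩, hpW ⟨p, hp⟩⟩) a 0 fun p => ?_
  exact (h0 p).trans (map_zero _).symm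

/-- Finitely many local choices suffice on a quasi-compact open. -/
theorem exists_finset_cover {α : Type u} {V : Opens X} (hV : IsCompact (V : Set X))
    (P : ∀ (W : Opens X), W ≤ V → Finset α → Prop)
    (h : ∀ p ∈ V, ∃ (W : Opens X) (hW : W ≤ V) (F : Finset α), p ∈ W ∧ P W hW F) :
    ∃ F : Finset α, ∀ p ∈ V, ∃ (W : Opens X) (hW : W ≤ V) (F' : Finset α), p ∈ W ∧ F' ⊆ F ∧ P W hW F' := by
  classical
  choose W hW F hpW hP using fun p : V => h p.1 p.2
  obtain ⟨t, ht⟩ := hV.elim_finite_subcover (fun p : V => (W p : Set X)) (fun p => (W p).isOpen)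
    (fun p hp => Set.mem_iUnion.2 ⟨⟨p, hp⟩, hpW ⟨p, hp⟩⟩)
  refine ⟨t.biUnion F, fun p hp => ?_⟩
  obtain ⟨q, hq, hpq⟩ := Set.mem_iUnion₂.1 (ht hp)
  exact ⟨W q, hW q, F q, hpq, Finset.subset_biUnion_of_mem F hq, hP q⟩

end Sep

variable {𝔛 : Sys.{u}} (hloc : 𝔛.IsLocNoethFormal) {𝔉 : ModF 𝔛 hloc.1} {σ κ : Type u}
  {U V : (𝔛.X 0).Opens} (hV : IsAffineOpen V) (hVU : V ≤ U) {s : σ → MSec 𝔉 U}
  {r : κ → σ → RSec (𝔛.Osh hloc.1) U} (Q : QPres 𝔉 U s r)

include Q hV in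
theorem exists_supp (j : κ) :
    ∃ F : Finset σ, (∀ i ∉ F, rres (𝔛.Osh hloc.1) hVU (r j i) = 0) ∧
      ∑ i ∈ F, (rres (𝔛.Osh hloc.1) hVU (r j i) • mres 𝔉 hVU (s i) : MSec 𝔉 V) = 0 := by
  classical
  let sV : σ → MSec 𝔉 V := fun i => mres 𝔉 hVU (s i)
  let rV : σ → RSec (𝔛.Osh hloc.1) V := fun i => rres (𝔛.Osh hloc.1) hVU (r j i)
  obtain ⟨F, hF⟩ := exists_finset_cover hV.isCompact (fun W hW F => (∀ i ∉ F, rres (𝔛.Osh hloc.1) hW (rV i) = 0) ∧
      ∑ i ∈ F, (rres (𝔛.Osh hloc.1) hW (rV i) • mres 𝔉 hW (sV i) : MSec 𝔉 W) = 0) fun p hp => by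
    obtain ⟨W, hW, F, hpW, h0, h1⟩ := Q.supp j p (hVU hp)
    have hWW : W ⊓ V ≤ W := inf_le_left
    refine ⟨W ⊓ V, inf_le_right, F, ⟨hpW, hp⟩, fun i hi => ?_, ?_⟩
    · refine (FModLib.rres_rres inf_le_right hVU (r j i)).trans ?_
      exact (FModLib.rres_rres hWW hW (r j i)).symm.trans ((congrArg _ (h0 i hi)).trans (map_zero _))
    · refine Eq.trans ?_ ((congrArg (mres 𝔉 hWW) h1).trans (map_zero _))
      refine Eq.trans ?_ (map_sum (𝔉.val.map (homOfLE hWW).op).hom _ _).symm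
      refine Finset.sum_congr rfl fun i _ => Eq.trans ?_ (PresheafOfModules.map_smul 𝔉.val (homOfLE hWW).op _ _).symm
      exact congrArg₂ (fun (a : RSec (𝔛.Osh hloc.1) (W ⊓ V)) (z : MSec 𝔉 (W ⊓ V)) => a • z)
        ((FModLib.rres_rres inf_le_right hVU (r j i)).trans (FModLib.rres_rres hWW hW (r j i)).symm)
        ((FModLib.mres_mres 𝔉 inf_le_right hVU (s i)).trans (FModLib.mres_mres 𝔉 hWW hW (s i)).symm)
  refine ⟨F, fun i hi => rres_zero_of_points _ fun p hp => ?_, eq_zero_of_points 𝔉 _ fun p hp => ?_⟩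
  · obtain ⟨W, hW, F', hpW, hF', h0, -⟩ := hF p hp
    exact ⟨W, hW, hpW, h0 i fun h => hi (hF' h)⟩
  · obtain ⟨W, hW, F', hpW, hF', h0, h1⟩ := hF p hp
    refine ⟨W, hW, hpW, (map_sum (𝔉.val.map (homOfLE hW).op).hom _ _).trans (Eq.trans ?_ h1)⟩
    refine (Finset.sum_subset hF' fun i _ hi => ?_).symm.trans (Finset.sum_congr rfl fun i _ => ?_)
    · refine (PresheafOfModules.map_smul 𝔉.val (homOfLE hW).op _ _).trans ?_
      exact (congrArg (fun a : RSec (𝔛.Osh hloc.1) W => (a • mres 𝔉 hW (sV i) : MSec 𝔉 W)) (h0 i hi)).trans (zero_smul _ _)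
    · exact PresheafOfModules.map_smul 𝔉.val (homOfLE hW).op _ _

include Q hV in
/-- If finitely many of the sections generate, all of them are combinations of these over an affine open. -/
theorem exists_coeff (σ₀ : Finset σ)
    (hgen : ∀ (W : (𝔛.X 0).Opens) (hW : W ≤ V) (x : MSec 𝔉 W), ∀ p ∈ W,
      ∃ (W' : (𝔛.X 0).Opens) (hW' : W' ≤ W) (c : σ₀ → RSec (𝔛.Osh hloc.1) W'), p ∈ W' ∧
        mres 𝔉 hW' x = lc 𝔉 (hW'.trans hW) (fun l : σ₀ => mres 𝔉 hVU (s l)) c) (j : σ) :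
    ∃ a : σ₀ → RSec (𝔛.Osh hloc.1) V, lc 𝔉 le_rfl (fun l : σ₀ => mres 𝔉 hVU (s l)) a = mres 𝔉 hVU (s j) := by
  classical
  let O := 𝔛.Osh hloc.1
  let sV : σ → MSec 𝔉 V := fun i => mres 𝔉 hVU (s i)
  let rV : κ → σ → RSec O V := fun g i => rres O hVU (r g i)
  let δ : ∀ {W : (𝔛.X 0).Opens}, σ → σ → RSec O W := fun {W} k i => if i = k then 1 else 0
  obtain ⟨G, hG⟩ := exists_finset_cover (α := κ) hV.isCompact (fun W hW G =>
      ∃ (c : σ₀ → RSec O W) (d : κ → RSec O W),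
        ∀ i, δ j i = (∑ l : σ₀, c l * δ l.1 i) + ∑ g ∈ G, d g * rres O hW (rV g i)) fun p hp => by
    obtain ⟨W, hW, c, hpW, hc⟩ := hgen V le_rfl (sV j) p hp
    let v : σ → RSec O W := fun i => δ j i - ∑ l : σ₀, c l * δ l.1 i
    have hδ : ∀ (k : σ) (F : Finset σ), k ∈ F →
        ∑ i ∈ F, ((δ k i : RSec O W) • mres 𝔉 (hW.trans hVU) (s i) : MSec 𝔉 W) = mres 𝔉 hW (sV k) := by
      intro k F hk
      rw [Finset.sum_eq_single k]
      · refine (congrArg (fun a : RSec O W => (a • mres 𝔉 (hW.trans hVU) (s k) : MSec 𝔉 W)) (if_pos rfl)).trans ?_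
        exact (one_smul _ _).trans (FModLib.mres_mres 𝔉 hW hVU (s k)).symm
      · intro i _ hi
        exact (congrArg (fun a : RSec O W => (a • mres 𝔉 (hW.trans hVU) (s i) : MSec 𝔉 W)) (if_neg hi)).trans
          (zero_smul _ _)
      · exact fun h => absurd hk h
    obtain ⟨W', hW', G, d, hpW', hd⟩ := Q.ex W (hW.trans hVU) (insert j σ₀) v (fun i hi => by
        rw [Finset.mem_insert, not_or] at hi
        show δ j i - _ = 0
        rw [sub_eq_zero]
        refine (if_neg hi.1).trans (Finset.sum_eq_zero fun l _ => ?_).symm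
        refine (congrArg (fun a => c l * a) (if_neg ?_)).trans (mul_zero _)
        rintro rfl
        exact hi.2 l.2)
      (by
        have h2 : ∑ i ∈ insert j σ₀, ((∑ l : σ₀, c l * δ l.1 i) • mres 𝔉 (hW.trans hVU) (s i) : MSec 𝔉 W) =
            mres 𝔉 hW (sV j) := by
          refine Eq.trans ?_ hc.symm
          refine (Finset.sum_congr rfl fun i _ => Finset.sum_smul).trans (Finset.sum_comm.trans ?_)
          refine Finset.sum_congr rfl fun l _ => ?_
          refine Eq.trans (Finset.sum_congr rfl fun i _ => mul_smul (c l) (δ l.1 i) _) ?_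
          refine Finset.smul_sum.symm.trans (congrArg (fun z : MSec 𝔉 W => c l • z) ?_)
          exact hδ l.1 (insert j σ₀) (Finset.mem_insert_of_mem l.2)
        have h3 : ∑ i ∈ insert j σ₀, (v i • mres 𝔉 (hW.trans hVU) (s i) : MSec 𝔉 W) =
            ∑ i ∈ insert j σ₀, (δ j i • mres 𝔉 (hW.trans hVU) (s i) : MSec 𝔉 W) -
              ∑ i ∈ insert j σ₀, ((∑ l : σ₀, c l * δ l.1 i) • mres 𝔉 (hW.trans hVU) (s i) : MSec 𝔉 W) :=
          (Finset.sum_congr rfl fun i _ => sub_smul _ _ _).trans (Finset.sum_sub_distrib _ _)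
        exact h3.trans (sub_eq_zero.2 ((hδ j _ (Finset.mem_insert_self _ _)).trans h2.symm))) p hpW
    let ρ : RSec O W →+* RSec O W' := (O.obj.map (homOfLE hW').op).hom
    have hρδ : ∀ k i, ρ (δ k i) = δ k i := fun k i => by
      show ρ (if i = k then 1 else 0) = if i = k then 1 else 0
      split_ifs
      · exact map_one ρ
      · exact map_zero ρ
    refine ⟨W', hW'.trans hW, G, hpW', fun l => ρ (c l), d, fun i => ?_⟩
    have h4 : ρ (δ j i) - ∑ l : σ₀, ρ (c l) * δ l.1 i = ∑ g ∈ G, d g * rres O (hW'.trans hW) (rV g i) := by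
      refine Eq.trans ?_ ((hd i).trans (Finset.sum_congr rfl fun g _ => ?_))
      · refine Eq.trans ?_ (map_sub ρ (δ j i) _).symm
        refine congrArg (fun z => ρ (δ j i) - z) (Eq.trans ?_ (map_sum ρ _ _).symm)
        exact Finset.sum_congr rfl fun l _ => ((map_mul ρ _ _).trans (congrArg (fun z => ρ (c l) * z) (hρδ _ _))).symm
      · exact congrArg (fun z => d g * z) (FModLib.rres_rres (hW'.trans hW) hVU (r g i)).symm
    rw [hρδ] at h4
    exact (sub_eq_iff_eq_add'.1 h4)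
  choose F hF0 hFs using fun g : κ => exists_supp hloc hV hVU Q g
  let I : Finset σ := insert j σ₀ ∪ G.biUnion F
  let z : σ₀ ⊕ G → I → RSec O V := Sum.elim (fun l i => δ l.1 i.1) fun g i => rV g.1 i.1
  obtain ⟨d, hd⟩ := exists_comb_of_local_real hloc hV z (fun i => δ j i.1) fun p hp => by
    obtain ⟨W, hW, G', hpW, hG', c, d, hcd⟩ := hG p hp
    refine ⟨W, hW, Sum.elim c fun g => if g.1 ∈ G' then d g.1 else 0, hpW, fun i => ?_⟩
    let ρ : RSec O V →+* RSec O W := (O.obj.map (homOfLE hW).op).hom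
    have hρδ : ∀ k i, ρ (δ k i) = δ k i := fun k i => by
      show ρ (if i = k then 1 else 0) = if i = k then 1 else 0
      split_ifs
      · exact map_one ρ
      · exact map_zero ρ
    refine (hρδ j i.1).trans ((hcd i.1).trans ?_)
    rw [Fintype.sum_sum_type]
    refine congrArg₂ (fun a b => a + b) (Finset.sum_congr rfl fun l _ => congrArg (fun q => c l * q) (hρδ l.1 i.1).symm) ?_
    refine Eq.trans ?_ (Finset.sum_coe_sort G (fun g => (if g ∈ G' then d g else 0) * rres O hW (rV g i.1))).symm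
    refine Eq.trans (Finset.sum_congr rfl fun g hg => ?_) (Finset.sum_subset hG' fun g _ hg => ?_)
    · exact congrArg (fun q => q * rres O hW (rV g i.1)) (if_pos hg).symm
    · rw [if_neg hg, zero_mul]
  refine ⟨fun l => d (Sum.inl l), ?_⟩
  have hsI : ∀ g ∈ G, ∑ i ∈ I, (rV g i • sV i : MSec 𝔉 V) = 0 := fun g hg => by
    refine Eq.trans (Finset.sum_subset (fun i hi => Finset.mem_union_right _ (Finset.mem_biUnion.2 ⟨g, hg, hi⟩))
      fun i _ hi => ?_).symm (hFs g)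
    exact (congrArg (fun a : RSec O V => (a • sV i : MSec 𝔉 V)) (hF0 g i hi)).trans (zero_smul _ _)
  have hδI : ∀ k ∈ I, ∑ i ∈ I, (δ k i • sV i : MSec 𝔉 V) = sV k := fun k hk => by
    rw [Finset.sum_eq_single k]
    · exact (congrArg (fun a : RSec O V => (a • sV k : MSec 𝔉 V)) (if_pos rfl)).trans (one_smul _ _)
    · exact fun i _ hi => (congrArg (fun a : RSec O V => (a • sV i : MSec 𝔉 V)) (if_neg hi)).trans (zero_smul _ _)
    · exact fun h => absurd hk h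
  refine Eq.trans ?_ (hδI j (Finset.mem_union_left _ (Finset.mem_insert_self _ _)))
  refine Eq.trans ?_ (Finset.sum_coe_sort I fun i => (δ j i • sV i : MSec 𝔉 V))
  refine Eq.trans ?_ (Finset.sum_congr rfl fun i _ => congrArg (fun a : RSec O V => (a • sV i.1 : MSec 𝔉 V)) (hd i)).symm
  refine Eq.trans ?_ ((Finset.sum_congr rfl fun i _ => Finset.sum_smul).trans Finset.sum_comm).symm
  rw [Fintype.sum_sum_type]
  refine Eq.trans ?_ (congrArg₂ (fun a b => a + b) rfl (Finset.sum_eq_zero fun g _ => ?_) |>.trans (add_zero _)).symm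
  · refine Finset.sum_congr rfl fun l _ => ?_
    refine Eq.trans ?_ (Finset.sum_congr rfl fun i _ => mul_smul (d (Sum.inl l)) _ _).symm
    refine Eq.trans ?_ Finset.smul_sum
    refine congrArg (fun z : MSec 𝔉 V => d (Sum.inl l) • z) ?_
    refine Eq.trans ?_ (Finset.sum_coe_sort I fun i => (δ l.1 i • sV i : MSec 𝔉 V)).symm
    refine Eq.trans ?_ (hδI l.1 (Finset.mem_union_left _ (Finset.mem_insert_of_mem l.2))).symm
    exact congr($((congrArg 𝔉.val.presheaf.map (Subsingleton.elim _ (𝟙 (op V)))).trans (𝔉.val.presheaf.map_id _)) (sV l.1))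
  · refine Eq.trans (Finset.sum_congr rfl fun i _ => mul_smul (d (Sum.inr g)) _ _) ?_
    refine Finset.smul_sum.symm.trans ?_
    refine (congrArg (fun z : MSec 𝔉 V => d (Sum.inr g) • z) ?_).trans (smul_zero _)
    exact (Finset.sum_coe_sort I fun i => (rV g.1 i • sV i : MSec 𝔉 V)).trans (hsI g.1 g.2)

/-- Local generation by finitely many sections. -/
def FinGen (𝔉 : ModF 𝔛 hloc.1) : Prop :=
  ∀ p, ∃ (U : (𝔛.X 0).Opens) (n : Type u) (_ : Fintype n) (e : n → MSec 𝔉 U), p ∈ U ∧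
    ∀ (V : (𝔛.X 0).Opens) (hV : V ≤ U) (x : MSec 𝔉 V), ∀ q ∈ V,
      ∃ (W : (𝔛.X 0).Opens) (hW : W ≤ V) (c : n → RSec (𝔛.Osh hloc.1) W), q ∈ W ∧
        mres 𝔉 hW x = lc 𝔉 (hW.trans hV) e c

theorem isCohF_of_finGen (𝔉 : ModF 𝔛 hloc.1) (hq : SheafOfModules.IsQuasicoherent.{u} 𝔉)
    (hfg : FinGen hloc 𝔉) : IsCohF 𝔛 hloc.1 𝔉 := by
  classical
  refine FModLib.isFP_of_locPres fun p => ?_
  obtain ⟨U₁, σ, κ, s, r, hpU₁, Q⟩ := FModLib.exists_qPres 𝔉 hq p
  obtain ⟨U₂, n, _, e, hpU₂, hgen⟩ := hfg p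
  choose W hW F c hpW hc using fun k : n => Q.gen (U₁ ⊓ U₂) inf_le_left (mres 𝔉 inf_le_right (e k)) p ⟨hpU₁, hpU₂⟩
  obtain ⟨V, hV, hpV, hVW⟩ := Opens.isBasis_iff_nbhd.mp (𝔛.X 0).isBasis_affineOpens
    (U := U₁ ⊓ U₂ ⊓ Finset.univ.inf W) (x := p)
    ⟨⟨hpU₁, hpU₂⟩, by
      rw [SetLike.mem_coe, ← SetLike.mem_coe, Opens.coe_finset_inf, Finset.inf_set_eq_iInter]
      exact Set.mem_iInter₂.2 fun k _ => hpW k⟩
  have hVU : V ≤ U₁ := hVW.trans (inf_le_left.trans inf_le_left)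
  have hV2 : V ≤ U₂ := hVW.trans (inf_le_left.trans inf_le_right)
  let O := 𝔛.Osh hloc.1
  let σ₀ : Finset σ := Finset.univ.biUnion F
  let s₀ : σ₀ → MSec 𝔉 V := fun l => mres 𝔉 hVU (s l.1)
  have hVk : ∀ k, V ≤ W k := fun k => hVW.trans (inf_le_right.trans (Finset.inf_le (Finset.mem_univ k)))
  let B : n → σ₀ → RSec O V := fun k l => if l.1 ∈ F k then rres O (hVk k) (c k l.1) else 0
  have hB : ∀ k, mres 𝔉 hV2 (e k) = lc 𝔉 le_rfl s₀ (B k) := fun k => by
    have h1 : mres 𝔉 hV2 (e k) = mres 𝔉 (hVk k) (mres 𝔉 (hW k) (mres 𝔉 inf_le_right (e k))) :=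
      ((FModLib.mres_mres 𝔉 (hVk k) (hW k) _).trans (FModLib.mres_mres 𝔉 _ inf_le_right (e k))).symm
    refine h1.trans ((congrArg (mres 𝔉 (hVk k)) (hc k)).trans ?_)
    refine (map_sum (𝔉.val.map (homOfLE (hVk k)).op).hom _ _).trans ?_
    refine Eq.trans ?_ (Finset.sum_coe_sort σ₀ fun i =>
      ((if i ∈ F k then rres O (hVk k) (c k i) else 0) • mres 𝔉 le_rfl (mres 𝔉 hVU (s i)) : MSec 𝔉 V)).symm
    refine Eq.trans ?_ (Finset.sum_subset (Finset.subset_biUnion_of_mem F (Finset.mem_univ k)) fun i _ hi => ?_)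
    · refine Finset.sum_congr rfl fun i hi => (PresheafOfModules.map_smul 𝔉.val (homOfLE (hVk k)).op _ _).trans ?_
      exact congrArg₂ (fun (a : RSec O V) (z : MSec 𝔉 V) => a • z) (if_pos hi).symm
        ((FModLib.mres_mres 𝔉 (hVk k) _ (s i)).trans (FModLib.mres_mres 𝔉 le_rfl hVU (s i)).symm)
    · exact (congrArg (fun a : RSec O V => (a • mres 𝔉 le_rfl (mres 𝔉 hVU (s i)) : MSec 𝔉 V)) (if_neg hi)).trans
        (zero_smul _ _)
  have hgen₀ : ∀ (W' : (𝔛.X 0).Opens) (hW' : W' ≤ V) (x : MSec 𝔉 W'), ∀ q ∈ W',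
      ∃ (W'' : (𝔛.X 0).Opens) (hW'' : W'' ≤ W') (d : σ₀ → RSec O W''), q ∈ W'' ∧
        mres 𝔉 hW'' x = lc 𝔉 (hW''.trans hW') s₀ d := by
    intro W' hW' x q hq
    obtain ⟨W'', hW'', d, hqW, hd⟩ := hgen W' (hW'.trans hV2) x q hq
    refine ⟨W'', hW'', fun l => ∑ k, d k * rres O (hW''.trans hW') (B k l), hqW, hd.trans ?_⟩
    refine Eq.trans ?_ (lc_comp 𝔉 (hW''.trans hW') s₀ B d)
    refine Finset.sum_congr rfl fun k _ => congrArg (fun z : MSec 𝔉 W'' => d k • z) ?_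
    exact (FModLib.mres_mres 𝔉 (hW''.trans hW') hV2 (e k)).symm.trans (congrArg _ (hB k))
  choose a ha using fun j => exists_coeff hloc hV hVU Q σ₀ hgen₀ j
  let a' : σ → σ₀ → RSec O V := fun j l => if j ∈ σ₀ then (if l.1 = j then 1 else 0) else a j l
  have ha' : ∀ j, lc 𝔉 le_rfl s₀ (a' j) = mres 𝔉 hVU (s j) := fun j => by
    by_cases hj : j ∈ σ₀
    · refine (Finset.sum_eq_single ⟨j, hj⟩ (fun l _ hl => ?_) (fun h => absurd (Finset.mem_univ _) h)).trans ?_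
      · refine (congrArg (fun b : RSec O V => (b • mres 𝔉 le_rfl (s₀ l) : MSec 𝔉 V))
          ((if_pos hj).trans (if_neg fun h => hl (Subtype.ext h)))).trans (zero_smul _ _)
      · refine (congrArg (fun b : RSec O V => (b • mres 𝔉 le_rfl (s₀ ⟨j, hj⟩) : MSec 𝔉 V))
          ((if_pos hj).trans (if_pos rfl))).trans ((one_smul _ _).trans ?_)
        exact FModLib.mres_mres 𝔉 le_rfl hVU (s j)
    · rw [show a' j = a j from funext fun l => if_neg hj]
      exact ha j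
  choose Fs hF0 hFs using fun g : κ => exists_supp hloc hV hVU Q g
  let ρ : κ → σ₀ → RSec O V := fun g l => ∑ i ∈ Fs g, rres O hVU (r g i) * a' i l
  have hρrel : ∀ g, lc 𝔉 le_rfl s₀ (ρ g) = 0 := fun g => by
    refine Eq.trans ?_ (hFs g)
    refine (Finset.sum_congr rfl fun l _ => Finset.sum_smul).trans (Finset.sum_comm.trans ?_)
    refine Finset.sum_congr rfl fun i _ => ?_
    refine (Finset.sum_congr rfl fun l _ => mul_smul _ _ _).trans (Finset.smul_sum.symm.trans ?_)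
    exact congrArg (fun z : MSec 𝔉 V => rres O hVU (r g i) • z) (ha' i)
  obtain ⟨-, hN, -⟩ := exists_adic hloc hV
  obtain ⟨T, hT, hTs⟩ := Submodule.fg_span_iff_fg_span_finset_subset (R := RSec O V) (Set.range ρ) |>.1
    (IsNoetherian.noetherian _)
  refine ⟨V, σ₀, T, inferInstance, inferInstance, s₀, fun t => t.1, hpV,
    ⟨fun t => ?_, hgen₀, fun W' hW' d hd q hq => ?_⟩⟩
  · obtain ⟨g, hg⟩ := hT t.2
    exact (congrArg (lc 𝔉 _ s₀) hg.symm).trans (hρrel g)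
  · let dt : σ → RSec O W' := fun i => if h : i ∈ σ₀ then d ⟨i, h⟩ else 0
    have h0 : ∑ i ∈ σ₀, (dt i • mres 𝔉 (hW'.trans hVU) (s i) : MSec 𝔉 W') = 0 := by
      refine (Finset.sum_coe_sort σ₀ _).symm.trans (Eq.trans (Finset.sum_congr rfl fun l _ => ?_) hd)
      exact congrArg₂ (fun (b : RSec O W') (z : MSec 𝔉 W') => b • z) (dif_pos l.2)
        (FModLib.mres_mres 𝔉 hW' hVU (s l.1)).symm
    obtain ⟨W'', hW'', G, b, hqW, hb⟩ := Q.ex W' (hW'.trans hVU) σ₀ dt (fun i hi => dif_neg hi) h0 q hq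
    have hβ : ∀ g : κ, ∃ β : T → RSec O V, ∑ t, β t • t.1 = ρ g := fun g => by
      have h : ρ g ∈ Submodule.span (RSec O V) (Set.range ρ) := Submodule.subset_span ⟨g, rfl⟩
      rw [hTs, ← Subtype.range_coe (s := (T : Set (σ₀ → RSec O V)))] at h
      exact (Submodule.mem_span_range_iff_exists_fun (RSec O V)).1 h
    choose β hβ using hβ
    have hW2 : W'' ≤ V := hW''.trans hW'
    let φ : RSec O V →+* RSec O W'' := (O.obj.map (homOfLE hW2).op).hom
    let ψ : RSec O W' →+* RSec O W'' := (O.obj.map (homOfLE hW'').op).hom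
    refine ⟨W'', hW'', fun t => ∑ g ∈ G, b g * φ (β g t), hqW, fun l => ?_⟩
    let I : Finset σ := σ₀ ∪ G.biUnion Fs
    have hl : ψ (d l) = ∑ i ∈ I, ψ (dt i) * φ (a' i l) := by
      rw [Finset.sum_eq_single l.1]
      · rw [show dt l.1 = d l from dif_pos l.2, show a' l.1 l = 1 from (if_pos l.2).trans (if_pos rfl), map_one, mul_one]
      · intro i _ hi
        by_cases h : i ∈ σ₀
        · rw [show a' i l = 0 from (if_pos h).trans (if_neg fun e => hi e.symm), map_zero, mul_zero]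
        · rw [show dt i = 0 from dif_neg h, map_zero, zero_mul]
      · exact fun h => absurd (Finset.mem_union_left _ l.2) h
    have hρ' : ∀ g ∈ G, φ (ρ g l) = ∑ i ∈ I, φ (rres O hVU (r g i)) * φ (a' i l) := fun g hg => by
      simp only [ρ, map_sum, map_mul]
      refine Finset.sum_subset (fun i hi => Finset.mem_union_right _ (Finset.mem_biUnion.2 ⟨g, hg, hi⟩)) fun i _ hi => ?_
      rw [show rres O hVU (r g i) = 0 from hF0 g i hi, map_zero, zero_mul]
    have h1 : ψ (d l) = ∑ g ∈ G, b g * φ (ρ g l) := by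
      rw [hl, Finset.sum_congr rfl fun g hg => congrArg (fun z => b g * z) (hρ' g hg)]
      simp only [Finset.mul_sum]
      rw [Finset.sum_comm]
      refine Finset.sum_congr rfl fun i _ => ?_
      rw [show ψ (dt i) = _ from hb i, Finset.sum_mul]
      refine Finset.sum_congr rfl fun g _ => ?_
      rw [mul_assoc, ← FModLib.rres_rres hW2 hVU (r g i)]
    show ψ (d l) = ∑ t : T, (∑ g ∈ G, b g * φ (β g t)) * φ (t.1 l)
    rw [h1]
    simp only [Finset.sum_mul]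
    rw [Finset.sum_comm]
    refine Finset.sum_congr rfl fun g _ => ?_
    rw [← congrFun (hβ g) l, Finset.sum_apply]
    simp only [Pi.smul_apply, smul_eq_mul, map_sum, map_mul, Finset.mul_sum, mul_assoc]

/-- **Quasi-coherent modules of finite type are coherent.** -/
theorem isCohF_of_qcoh_ft (𝔉 : ModF 𝔛 hloc.1) (hq : SheafOfModules.IsQuasicoherent.{u} 𝔉)
    (hft : SheafOfModules.IsFiniteType.{u} 𝔉) : IsCohF 𝔛 hloc.1 𝔉 :=
  isCohF_of_finGen hloc 𝔉 hq fun p => FModLib.exists_finGen 𝔉 hft p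

theorem finGen_of_epi {𝔉 𝔊 : ModF 𝔛 hloc.1} (h𝔉 : IsCohF 𝔛 hloc.1 𝔉) (π : 𝔉 ⟶ 𝔊) [Epi π] :
    FinGen hloc 𝔊 := fun p => by
  obtain ⟨V, hV, hpV, -⟩ := Opens.isBasis_iff_nbhd.mp (𝔛.X 0).isBasis_affineOpens (U := ⊤) (x := p) trivial
  obtain ⟨ι, κ, _, _, ⟨D⟩⟩ := exists_presOn hloc h𝔉 hV
  refine ⟨V, ι, inferInstance, fun i => π.val.app (op V) (D.e i), hpV, fun V' hV' x q hq => ?_⟩
  obtain ⟨W₀, g, ⟨x', hx'⟩, hqW₀⟩ := exists_of_loc_opens (_root_.ModSiteLib.loc_of_epi π (V := V') x) hq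
  obtain ⟨W₁, hW₁, c, hqW₁, hc⟩ := D.pres.gen W₀ (g.le.trans hV') x' q hqW₀
  refine ⟨W₁, hW₁.trans g.le, c, hqW₁, Eq.trans ?_ (app_lc π _ D.e c)⟩
  refine Eq.trans ?_ ((PresheafOfModules.naturality_apply π.val (homOfLE hW₁).op x').symm.trans
    (congrArg (π.val.app (op W₁)) hc))
  exact (FModLib.mres_mres _ hW₁ g.le x).symm.trans (congrArg (mres 𝔊 hW₁) hx'.symm)

theorem finGen_of_mono {𝔉 𝔊 : ModF 𝔛 hloc.1} (h𝔉 : IsCohF 𝔛 hloc.1 𝔉) (hq : SheafOfModules.IsQuasicoherent.{u} 𝔊)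
    (m : 𝔊 ⟶ 𝔉) [Mono m] : FinGen hloc 𝔊 := fun p => by
  classical
  obtain ⟨U, σ, κ, s, r, hpU, Q⟩ := FModLib.exists_qPres 𝔊 hq p
  obtain ⟨V, hV, hpV, hVU⟩ := Opens.isBasis_iff_nbhd.mp (𝔛.X 0).isBasis_affineOpens (U := U) (x := p) hpU
  obtain ⟨ι, μ, _, _, ⟨D⟩⟩ := exists_presOn hloc h𝔉 hV
  let R := RSec (𝔛.Osh hloc.1) V
  obtain ⟨-, hN, -⟩ := exists_adic hloc hV
  have : Module.Finite R (MSec 𝔉 V) := ⟨Submodule.fg_def.2 ⟨Set.range fun i => mres 𝔉 le_rfl (D.e i),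
    Set.finite_range _, eq_top_iff.2 fun x _ => by
      obtain ⟨b, rfl⟩ := exists_comb hloc h𝔉 D hV le_rfl x
      exact Submodule.sum_mem _ fun i _ => Submodule.smul_mem _ _ (Submodule.subset_span ⟨i, rfl⟩)⟩⟩
  let sV : σ → MSec 𝔊 V := fun i => mres 𝔊 hVU (s i)
  let f : MSec 𝔊 V →ₗ[R] MSec 𝔉 V := (m.val.app (op V)).hom
  have hf : Function.Injective f := _root_.ModSiteLib.injective_ap_of_mono m V
  have : IsNoetherian R (MSec 𝔊 V) := isNoetherian_of_injective f hf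
  obtain ⟨T, hT, hTs⟩ := (Submodule.fg_span_iff_fg_span_finset_subset (R := R) (Set.range sV)).1
    (IsNoetherian.noetherian _)
  refine ⟨V, T, inferInstance, fun t => t.1, hpV, fun V' hV' x q hq => ?_⟩
  obtain ⟨W, hW, F, c, hqW, hc⟩ := Q.gen V' (hV'.trans hVU) x q hq
  have hβ : ∀ i : σ, ∃ β : T → R, ∑ t, β t • t.1 = sV i := fun i => by
    have h : sV i ∈ Submodule.span R (Set.range sV) := Submodule.subset_span ⟨i, rfl⟩
    rw [hTs, ← Subtype.range_coe (s := (T : Set (MSec 𝔊 V)))] at h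
    exact (Submodule.mem_span_range_iff_exists_fun R).1 h
  choose β hβ using hβ
  have hWV := hW.trans hV'
  refine ⟨W, hW, fun t => ∑ i ∈ F, c i * rres (𝔛.Osh hloc.1) hWV (β i t), hqW, hc.trans ?_⟩
  refine Eq.trans ?_ ((Finset.sum_congr rfl fun t _ => Finset.sum_smul).trans Finset.sum_comm).symm
  refine Finset.sum_congr rfl fun i _ => ?_
  refine Eq.trans ?_ (Finset.sum_congr rfl fun t _ => mul_smul (c i) _ _).symm
  refine Eq.trans ?_ Finset.smul_sum
  refine congrArg (fun z : MSec 𝔊 W => c i • z) ?_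
  refine (FModLib.mres_mres 𝔊 hWV hVU (s i)).symm.trans ((congrArg (mres 𝔊 hWV) (hβ i).symm).trans ?_)
  exact (map_sum (𝔊.val.map (homOfLE hWV).op).hom _ _).trans
    (Finset.sum_congr rfl fun t _ => PresheafOfModules.map_smul 𝔊.val (homOfLE hWV).op _ _)

end FCohLib

end
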