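import Groth.Agent.FModLib.LimPres

/-!
# Sections of the limit of modules on the levels
-/

set_option autoImplicit false
set_option linter.style.haveILetI false
set_option maxHeartbeats 800000

universe u

open CategoryTheory CategoryTheory.Limits AlgebraicGeometry TopologicalSpace Opposite FSch
open FModLib (MSec RSec oK)

noncomputable section

namespace FCohLib

variable {𝔛 : Sys.{u}} (h : 𝔛.IsFormal) (G : ∀ k, (𝔛.X k).Modules)
  (t : ∀ k, G (k + 1) ⟶ (Scheme.Modules.pushforward (𝔛.ι k)).obj (G k))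

/-- The transition map on sections. -/
def lvT (k : ℕ) (V : (𝔛.X 0).Opens) (m : Γ(G (k + 1), 𝔛.lvU h (k + 1) V)) : Γ(G k, 𝔛.lvU h k V) :=
  (G k).presheaf.map (homOfLE (𝔛.lvU_le h k V)).op ((t k).app (𝔛.lvU h (k + 1) V) m)

theorem lvT_eq (k : ℕ) (V : (𝔛.X 0).Opens) (m : Γ(G (k + 1), 𝔛.lvU h (k + 1) V)) :
    ((levelMor 𝔛 h (k + 1)).push.map (t k) ≫ (pushCompare 𝔛 h k).app (G k)).val.app (op V) m = lvT h G t k V m :=
  rfl

theorem lvT_add (k : ℕ) (V : (𝔛.X 0).Opens) (a b : Γ(G (k + 1), 𝔛.lvU h (k + 1) V)) :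
    lvT h G t k V (a + b) = lvT h G t k V a + lvT h G t k V b := by
  exact (congrArg ((G k).presheaf.map (homOfLE (𝔛.lvU_le h k V)).op) (map_add _ a b)).trans (map_add _ _ _)

theorem lvT_zero (k : ℕ) (V : (𝔛.X 0).Opens) : lvT h G t k V 0 = 0 := by
  exact (congrArg ((G k).presheaf.map (homOfLE (𝔛.lvU_le h k V)).op) (map_zero _)).trans (map_zero _)

theorem lvT_smul (k : ℕ) (V : (𝔛.X 0).Opens) (c : Γ(𝔛.X (k + 1), 𝔛.lvU h (k + 1) V))
    (m : Γ(G (k + 1), 𝔛.lvU h (k + 1) V)) :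
    lvT h G t k V (c • m) =
      (show Γ(𝔛.X k, 𝔛.lvU h k V) from (𝔛.levelMap h k).hom.app (op V) c) • lvT h G t k V m := by
  refine (congrArg ((G k).presheaf.map (homOfLE (𝔛.lvU_le h k V)).op) ((t k).app_smul c m)).trans ?_
  exact Scheme.Modules.map_smul (G k) (homOfLE (𝔛.lvU_le h k V)) ((𝔛.ι k).app _ c) _

/-- The projection on sections. -/
abbrev rp (k : ℕ) (V : (𝔛.X 0).Opens) (x : MSec (realLim 𝔛 h G t) V) : MSec (G k) (𝔛.lvU h k V) :=
  (realProj 𝔛 h G t k).val.app (op V) x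

theorem rp_smul (k : ℕ) {V : (𝔛.X 0).Opens} (b : RSec (𝔛.Osh h) V) (x : MSec (realLim 𝔛 h G t) V) :
    rp h G t k V (b • x) = oK h k V b • rp h G t k V x :=
  map_smul ((realProj 𝔛 h G t k).val.app (op V)).hom b x

theorem rp_mres (k : ℕ) {W V : (𝔛.X 0).Opens} (hW : W ≤ V) (x : MSec (realLim 𝔛 h G t) V) :
    rp h G t k W (FModLib.mres (realLim 𝔛 h G t) hW x) =
      FModLib.mres (G k) ((Opens.map (𝔛.gInv h k)).monotone hW) (rp h G t k V x) :=
  PresheafOfModules.naturality_apply (realProj 𝔛 h G t k).val (homOfLE hW).op x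

theorem rp_succ (k : ℕ) (V : (𝔛.X 0).Opens) (x : MSec (realLim 𝔛 h G t) V) :
    lvT h G t k V (rp h G t (k + 1) V x) = rp h G t k V x :=
  congr($(congrArg (fun a : realLim 𝔛 h G t ⟶ (levelMor 𝔛 h k).push.obj (G k) => a.val.app (op V))
    (realProj_map 𝔛 h G t k)) x)

/-- Sections form the limit. -/
def secLimit (V : (𝔛.X 0).Opens) :
    IsLimit ((SheafOfModules.evaluation (ModSite.ringSh (𝔛.Osh h)) (op V)).mapCone (limit.cone (levelSysOf 𝔛 h G t))) :=
  isLimitOfPreserves _ (limit.isLimit _)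

theorem rp_ext {V : (𝔛.X 0).Opens} {x y : MSec (realLim 𝔛 h G t) V}
    (hxy : ∀ k, rp h G t k V x = rp h G t k V y) : x = y :=
  Concrete.isLimit_ext _ (secLimit h G t V) x y fun ⟨k⟩ => hxy k

/-- Compatible families are sections. -/
theorem exists_rp {V : (𝔛.X 0).Opens} (s : ∀ k, Γ(G k, 𝔛.lvU h k V)) (hs : ∀ k, lvT h G t k V (s (k + 1)) = s k) :
    ∃ x : MSec (realLim 𝔛 h G t) V, ∀ k, rp h G t k V x = s k := by
  let D : ℕᵒᵖ ⥤ _ := levelSysOf 𝔛 h G t ⋙ SheafOfModules.evaluation (ModSite.ringSh (𝔛.Osh h)) (op V)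
  have hst : ∀ k (m : D.obj (op (k + 1))), D.map (homOfLE (Nat.le_succ k)).op m = lvT h G t k V m := fun k m =>
    congr($(congrArg (fun a : (levelSysOf 𝔛 h G t).obj (op (k + 1)) ⟶ (levelSysOf 𝔛 h G t).obj (op k) =>
      a.val.app (op V)) (levelSysOf_map_succ 𝔛 h G t k)) m)
  have key : ∀ d n, D.map (homOfLE (Nat.le_add_right n d)).op (s (n + d)) = s n := by
    intro d
    induction d with
    | zero =>
      intro n
      exact congr($(D.map_id (op n)) (s n))
    | succ d ih =>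
      intro n
      have e : D.map (homOfLE (Nat.le_add_right n (d + 1))).op =
          D.map (homOfLE (Nat.le_succ (n + d))).op ≫ D.map (homOfLE (Nat.le_add_right n d)).op :=
        (congrArg D.map (Subsingleton.elim _ _)).trans (D.map_comp _ _)
      refine (congr($e (s (n + d + 1)))).trans ?_
      refine (congrArg (D.map (homOfLE (Nat.le_add_right n d)).op) ?_).trans (ih n)
      exact (hst (n + d) _).trans (hs (n + d))
  let σ : (D ⋙ forget _).sections := ⟨fun n => s n.unop, fun {m n} f => by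
    obtain ⟨d, hd⟩ := Nat.le.dest (leOfHom f.unop)
    obtain ⟨m⟩ := m
    obtain ⟨n⟩ := n
    obtain rfl : n + d = m := hd
    exact (congrArg (fun p => D.map p (s (n + d))) (Subsingleton.elim f _)).trans (key d n)⟩
  let hc := isLimitOfPreserves (forget _) (secLimit h G t V)
  exact ⟨(Types.isLimitEquivSections hc).symm σ, fun n => Types.isLimitEquivSections_symm_apply hc σ (op n)⟩

end FCohLib

end
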